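import Mathlib

set_option autoImplicit false

/-!
Orders of elements of `GL_n` over a finite field: the bound for elements of order prime to the
characteristic and the existence of Singer elements in every degree.
-/

namespace Cfsg.Agent.GLOrders

open Polynomial Matrix

variable {F : Type*} [Field F] [Fintype F]

theorem pow_eq_self_of_deg {L : Type*} [Field L] [Algebra F L] (x : L) (hx : IsIntegral F x) :
    x ^ (Fintype.card F ^ (minpoly F x).natDegree) = x := by
  have : FiniteDimensional F (IntermediateField.adjoin F ({x} : Set L)) :=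
    IntermediateField.adjoin.finiteDimensional hx
  have : Finite (IntermediateField.adjoin F ({x} : Set L)) := Module.finite_of_finite F
  have : Fintype (IntermediateField.adjoin F ({x} : Set L)) := Fintype.ofFinite _
  have hc : Fintype.card (IntermediateField.adjoin F ({x} : Set L))
      = Fintype.card F ^ (minpoly F x).natDegree := by
    rw [Module.card_eq_pow_finrank (K := F), IntermediateField.adjoin.finrank hx]
  have h := congrArg Subtype.val
    (FiniteField.pow_card (⟨x, IntermediateField.mem_adjoin_simple_self F x⟩ :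
      IntermediateField.adjoin F ({x} : Set L)))
  rw [hc] at h
  simpa using h

/-- An element of `GL_n(q)` of order prime to the characteristic has order dividing every common
multiple of the numbers `q^d - 1`, `1 ≤ d ≤ n`. -/
theorem pow_eq_one_of_multiple {n : ℕ} (g : GL (Fin n) F) (hg : ((orderOf g : ℕ) : F) ≠ 0)
    (L : ℕ) (hL : ∀ d, 1 ≤ d → d ≤ n → (Fintype.card F ^ d - 1) ∣ L) : g ^ L = 1 := by
  classical
  rcases Nat.eq_zero_or_pos L with hL0 | hL0
  · simp [hL0]
  set A : Matrix (Fin n) (Fin n) F := (g : Matrix (Fin n) (Fin n) F) with hA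
  set m := orderOf g with hm
  have hm0 : m ≠ 0 := by
    intro h; exact hg (by simp [h])
  have hAm : aeval A (X ^ m - 1 : F[X]) = 0 := by
    simp [hA, hm, ← Units.val_pow_eq_pow_val, pow_orderOf_eq_one]
  have hdvd : minpoly F A ∣ X ^ m - 1 := minpoly.dvd F A hAm
  have hsep : (X ^ m - C (1 : F)).Separable := separable_X_pow_sub_C 1 hg one_ne_zero
  rw [map_one] at hsep
  have hsep' : (minpoly F A).Separable := hsep.of_dvd hdvd
  let AC := AlgebraicClosure F
  have hXL : (X ^ L - 1 : AC[X]) ≠ 0 := by
    rw [← map_one C]; exact X_pow_sub_C_ne_zero hL0 1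
  have hne : (minpoly F A).map (algebraMap F AC) ≠ 0 :=
    Polynomial.map_ne_zero (minpoly.ne_zero (Matrix.isIntegral A))
  have h1 : (minpoly F A).map (algebraMap F AC) ∣ X ^ L - 1 := by
    rw [IsAlgClosed.dvd_iff_roots_le_roots hne hXL,
      Multiset.le_iff_subset (nodup_roots hsep'.map)]
    intro x hx
    rw [mem_roots hne, IsRoot.def, eval_map_algebraMap] at hx
    have hint : IsIntegral F x := Algebra.IsIntegral.isIntegral x
    have hx0 : x ≠ 0 := by
      intro h0
      obtain ⟨r, hr⟩ := hdvd
      have := congrArg (aeval x) hr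
      simp [h0, map_mul, aeval_def, zero_pow hm0] at this hx
      simp [hx] at this
    have hd : (minpoly F x).natDegree ≤ n := by
      have hcp : minpoly F x ∣ A.charpoly :=
        (minpoly.dvd F x hx).trans (Matrix.minpoly_dvd_charpoly A)
      have := natDegree_le_of_dvd hcp (Matrix.charpoly_monic A).ne_zero
      simpa [Matrix.charpoly_natDegree_eq_dim] using this
    have hd1 : 1 ≤ (minpoly F x).natDegree := minpoly.natDegree_pos hint
    obtain ⟨k, hk⟩ := hL _ hd1 hd
    have hq : 1 ≤ Fintype.card F ^ (minpoly F x).natDegree := Nat.one_le_pow _ _ Fintype.card_pos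
    have hxq : x ^ (Fintype.card F ^ (minpoly F x).natDegree - 1) = 1 := by
      have := pow_eq_self_of_deg x hint
      rw [← Nat.sub_add_cancel hq, pow_succ] at this
      exact mul_right_cancel₀ hx0 (by rw [one_mul]; exact this)
    rw [mem_roots hXL]
    simp [hk, pow_mul, hxq]
  have h2 : minpoly F A ∣ X ^ L - 1 := by
    rw [← Polynomial.map_dvd_map' (algebraMap F AC)]
    simpa using h1
  have h3 := minpoly.dvd_iff.mp h2
  apply Units.ext
  simpa [hA, sub_eq_zero] using h3

/-- Put an invertible `d × d` matrix in the top left corner of an `n × n` identity matrix. -/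
def blockEmbed (R : Type*) [CommRing R] {d n : ℕ} (h : d ≤ n) : GL (Fin d) R →* GL (Fin n) R :=
  Units.map
    { toFun := fun A => Matrix.reindexAlgEquiv R R
        (finSumFinEquiv.trans (finCongr (Nat.add_sub_cancel' h)))
        (Matrix.fromBlocks A 0 0 (1 : Matrix (Fin (n - d)) (Fin (n - d)) R))
      map_one' := by rw [Matrix.fromBlocks_one, map_one]
      map_mul' := fun A B => by rw [← map_mul, Matrix.fromBlocks_multiply]; simp }

theorem blockEmbed_injective (R : Type*) [CommRing R] {d n : ℕ} (h : d ≤ n) :
    Function.Injective (blockEmbed R h) := by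
  intro A B hAB
  have := (Matrix.reindexAlgEquiv R R _).injective (congrArg Units.val hAB)
  exact Units.ext (Matrix.fromBlocks_inj.mp this).1

/-- For `1 ≤ d ≤ n` the group `GL_n(q)` has an element of order `q^d - 1`. -/
theorem exists_orderOf_eq_pow_sub_one {d n : ℕ} (hd : 1 ≤ d) (h : d ≤ n) :
    ∃ g : GL (Fin n) F, orderOf g = Fintype.card F ^ d - 1 := by
  obtain ⟨p, hp⟩ := CharP.exists F
  have : Fact p.Prime := ⟨CharP.char_is_prime F p⟩
  have : NeZero d := ⟨by omega⟩
  let E := FiniteField.Extension F p d
  have : Fintype E := Fintype.ofFinite E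
  let b : Module.Basis (Fin d) F E :=
    Module.finBasisOfFinrankEq F E (FiniteField.finrank_extension F p d)
  let φ : Eˣ →* GL (Fin n) F :=
    (blockEmbed F h).comp (Units.map (Algebra.leftMulMatrix b).toMonoidHom)
  have hφ : Function.Injective φ := (blockEmbed_injective F h).comp
    (Units.map_injective (f := (Algebra.leftMulMatrix b).toMonoidHom)
      (Algebra.leftMulMatrix_injective b))
  obtain ⟨u, hu⟩ := IsCyclic.exists_generator (α := Eˣ)
  refine ⟨φ u, ?_⟩
  rw [orderOf_injective φ hφ, orderOf_eq_card_of_forall_mem_zpowers hu, Nat.card_units,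
    FiniteField.natCard_extension, Nat.card_eq_fintype_card]

end Cfsg.Agent.GLOrders
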