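import Cfsg.Agent.Lib.GLOrders.PrimeGraphRS
import Cfsg.Agent.Lib.Forms.Alt

/-!
Commuting isometries of coprime orders of a symplectic space.
-/

set_option autoImplicit false

namespace Cfsg.Agent.GLOrders

open Module Polynomial

variable {F : Type*} [Field F] [Fintype F] {V : Type*} [AddCommGroup V] [Module F V] [FiniteDimensional F V]

/-- A subspace on which the form is non-degenerate. -/
def NonDegOn (B : LinearMap.BilinForm F V) (W : Submodule F V) : Prop :=
  ∀ u ∈ W, (∀ v ∈ W, B u v = 0) → u = 0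

variable {B : LinearMap.BilinForm F V}

omit [Fintype F] [FiniteDimensional F V] in
theorem nonDegOn_top (hB : LinearMap.Nondegenerate B) : NonDegOn B ⊤ :=
  fun u _ h => hB.1 u fun v => h v trivial

theorem even_finrank_of_nonDegOn (hA : LinearMap.IsAlt B) {W : Submodule F V} (hW : NonDegOn B W) :
    Even (finrank F W) := by
  classical
  have hA' : LinearMap.IsAlt (B.restrict W) := fun u => hA (u : V)
  have h1 : ∀ u : W, (∀ v : W, (B.restrict W) u v = 0) → u = 0 := fun u h =>
    Subtype.ext (hW u u.2 fun v hv => h ⟨v, hv⟩)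
  have hB' : LinearMap.Nondegenerate (B.restrict W) :=
    ⟨h1, fun v h => h1 v fun u => by rw [← hA'.neg u v, h u, neg_zero]⟩
  obtain ⟨m, b, -⟩ := FormsLib.exists_symplectic_basis_nondeg hA' hB'
  have := Module.finrank_eq_card_basis b
  rw [Fintype.card_sum, Fintype.card_fin] at this
  exact ⟨m, this⟩

omit [Fintype F] [FiniteDimensional F V] in
theorem preserves_pow {S : Module.End F V} (h : ∀ u v, B (S u) (S v) = B u v) (j : ℕ) :
    ∀ u v, B ((S ^ j) u) ((S ^ j) v) = B u v := by
  induction j with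
  | zero => simp
  | succ j ih => intro u v; rw [pow_succ, Module.End.mul_apply, Module.End.mul_apply, ih, h]

/-- The part moved by an isometry of order prime to the characteristic. -/
theorem nonDegOn_moved {r : ℕ} (hr : (r : F) ≠ 0) {S : Module.End F V} (hS : S ^ r = 1)
    (hp : ∀ u v, B (S u) (S v) = B u v) {W : Submodule F V} (hinv : ∀ v ∈ W, S v ∈ W)
    (hW : NonDegOn B W) :
    NonDegOn B (W.map (S - 1)) ∧ W.map (S - 1) ≤ W ∧
      (∀ v ∈ W.map (S - 1), S v ∈ W.map (S - 1)) ∧ (∀ v ∈ W.map (S - 1), S v = v → v = 0) ∧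
      finrank F ↥(W ⊓ LinearMap.ker (S - 1)) + finrank F ↥(W.map (S - 1)) = finrank F W ∧
      NonDegOn B (W ⊓ LinearMap.ker (S - 1)) ∧
      (W ⊓ LinearMap.ker (S - 1)) ⊔ W.map (S - 1) = W := by
  obtain ⟨hfpf, -, -⟩ := splitting hr hS
  have hle : W.map (S - 1) ≤ W := by
    rintro _ ⟨u, hu, rfl⟩
    rw [LinearMap.sub_apply, Module.End.one_apply]
    exact W.sub_mem (hinv u hu) hu
  have hfpf' : ∀ v ∈ W.map (S - 1), S v = v → v = 0 := by
    rintro _ ⟨u, -, rfl⟩ h; exact hfpf _ ⟨u, rfl⟩ h
  have hdim : finrank F ↥(W ⊓ LinearMap.ker (S - 1)) + finrank F ↥(W.map (S - 1)) = finrank F W := by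
    have h := ((S - 1).domRestrict W).finrank_range_add_finrank_ker
    rw [LinearMap.range_domRestrict, LinearMap.ker_domRestrict] at h
    have e : finrank F ↥(Submodule.comap W.subtype (LinearMap.ker (S - 1))) = finrank F ↥(W ⊓ LinearMap.ker (S - 1)) := by
      rw [← Submodule.finrank_map_subtype_eq, Submodule.map_comap_subtype]
    rw [← e, add_comm]
    exact h
  have hsup : (W ⊓ LinearMap.ker (S - 1)) ⊔ W.map (S - 1) = W := by
    refine Submodule.eq_of_le_of_finrank_le (sup_le inf_le_left hle) ?_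
    have hd : (W ⊓ LinearMap.ker (S - 1)) ⊓ W.map (S - 1) = ⊥ := by
      rw [eq_bot_iff]
      rintro v ⟨⟨-, h1⟩, h2⟩
      exact (Submodule.mem_bot F).mpr (hfpf' v h2 (by simpa [sub_eq_zero] using h1))
    have := Submodule.finrank_sup_add_finrank_inf_eq (W ⊓ LinearMap.ker (S - 1)) (W.map (S - 1))
    rw [hd, finrank_bot] at this
    omega
  have horth : ∀ x, S x = x → ∀ u, B x ((S - 1) u) = 0 ∧ B ((S - 1) u) x = 0 := by
    intro x hx u
    constructor
    · have h := hp x u
      rw [hx] at h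
      rw [LinearMap.sub_apply, Module.End.one_apply, map_sub, h, sub_self]
    · have h := hp u x
      rw [hx] at h
      rw [LinearMap.sub_apply, Module.End.one_apply, map_sub, LinearMap.sub_apply, h, sub_self]
  refine ⟨?_, hle, ?_, hfpf', hdim, ?_, hsup⟩
  · intro u hu h
    refine hW u (hle hu) fun v hv => ?_
    rw [← hsup] at hv
    obtain ⟨x, hx, y, hy, rfl⟩ := Submodule.mem_sup.mp hv
    obtain ⟨u', -, rfl⟩ := hu
    rw [map_add, h y hy, add_zero]
    exact (horth x (by simpa [sub_eq_zero] using hx.2) u').2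
  · rintro _ ⟨u, hu, rfl⟩
    exact ⟨S u, hinv u hu, by simp⟩
  · intro u hu h
    refine hW u hu.1 fun v hv => ?_
    rw [← hsup] at hv
    obtain ⟨x, hx, y, hy, rfl⟩ := Submodule.mem_sup.mp hv
    obtain ⟨y', -, rfl⟩ := hy
    rw [map_add, h x hx, zero_add]
    exact (horth u (by simpa [sub_eq_zero] using hu.2) y').1

omit [Fintype F] in
theorem ker_inv {S T : Module.End F V} (hc : Commute S T) :
    ∀ v ∈ LinearMap.ker (S - 1), T v ∈ LinearMap.ker (S - 1) := fun v hv => by
  have hv' : S v = v := by simpa [sub_eq_zero] using hv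
  have h : S (T v) = T (S v) := LinearMap.congr_fun hc.eq v
  simp [h, hv']

theorem even_or_two_dvd {k η : ℕ} (hη : (Odd k ∧ η = k) ∨ (Even k ∧ 2 * η = k)) {D : ℕ} (hD : Even D)
    (hk : k ∣ D) : 2 * η ∣ D := by
  rcases hη with ⟨ho, rfl⟩ | ⟨-, rfl⟩
  · exact (Nat.coprime_two_left.mpr ho).mul_dvd_of_dvd_of_dvd (even_iff_two_dvd.mp hD) hk
  · exact hk

omit [Fintype F] [FiniteDimensional F V] in
theorem commute_aeval {S T : Module.End F V} (hc : Commute S T) (g : F[X]) : Commute S (aeval T g) := by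
  induction g using Polynomial.induction_on' with
  | add a b ha hb => rw [map_add]; exact ha.add_right hb
  | monomial j c => rw [aeval_monomial, ← Algebra.smul_def]; exact (hc.pow_right j).smul_right c

/-- An isometry of order `r` commuting with a non-trivial unipotent isometry. -/
theorem symp_rp {p : ℕ} [Fact p.Prime] [CharP F p] {r : ℕ} [Fact r.Prime] (hr2 : r ≠ 2) (hr : (r : F) ≠ 0)
    (hA : LinearMap.IsAlt B) (hB : LinearMap.Nondegenerate B) {S U : Module.End F V} {e : ℕ}
    (hc : Commute S U) (hS : S ^ r = 1) (hS1 : S ≠ 1) (hU : U ^ p ^ e = 1) (hU1 : U ≠ 1)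
    (hpS : ∀ u v, B (S u) (S v) = B u v) (hpU : ∀ u v, B (U u) (U v) = B u v)
    {k η : ℕ} (hk : k = orderOf ((Fintype.card F : ℕ) : ZMod r))
    (hη : (Odd k ∧ η = k) ∨ (Even k ∧ 2 * η = k)) :
    2 * η + 2 ≤ finrank F V := by
  classical
  obtain ⟨hWn, -, hWS, hfpf, hdim, hXn, hsup⟩ :=
    nonDegOn_moved hr hS hpS (W := ⊤) (fun _ _ => trivial) (nonDegOn_top hB)
  set W := (⊤ : Submodule F V).map (S - 1) with hW
  set X₀ := (⊤ : Submodule F V) ⊓ LinearMap.ker (S - 1) with hX
  rw [finrank_top] at hdim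
  have hcv : ∀ v, S (U v) = U (S v) := fun v => LinearMap.congr_fun hc.eq v
  have hWU : ∀ v ∈ W, U v ∈ W := by
    rintro _ ⟨u, -, rfl⟩; exact ⟨U u, trivial, by simp [hcv]⟩
  have hkW : k ∣ finrank F W := hk ▸ order_dvd_finrank hS hWS hfpf
  have hWev := even_finrank_of_nonDegOn hA hWn
  have h2η := even_or_two_dvd hη hWev hkW
  have hk0 : 0 < k := by
    rcases Nat.eq_zero_or_pos k with rfl | h
    · exfalso
      have hz : finrank F W = 0 := zero_dvd_iff.mp hkW
      refine hS1 (LinearMap.ext fun v => ?_)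
      have hm : (S - 1) v ∈ W := ⟨v, trivial, rfl⟩
      rw [Submodule.finrank_eq_zero.mp hz, Submodule.mem_bot] at hm
      simpa [sub_eq_zero] using hm
    · exact h
  by_cases hXU : ∃ v ∈ X₀, U v ≠ v
  · obtain ⟨a, b⟩ := unipotent_fix (X := X₀) hU (fun v hv => ⟨trivial, ker_inv hc v hv.2⟩) hXU
    have hWpos : 0 < finrank F W := by
      obtain ⟨v, hv⟩ : ∃ v, S v ≠ v := by
        by_contra h; push Not at h; exact hS1 (LinearMap.ext fun v => h v)
      haveI : Nontrivial W :=
        ⟨⟨⟨(S - 1) v, ⟨v, trivial, rfl⟩⟩, 0, fun h => hv (by simpa [sub_eq_zero] using congrArg Subtype.val h)⟩⟩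
      exact Module.finrank_pos
    have := Nat.le_of_dvd hWpos h2η
    omega
  · push Not at hXU
    have hWne : ∃ v ∈ W, U v ≠ v := by
      by_contra hW'; push Not at hW'
      refine hU1 (LinearMap.ext fun v => ?_)
      obtain ⟨a, ha, b, hb, rfl⟩ := Submodule.mem_sup.mp (show v ∈ X₀ ⊔ W by rw [hsup]; trivial)
      rw [map_add, hXU a ha, hW' b hb, Module.End.one_apply]
    obtain ⟨a, b⟩ := unipotent_fix hU hWU hWne
    set Y := W ⊓ LinearMap.ker (U - 1) with hY
    have hYS : ∀ v ∈ Y, S v ∈ Y := fun v hv => ⟨hWS v hv.1, ker_inv hc.symm v hv.2⟩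
    have hkY : k ∣ finrank F Y := hk ▸ order_dvd_finrank hS hYS (fun v hv h => hfpf v hv.1 h)
    have hk1 := Nat.le_of_dvd a hkY
    have hk2 := Nat.le_of_dvd (by omega) (Nat.dvd_sub hkW hkY)
    have hWle := Submodule.finrank_le W
    rcases hη with ⟨hodd, rfl⟩ | ⟨hev, rfl⟩
    swap
    · omega
    by_contra hcon
    have hW2 : finrank F W = 2 * η := by
      have h1 : 2 * η ≤ finrank F W := Nat.le_of_dvd (by omega) h2η
      obtain ⟨c, hc'⟩ := h2η
      rcases c with _ | _ | c
      · omega
      · simpa using hc'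
      · nlinarith
    have hY2 : finrank F Y = η := by omega
    -- `(U - 1) W` is the fixed space
    set N := U - 1 with hN
    have hcN : ∀ v, S (N v) = N (S v) := fun v => by simp [hN, hcv]
    obtain ⟨hN0, hNW⟩ : (∃ v ∈ W, N v ≠ 0) ∧ W.map N ≤ W := by
      refine ⟨?_, ?_⟩
      · obtain ⟨v, hv, hne⟩ := hWne
        exact ⟨v, hv, by simpa [hN, sub_eq_zero] using hne⟩
      · rintro _ ⟨u, hu, rfl⟩
        simp only [hN, LinearMap.sub_apply, Module.End.one_apply]
        exact W.sub_mem (hWU u hu) hu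
    set Z := W.map N with hZ
    have hZU : ∀ v ∈ Z, U v ∈ Z := by
      rintro _ ⟨u, hu, rfl⟩; exact ⟨U u, hWU u hu, by simp [hN]⟩
    have hZdim : finrank F Z = η := by
      have h := (N.domRestrict W).finrank_range_add_finrank_ker
      rw [LinearMap.range_domRestrict, LinearMap.ker_domRestrict] at h
      have e : finrank F ↥(Submodule.comap W.subtype (LinearMap.ker N)) = finrank F Y := by
        rw [← Submodule.finrank_map_subtype_eq, Submodule.map_comap_subtype]
      have h' : finrank F Z + finrank F Y = finrank F W := by rw [← e]; exact h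
      omega
    have hZY : Z ≤ Y := by
      intro v hv
      refine ⟨hNW hv, ?_⟩
      by_contra hvk
      have h3 := unipotent_fix hU hZU ⟨v, hv, fun h => hvk (by simp [h])⟩
      have hZS : ∀ v ∈ Z ⊓ LinearMap.ker N, S v ∈ Z ⊓ LinearMap.ker N := by
        rintro _ ⟨⟨u, hu, rfl⟩, h2⟩
        exact ⟨⟨S u, hWS u hu, (hcN u).symm⟩, ker_inv hc.symm _ h2⟩
      have h4 : η ∣ finrank F ↥(Z ⊓ LinearMap.ker N) :=
        hk ▸ order_dvd_finrank hS hZS (fun v hv h => hfpf v (hNW hv.1) h)
      have := Nat.le_of_dvd h3.1 h4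
      omega
    have hUY : ∀ v ∈ Y, U v = v := fun v hv => by simpa [sub_eq_zero] using hv.2
    have hUinv : ∀ u ∈ W, U u = u + N u := fun u _ => by simp [hN]
    have hskew : ∀ u ∈ W, ∀ v ∈ W, B (N u) v + B u (N v) + B (N u) (N v) = 0 := by
      intro u hu v hv
      have := hpU u v
      rw [hUinv u hu, hUinv v hv] at this
      simp only [map_add, LinearMap.add_apply] at this
      linear_combination this
    have hNN : ∀ u ∈ W, ∀ v ∈ W, B (N u) (N v) = 0 := by
      intro u hu v hv
      have hv' : N (N v) = 0 := LinearMap.mem_ker.mp (hZY ⟨v, hv, rfl⟩).2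
      have := hskew u hu (N v) (hNW ⟨v, hv, rfl⟩)
      rw [hv', map_zero, map_zero, add_zero, add_zero] at this
      exact this
    have hNskew : ∀ u ∈ W, ∀ v ∈ W, B u (N v) = -B (N u) v := fun u hu v hv => by
      linear_combination hskew u hu v hv - hNN u hu v hv
    -- an alternating form of odd rank
    let Cf : LinearMap.BilinForm F V := B.compl₁₂ S N - (B.compl₁₂ S N).flip
    have hCf : ∀ u v, Cf u v = B (S u) (N v) - B (S v) (N u) := fun u v => rfl
    have hCA : LinearMap.IsAlt Cf := fun u => by rw [hCf, sub_self]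
    obtain ⟨C, hC⟩ : ∃ C : Submodule F W, IsCompl (Submodule.comap W.subtype (LinearMap.ker N)) C :=
      Submodule.exists_isCompl _
    set C' := C.map W.subtype with hC'
    have hC'dim : finrank F C' = η := by
      rw [hC', Submodule.finrank_map_subtype_eq]
      have := Submodule.finrank_add_eq_of_isCompl hC
      have e : finrank F ↥(Submodule.comap W.subtype (LinearMap.ker N)) = finrank F Y := by
        rw [← Submodule.finrank_map_subtype_eq, Submodule.map_comap_subtype]
      omega
    have hC'W : C' ≤ W := Submodule.map_subtype_le _ _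
    have hnd : NonDegOn Cf C' := by
      intro u hu h
      have huW := hC'W hu
      have hall : ∀ w ∈ W, Cf u w = 0 := by
        intro w hw
        obtain ⟨a, ha, c, hc', e⟩ := Submodule.mem_sup.mp
          (show (⟨w, hw⟩ : W) ∈ Submodule.comap W.subtype (LinearMap.ker N) ⊔ C by rw [hC.sup_eq_top]; trivial)
        have e' : (a : V) + (c : V) = w := congrArg Subtype.val e
        have ha' : N (a : V) = 0 := ha
        have hSa : B (S (a : V)) (N u) = 0 := by
          rw [hNskew _ (hWS _ a.2) u huW]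
          rw [show N (S (a : V)) = 0 by rw [← hcN, ha', map_zero], map_zero, LinearMap.zero_apply, neg_zero]
        rw [← e', map_add, h (c : V) ⟨c, hc', rfl⟩, add_zero, hCf, ha', map_zero, hSa, sub_zero]
      -- `(S - S⁻¹) W = W` pairs to zero with `N u`
      have hkey : ∀ w ∈ W, B ((S ^ (r - 1)) w - S w) (N u) = 0 := by
        intro w hw
        have h1 := hall w hw
        rw [hCf] at h1
        have hr1 : r - 1 + 1 = r := Nat.sub_add_cancel (Fact.out : r.Prime).one_le
        have hback : S ((S ^ (r - 1)) w) = w := by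
          rw [← Module.End.mul_apply, ← pow_succ', hr1, hS, Module.End.one_apply]
        have hSw : (S ^ (r - 1)) w ∈ W := pow_apply_mem hWS _ w hw
        have h2 : B (S u) (N w) = B ((S ^ (r - 1)) w) (N u) := by
          rw [show N w = S (N ((S ^ (r - 1)) w)) by rw [hcN, hback], hpS, hNskew u huW _ hSw]
          rw [← hA.neg ((S ^ (r - 1)) w) (N u)]
          ring
        rw [map_sub, LinearMap.sub_apply, ← h2]
        exact h1
      have hinj : ∀ w ∈ W, (S ^ (r - 1)) w - S w = 0 → w = 0 := by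
        intro w hw h0
        have h1 : S (S w) = w := by
          have := congrArg S (sub_eq_zero.mp h0)
          rw [← Module.End.mul_apply, ← pow_succ', Nat.sub_add_cancel (Fact.out : r.Prime).one_le, hS,
            Module.End.one_apply] at this
          exact this.symm
        refine hfpf w hw ?_
        obtain ⟨j, hj⟩ := (Fact.out : r.Prime).odd_of_ne_two hr2
        have hit : ∀ i : ℕ, (S ^ (2 * i)) w = w := by
          intro i
          induction i with
          | zero => simp
          | succ i ih => rw [mul_add, mul_one, pow_add, Module.End.mul_apply, pow_two, Module.End.mul_apply, h1, ih]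
        have := LinearMap.congr_fun hS w
        rw [hj, pow_succ', Module.End.mul_apply, hit, Module.End.one_apply] at this
        exact this
      let D : W →ₗ[F] W :=
        ((S ^ (r - 1) - S : Module.End F V).restrict fun w hw => by
          rw [LinearMap.sub_apply]; exact W.sub_mem (pow_apply_mem hWS _ w hw) (hWS w hw))
      have hDi : Function.Injective D := by
        rw [injective_iff_map_eq_zero]
        intro w hw
        exact Subtype.ext (hinj w w.2 (by simpa [D] using congrArg Subtype.val hw))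
      have hDs := LinearMap.injective_iff_surjective.mp hDi
      have hNu : N u = 0 := hWn (N u) (hNW ⟨u, huW, rfl⟩) fun v hv => by
        obtain ⟨w, hw⟩ := hDs ⟨v, hv⟩
        have e' : (S ^ (r - 1)) (w : V) - S (w : V) = v := congrArg Subtype.val hw
        rw [← e', ← hA.neg ((S ^ (r - 1)) (w : V) - S (w : V)) (N u), hkey w w.2, neg_zero]
      obtain ⟨u', hu', rfl⟩ := hu
      have : (u' : W) ∈ Submodule.comap W.subtype (LinearMap.ker N) ⊓ C := ⟨hNu, hu'⟩
      rw [hC.inf_eq_bot, Submodule.mem_bot] at this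
      rw [this, map_zero]
    have := even_finrank_of_nonDegOn hCA hnd
    rw [hC'dim] at this
    exact (Nat.not_even_iff_odd.mpr hodd) this

/-- Two commuting isometries of coprime prime orders. -/
theorem symp_rs {r s : ℕ} [Fact r.Prime] [Fact s.Prime] (hr2 : r ≠ 2) (hs2 : s ≠ 2) (hr : (r : F) ≠ 0)
    (hs : (s : F) ≠ 0) (hA : LinearMap.IsAlt B) (hB : LinearMap.Nondegenerate B) {S T : Module.End F V}
    (hc : Commute S T) (hS : S ^ r = 1) (hT : T ^ s = 1) (hS1 : S ≠ 1) (hT1 : T ≠ 1)
    (hpS : ∀ u v, B (S u) (S v) = B u v) (hpT : ∀ u v, B (T u) (T v) = B u v)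
    {k l ηk ηl : ℕ} (hk : k = orderOf ((Fintype.card F : ℕ) : ZMod r))
    (hl : l = orderOf ((Fintype.card F : ℕ) : ZMod s))
    (hηk : (Odd k ∧ ηk = k) ∨ (Even k ∧ 2 * ηk = k)) (hηl : (Odd l ∧ ηl = l) ∨ (Even l ∧ 2 * ηl = l))
    (hkl : ηk ≤ ηl) (hsmall : finrank F V < 2 * (ηk + ηl)) : ∃ t : ℕ, Odd t ∧ l = k * t := by
  classical
  obtain ⟨hWn, -, hWS, hfpf, hdim, hXn, hsup⟩ :=
    nonDegOn_moved hr hS hpS (W := ⊤) (fun _ _ => trivial) (nonDegOn_top hB)
  set W := (⊤ : Submodule F V).map (S - 1) with hW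
  set X₀ := (⊤ : Submodule F V) ⊓ LinearMap.ker (S - 1) with hX
  rw [finrank_top] at hdim
  have hcv : ∀ v, S (T v) = T (S v) := fun v => LinearMap.congr_fun hc.eq v
  have hWT : ∀ v ∈ W, T v ∈ W := by
    rintro _ ⟨u, -, rfl⟩; exact ⟨T u, trivial, by simp [hcv]⟩
  have hWpos : 0 < finrank F W := by
    obtain ⟨v, hv⟩ : ∃ v, S v ≠ v := by
      by_contra h; push Not at h; exact hS1 (LinearMap.ext fun v => h v)
    haveI : Nontrivial W :=
      ⟨⟨⟨(S - 1) v, ⟨v, trivial, rfl⟩⟩, 0, fun h => hv (by simpa [sub_eq_zero] using congrArg Subtype.val h)⟩⟩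
    exact Module.finrank_pos
  have hkW : 2 * ηk ∣ finrank F W :=
    even_or_two_dvd hηk (even_finrank_of_nonDegOn hA hWn) (hk ▸ order_dvd_finrank hS hWS hfpf)
  have hne : ∀ {U : Submodule F V}, (∃ v ∈ U, T v ≠ v) → 0 < finrank F ↥(Submodule.map (T - 1) U) := by
    rintro U ⟨v, hv, hTv⟩
    haveI : Nontrivial ↥(Submodule.map (T - 1) U) :=
      ⟨⟨⟨(T - 1) v, ⟨v, hv, rfl⟩⟩, 0, fun h => hTv (by simpa [sub_eq_zero] using congrArg Subtype.val h)⟩⟩
    exact Module.finrank_pos
  have hXT : ∀ v ∈ X₀, T v ∈ X₀ := fun v hv => ⟨trivial, ker_inv hc v hv.2⟩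
  by_cases hXne : ∃ v ∈ X₀, T v ≠ v
  · exfalso
    obtain ⟨hn', hle', hS', hf', -, -, -⟩ := nonDegOn_moved hs hT hpT hXT hXn
    have h1 : 2 * ηl ∣ finrank F ↥(X₀.map (T - 1)) :=
      even_or_two_dvd hηl (even_finrank_of_nonDegOn hA hn') (hl ▸ order_dvd_finrank hT hS' hf')
    have := Nat.le_of_dvd hWpos hkW
    have := Nat.le_of_dvd (hne hXne) h1
    have := Submodule.finrank_mono hle'
    omega
  push Not at hXne
  have hWne : ∃ v ∈ W, T v ≠ v := by
    by_contra hW'; push Not at hW'
    refine hT1 (LinearMap.ext fun v => ?_)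
    obtain ⟨a, ha, b, hb, rfl⟩ := Submodule.mem_sup.mp (show v ∈ X₀ ⊔ W by rw [hsup]; trivial)
    rw [map_add, hXne a ha, hW' b hb, Module.End.one_apply]
  obtain ⟨hDn, hDle, hDT, hDfT, -, -, -⟩ := nonDegOn_moved hs hT hpT hWT hWn
  set D := W.map (T - 1) with hDdef
  have hDS : ∀ v ∈ D, S v ∈ D := by
    rintro _ ⟨u, hu, rfl⟩; exact ⟨S u, hWS u hu, by simp [hcv]⟩
  have hDfS : ∀ v ∈ D, S v = v → v = 0 := fun v hv => hfpf v (hDle hv)
  have hDpos : 0 < finrank F D := hne hWne
  have hDl : 2 * ηl ∣ finrank F D :=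
    even_or_two_dvd hηl (even_finrank_of_nonDegOn hA hDn) (hl ▸ order_dvd_finrank hT hDT hDfT)
  have hD2 : finrank F D = 2 * ηl := by
    have h1 : finrank F D ≤ finrank F V := Submodule.finrank_le D
    obtain ⟨c, hc'⟩ := hDl
    rcases c with _ | _ | c
    · omega
    · simpa using hc'
    · nlinarith
  have hkD : k ∣ 2 * ηl := hD2 ▸ hk ▸ order_dvd_finrank hS hDS hDfS
  -- adjoints of polynomials in `T` on `D`
  have hs1 : s - 1 + 1 = s := Nat.sub_add_cancel (Fact.out : s.Prime).one_le
  set T' := T ^ (s - 1) with hT'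
  have hTT' : T * T' = 1 := by rw [hT', ← pow_succ', hs1, hT]
  have hadj : ∀ (g : F[X]) u v, B (aeval T g u) v = B u (aeval T' g v) := by
    intro g
    induction g using Polynomial.induction_on' with
    | add f g hf hg => intro u v; simp [hf, hg]
    | monomial j c =>
      intro u v
      rw [aeval_monomial, aeval_monomial, ← Algebra.smul_def, ← Algebra.smul_def, LinearMap.smul_apply,
        LinearMap.smul_apply, map_smul, map_smul, LinearMap.smul_apply]
      congr 1
      have hj := preserves_pow hpT j u ((T' ^ j) v)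
      rw [← Module.End.mul_apply (T ^ j) (T' ^ j), ← ((show Commute T T' from
        (Commute.refl T).pow_right _).mul_pow j), hTT', one_pow, Module.End.one_apply] at hj
      exact hj
  rcases hηl with ⟨hlo, hηl'⟩ | ⟨hle, hηl'⟩
  · -- `l` odd
    rw [hηl'] at hkD hD2 hkl
    by_cases hdv : k ∣ l
    · obtain ⟨t, ht⟩ := hdv
      exact ⟨t, (Nat.odd_mul.mp (ht ▸ hlo)).2, ht⟩
    exfalso
    let T₀ : Module.End F D := T.restrict hDT
    have hT₀pow : ∀ (g : F[X]) (v : D), ((aeval T₀ g v : D) : V) = aeval T g (v : V) := by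
      intro g
      induction g using Polynomial.induction_on' with
      | add f g hf hg => intro v; simp [hf, hg]
      | monomial j c =>
        intro v
        rw [aeval_monomial, aeval_monomial, ← Algebra.smul_def, ← Algebra.smul_def, LinearMap.smul_apply,
          LinearMap.smul_apply, Submodule.coe_smul]
        congr 1
        induction j generalizing v with
        | zero => simp
        | succ j ih => rw [pow_succ, pow_succ, Module.End.mul_apply, Module.End.mul_apply, ih]; rfl
    set μ := minpoly F T₀ with hμ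
    have hμint : IsIntegral F T₀ := Algebra.IsIntegral.isIntegral T₀
    haveI : Nontrivial D := Module.nontrivial_of_finrank_pos hDpos
    have hμirr : Irreducible μ := by
      refine ⟨minpoly.not_isUnit F T₀, fun g h e => ?_⟩
      by_contra hgh
      push Not at hgh
      obtain ⟨hg, hh⟩ := hgh
      have hμ0 := minpoly.ne_zero hμint
      have hg0 : g ≠ 0 := fun h0 => hμ0 (by rw [← hμ, e, h0, zero_mul])
      have hh0 : h ≠ 0 := fun h0 => hμ0 (by rw [← hμ, e, h0, mul_zero])
      have hdg : g.natDegree < μ.natDegree := by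
        rw [e, natDegree_mul hg0 hh0]
        have : 0 < h.natDegree := Nat.pos_of_ne_zero fun h0 => hh (isUnit_iff.mpr
          ⟨h.coeff 0, isUnit_iff_ne_zero.mpr (fun h1 => hh0 (by rw [eq_C_of_natDegree_eq_zero h0, h1, map_zero])),
            (eq_C_of_natDegree_eq_zero h0).symm⟩)
        omega
      have hdh : h.natDegree < μ.natDegree := by
        rw [e, natDegree_mul hg0 hh0]
        have : 0 < g.natDegree := Nat.pos_of_ne_zero fun h0 => hg (isUnit_iff.mpr
          ⟨g.coeff 0, isUnit_iff_ne_zero.mpr (fun h1 => hg0 (by rw [eq_C_of_natDegree_eq_zero h0, h1, map_zero])),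
            (eq_C_of_natDegree_eq_zero h0).symm⟩)
        omega
      have hne' : ∀ g : F[X], g ≠ 0 → g.natDegree < μ.natDegree → aeval T₀ g ≠ 0 := fun g hg0 hd h0 =>
        absurd (natDegree_le_of_dvd (minpoly.dvd F T₀ h0) hg0) (by rw [← hμ]; omega)
      obtain ⟨v, hv⟩ : ∃ v, aeval T₀ h v ≠ 0 := by
        by_contra h1; push Not at h1; exact hne' h hh0 hdh (LinearMap.ext fun v => h1 v)
      have hgv : aeval T₀ g (aeval T₀ h v) = 0 := by
        rw [← Module.End.mul_apply, ← map_mul, ← e, hμ, minpoly.aeval]; rfl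
      set Kg := D ⊓ LinearMap.ker (aeval T g) with hKg
      have hmem : ((aeval T₀ h v : D) : V) ∈ Kg := ⟨(aeval T₀ h v).2, by
        show aeval T g _ = 0
        rw [← hT₀pow, hgv]; rfl⟩
      have hKS : ∀ x ∈ Kg, S x ∈ Kg := fun x hx => ⟨hDS x hx.1, by
        have hcS : Commute S (aeval T g) := commute_aeval hc g
        show aeval T g (S x) = 0
        rw [← Module.End.mul_apply, ← hcS.eq, Module.End.mul_apply,
          LinearMap.mem_ker.mp hx.2, map_zero]⟩
      have hKT : ∀ x ∈ Kg, T x ∈ Kg := fun x hx => ⟨hDT x hx.1, by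
        show aeval T g (T x) = 0
        rw [← Module.End.mul_apply, ← (commute_aeval (Commute.refl T) g).eq,
          Module.End.mul_apply, LinearMap.mem_ker.mp hx.2, map_zero]⟩
      have h1 : k ∣ finrank F Kg := hk ▸ order_dvd_finrank hS hKS (fun x hx => hDfS x hx.1)
      have h2 : l ∣ finrank F Kg := hl ▸ order_dvd_finrank hT hKT (fun x hx => hDfT x hx.1)
      have hKpos : 0 < finrank F Kg := by
        haveI : Nontrivial Kg := ⟨⟨⟨_, hmem⟩, 0, fun h0 => hv (by have := congrArg Subtype.val h0; exact Subtype.ext this)⟩⟩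
        exact Module.finrank_pos
      have hKlt : finrank F Kg < finrank F D := Submodule.finrank_lt_finrank_of_lt
        (lt_of_le_of_ne inf_le_left fun h0 => hne' g hg0 hdg (LinearMap.ext fun x => Subtype.ext (by
          rw [hT₀pow]
          exact (h0.ge x.2).2)))
      rw [hD2] at hKlt
      obtain ⟨c, hc'⟩ := h2
      rcases c with _ | _ | c
      · omega
      · apply hdv; rw [hc'] at h1; simpa using h1
      · nlinarith
    haveI : Fact (Irreducible μ) := ⟨hμirr⟩
    haveI : Module.Finite F (AdjoinRoot μ) := (AdjoinRoot.powerBasis hμirr.ne_zero).finite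
    haveI : Finite (AdjoinRoot μ) := Module.finite_of_finite F
    let ρ : AdjoinRoot μ →ₐ[F] Module.End F D := Ideal.Quotient.liftₐ (Ideal.span {μ}) (aeval T₀) fun a ha => by
      obtain ⟨b, rfl⟩ := Ideal.mem_span_singleton.1 ha
      rw [map_mul, hμ, minpoly.aeval, zero_mul]
    have hρ : ρ (AdjoinRoot.root μ) = T₀ := by
      show aeval T₀ (X : F[X]) = T₀
      simp
    have hρi : Function.Injective ρ := ρ.toRingHom.injective
    set x := AdjoinRoot.root μ
    have hxs : x ^ s = 1 := hρi (by
      rw [map_pow, hρ, map_one]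
      refine LinearMap.ext fun v => Subtype.ext ?_
      have := hT₀pow (X ^ s) v
      simpa [hT] using this)
    have hμT' : aeval (x ^ (s - 1)) μ = 0 := hρi (by
      rw [← Polynomial.aeval_algHom_apply, map_pow, hρ, map_zero]
      refine LinearMap.ext fun v => Subtype.ext ?_
      show ((aeval (T₀ ^ (s - 1)) μ v : D) : V) = 0
      have e1 : ((aeval (T₀ ^ (s - 1)) μ v : D) : V) = aeval T' μ (v : V) := by
        have h := hT₀pow (μ.comp (X ^ (s - 1))) v
        rwa [aeval_comp, aeval_comp, map_pow, map_pow, aeval_X, aeval_X] at h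
      rw [e1]
      have hmem : aeval T' μ (v : V) ∈ D := e1 ▸ (aeval (T₀ ^ (s - 1)) μ v).2
      refine hDn _ hmem fun w hw => ?_
      rw [← hA.neg, ← hadj μ w (v : V)]
      have h0 : aeval T μ w = 0 := by
        rw [← hT₀pow μ ⟨w, hw⟩, hμ, minpoly.aeval]; rfl
      rw [h0, map_zero, LinearMap.zero_apply, neg_zero])
    let φ : AdjoinRoot μ →ₐ[F] AdjoinRoot μ := AdjoinRoot.liftAlgHom μ (Algebra.ofId F _) (x ^ (s - 1)) hμT'
    have hφx : φ x = x ^ (s - 1) := AdjoinRoot.liftAlgHom_root _ _ _ _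
    have hφb : Function.Bijective φ := Algebra.IsAlgebraic.algHom_bijective φ
    obtain ⟨i, hi⟩ := (FiniteField.bijective_frobeniusAlgEquivOfAlgebraic_pow F (AdjoinRoot μ)).2
      (AlgEquiv.ofBijective φ hφb)
    have hiter : ∀ (j : ℕ) (z : AdjoinRoot μ),
        (FiniteField.frobeniusAlgEquivOfAlgebraic F (AdjoinRoot μ) ^ j) z = z ^ Fintype.card F ^ j := by
      intro j
      induction j with
      | zero => simp
      | succ j ih =>
        intro z
        rw [pow_succ', AlgEquiv.mul_apply, ih, FiniteField.coe_frobeniusAlgEquivOfAlgebraic]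
        dsimp only
        rw [← pow_mul, ← pow_succ]
    have hxi : x ^ Fintype.card F ^ (i : ℕ) = x ^ (s - 1) := by
      rw [← hiter, show FiniteField.frobeniusAlgEquivOfAlgebraic F (AdjoinRoot μ) ^ (i : ℕ) = _ from hi]
      exact hφx
    have hx1 : x ≠ 1 := fun h1 => by
      have h2 : T₀ = 1 := by rw [← hρ, h1, map_one]
      obtain ⟨v, hv0⟩ := exists_ne (0 : D)
      exact hv0 (Subtype.ext (hDfT v v.2 (congrArg (fun f : Module.End F D => ((f v : D) : V)) h2)))
    have hxo : orderOf x = s := orderOf_eq_prime hxs hx1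
    have hmod : ((Fintype.card F : ℕ) : ZMod s) ^ (i : ℕ) = -1 := by
      have h := (isOfFinOrder_iff_pow_eq_one.mpr ⟨s, (Fact.out : s.Prime).pos, hxs⟩).pow_eq_pow_iff_modEq.mp hxi
      rw [hxo, ← ZMod.natCast_eq_natCast_iff, Nat.cast_pow] at h
      rw [h, Nat.cast_sub (Fact.out : s.Prime).one_le, ZMod.natCast_self, Nat.cast_one, zero_sub]
    have h2i : l ∣ 2 * (i : ℕ) := hl ▸ orderOf_dvd_of_pow_eq_one (by rw [mul_comm, pow_mul, hmod, neg_one_sq])
    have hli : l ∣ (i : ℕ) := (Nat.coprime_two_right.mpr hlo).dvd_of_dvd_mul_left h2i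
    rw [orderOf_dvd_iff_pow_eq_one.mp (hl ▸ hli)] at hmod
    haveI : Fact (2 < s) := ⟨lt_of_le_of_ne (Fact.out : s.Prime).two_le (Ne.symm hs2)⟩
    exact ZMod.neg_one_ne_one hmod.symm
  · -- `l` even
    rw [hηl'] at hkD hD2
    obtain ⟨t, ht⟩ := hkD
    refine ⟨t, ?_, ht⟩
    by_contra hte
    rw [Nat.not_odd_iff_even] at hte
    obtain ⟨t', rfl⟩ := hte
    have hkl2 : k ∣ ηl := ⟨t', Nat.eq_of_mul_eq_mul_left two_pos (by rw [hηl', ht]; ring)⟩
    set Q := Fintype.card F ^ ηl with hQ
    have hQs : ((Q : ℕ) : ZMod s) = -1 := by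
      have h1 : (((Q : ℕ) : ZMod s)) ^ 2 = 1 := by
        rw [hQ, Nat.cast_pow, ← pow_mul, mul_comm, hηl', hl, pow_orderOf_eq_one]
      refine (sq_eq_one_iff.mp h1).resolve_left fun h1' => ?_
      rw [hQ, Nat.cast_pow] at h1'
      have hd := orderOf_dvd_of_pow_eq_one h1'
      rw [← hl] at hd
      rcases Nat.eq_zero_or_pos ηl with h0 | h0
      · omega
      · have := Nat.le_of_dvd h0 hd; omega
    have hQr : ((Q : ℕ) : ZMod r) = 1 := by
      rw [hQ, Nat.cast_pow]
      exact orderOf_dvd_iff_pow_eq_one.mp (hk ▸ hkl2)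
    -- `S` is a polynomial in `T` on `D`
    haveI : Nontrivial D := Module.nontrivial_of_finrank_pos hDpos
    obtain ⟨v, hv0⟩ := exists_ne (0 : D)
    let f : F[X] →ₗ[F] V :=
      { toFun := fun g => aeval T g (v : V)
        map_add' := fun a b => by simp
        map_smul' := fun c a => by simp }
    set R := LinearMap.range f with hR
    have hRD : R ≤ D := by
      rintro _ ⟨g, rfl⟩
      show aeval T g (v : V) ∈ D
      induction g using Polynomial.induction_on' with
      | add a b ha hb => rw [map_add, LinearMap.add_apply]; exact D.add_mem ha hb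
      | monomial j c =>
        rw [aeval_monomial, ← Algebra.smul_def, LinearMap.smul_apply]
        exact D.smul_mem _ (pow_apply_mem hDT j _ v.2)
    have hRT : ∀ y ∈ R, T y ∈ R := by
      rintro _ ⟨g, rfl⟩
      exact ⟨X * g, by show aeval T (X * g) (v : V) = T (aeval T g (v : V)); simp⟩
    have hvR : (v : V) ∈ R := ⟨1, by show aeval T (1 : F[X]) (v : V) = v; simp⟩
    have hReq : R = D := by
      refine Submodule.eq_of_le_of_finrank_le hRD ?_
      have h1 : l ∣ finrank F R := hl ▸ order_dvd_finrank hT hRT (fun y hy => hDfT y (hRD hy))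
      haveI : Nontrivial R := ⟨⟨⟨_, hvR⟩, 0, fun h0 => hv0 (Subtype.ext (by simpa using congrArg Subtype.val h0))⟩⟩
      have := Nat.le_of_dvd (Module.finrank_pos (R := F) (M := R)) h1
      omega
    obtain ⟨g, hg⟩ : ∃ g, f g = S v := hReq.ge (hDS v v.2)
    have hg' : aeval T g (v : V) = S v := hg
    have hSg : ∀ y ∈ D, S y = aeval T g y := by
      intro y hy
      rw [← hReq] at hy
      obtain ⟨h', rfl⟩ := hy
      show S (aeval T h' (v : V)) = aeval T g (aeval T h' (v : V))
      rw [← Module.End.mul_apply, (commute_aeval hc h').eq, Module.End.mul_apply, ← hg',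
        ← Module.End.mul_apply, ← map_mul, mul_comm, map_mul, Module.End.mul_apply]
    have hSpow : ∀ (j : ℕ), ∀ y ∈ D, (S ^ j) y = (aeval T g ^ j) y := by
      intro j
      induction j with
      | zero => simp
      | succ j ih =>
        intro y hy
        rw [pow_succ, Module.End.mul_apply, ih _ (hDS y hy), hSg y hy, ← Module.End.mul_apply, ← pow_succ]
    obtain ⟨⟨a, ha⟩, hp', hcard⟩ := FiniteField.card F (ringChar F)
    haveI : Fact (ringChar F).Prime := ⟨hp'⟩
    have hexp : aeval T g ^ Q = aeval (T ^ Q) g := by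
      rw [← map_pow, hQ]
      have : ∀ j : ℕ, g ^ Fintype.card F ^ j = Polynomial.expand F (Fintype.card F ^ j) g := by
        intro j
        induction j with
        | zero => simp
        | succ j ih => rw [pow_succ, pow_mul, ih, ← FiniteField.expand_card, Polynomial.expand_expand, mul_comm]
      rw [this, expand_aeval]
    have hTQ : T ^ Q = T' := by
      rw [hT']
      have h : Q ≡ s - 1 [MOD s] := by
        rw [← ZMod.natCast_eq_natCast_iff, hQs, Nat.cast_sub (Fact.out : s.Prime).one_le, ZMod.natCast_self,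
          Nat.cast_one, zero_sub]
      rw [← Nat.mod_add_div Q s, ← Nat.mod_add_div (s - 1) s, pow_add, pow_add, pow_mul, pow_mul, hT, one_pow,
        one_pow, h]
    have hSQ : S ^ Q = S := by
      have h : Q ≡ 1 [MOD r] := by
        rw [← ZMod.natCast_eq_natCast_iff, hQr, Nat.cast_one]
      rw [← Nat.mod_add_div Q r, pow_add, pow_mul, hS, one_pow, mul_one, h,
        Nat.mod_eq_of_lt (Fact.out : r.Prime).one_lt, pow_one]
    have key : ∀ u ∈ D, ∀ w ∈ D, B (S u) w = B u (S w) := by
      intro u hu w hw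
      rw [hSg u hu, hadj, ← hTQ, ← hexp, ← hSpow Q w hw, hSQ]
    have h2 : ∀ w ∈ D, S (S w) = w := by
      intro w hw
      refine sub_eq_zero.mp (hDn _ (D.sub_mem (hDS _ (hDS w hw)) hw) fun y hy => ?_)
      rw [map_sub, LinearMap.sub_apply, key _ (hDS w hw) y hy, hpS, sub_self]
    refine hv0 (Subtype.ext (hDfS v v.2 ?_))
    obtain ⟨j, hj⟩ := (Fact.out : r.Prime).odd_of_ne_two hr2
    have hit : ∀ i : ℕ, (S ^ (2 * i)) (v : V) = v := by
      intro i
      induction i with
      | zero => simp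
      | succ i ih => rw [mul_add, mul_one, pow_add, Module.End.mul_apply, pow_two, Module.End.mul_apply, h2 v v.2, ih]
    have := LinearMap.congr_fun hS (v : V)
    rw [hj, pow_succ', Module.End.mul_apply, hit, Module.End.one_apply] at this
    exact this

end Cfsg.Agent.GLOrders
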