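import Mathlib
import Cfsg.Agent.Lib.GLOrders.Semisimple

/-!
Sylow `r`-subgroups of `GL_n(q)` and `SL_n(q)` for a prime `r > n` not dividing `q`: they are the
`r`-parts of split products of Singer tori.
-/

set_option autoImplicit false
set_option linter.unusedSectionVars false

namespace Cfsg.Agent.GLOrders

open Polynomial

variable {F : Type*} [Field F] [Fintype F] {r : ℕ} [hr : Fact r.Prime]

theorem two_le_card (F : Type*) [Field F] [Fintype F] : 2 ≤ Fintype.card F := Fintype.one_lt_card

theorem natCast_zmod_ne_zero {q : ℕ} (hrq : ¬ r ∣ q) : (q : ZMod r) ≠ 0 := by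
  rwa [Ne, ZMod.natCast_eq_zero_iff]

theorem orderOf_pos' {q : ℕ} (hrq : ¬ r ∣ q) : 0 < orderOf (q : ZMod r) := by
  refine orderOf_pos_iff.mpr (isOfFinOrder_iff_pow_eq_one.mpr ⟨r - 1, by have := hr.out.two_le; omega, ?_⟩)
  exact ZMod.pow_card_sub_one_eq_one (natCast_zmod_ne_zero hrq)

theorem dvd_pow_sub_one_iff {q : ℕ} (hq : 1 ≤ q) (i : ℕ) :
    r ∣ q ^ i - 1 ↔ orderOf (q : ZMod r) ∣ i := by
  rw [orderOf_dvd_iff_pow_eq_one, ← Nat.cast_pow, ← ZMod.natCast_eq_zero_iff,
    Nat.cast_sub (Nat.one_le_pow _ _ hq), Nat.cast_one, sub_eq_zero]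

/-- The exponent: the `r`-part of `Φ_d(q)`. -/
noncomputable abbrev expo (r q : ℕ) : ℕ :=
  padicValNat r ((Polynomial.cyclotomic (orderOf (q : ZMod r)) ℤ).eval (q : ℤ)).natAbs

theorem factorization_pow_order {q : ℕ} (hq : 2 ≤ q) (hrq : ¬ r ∣ q) :
    (q ^ orderOf (q : ZMod r) - 1).factorization r = expo r q := by
  classical
  set d := orderOf (q : ZMod r) with hd
  have hd0 : 0 < d := orderOf_pos' hrq
  have hprod := congrArg (fun P : ℤ[X] => (P.eval (q : ℤ)).natAbs) (prod_cyclotomic_eq_X_pow_sub_one hd0 ℤ)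
  simp only [eval_prod, eval_sub, eval_pow, eval_X, eval_one] at hprod
  rw [← Finset.mul_prod_erase _ _ (Nat.mem_divisors_self d hd0.ne'), Int.natAbs_mul] at hprod
  set A := ((cyclotomic d ℤ).eval (q : ℤ)).natAbs
  set B := (∏ x ∈ d.divisors.erase d, (cyclotomic x ℤ).eval (q : ℤ)).natAbs with hB
  have hN : ((q : ℤ) ^ d - 1).natAbs = q ^ d - 1 := by
    rw [show ((q : ℤ) ^ d - 1) = ((q ^ d - 1 : ℕ) : ℤ) by
      rw [Nat.cast_sub (Nat.one_le_pow _ _ (by omega)), Nat.cast_pow, Nat.cast_one], Int.natAbs_natCast]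
  rw [hN] at hprod
  have hne : q ^ d - 1 ≠ 0 := Nat.sub_ne_zero_of_lt (Nat.one_lt_pow hd0.ne' (by omega))
  rw [← hprod] at hne ⊢
  have hBr : ¬ r ∣ B := by
    intro h
    rw [hB, ← Int.natCast_dvd] at h
    obtain ⟨x, hx, hxd⟩ := ((Nat.prime_iff_prime_int.1 hr.out).dvd_finset_prod_iff _).1 h
    obtain ⟨hxne, hxdiv⟩ := Finset.mem_erase.1 hx
    obtain ⟨hxd', -⟩ := Nat.mem_divisors.1 hxdiv
    have h1 : (r : ℤ) ∣ (q : ℤ) ^ x - 1 := by
      refine hxd.trans ?_
      have := eval_dvd (x := (q : ℤ)) (cyclotomic.dvd_X_pow_sub_one x ℤ)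
      simpa using this
    have h2 : r ∣ q ^ x - 1 := by
      rw [← Int.natCast_dvd_natCast, Nat.cast_sub (Nat.one_le_pow _ _ (by omega))]
      simpa using h1
    exact hxne (Nat.dvd_antisymm hxd' ((dvd_pow_sub_one_iff (by omega) x).1 h2))
  rw [Nat.factorization_mul (left_ne_zero_of_mul hne) (right_ne_zero_of_mul hne), Finsupp.add_apply,
    Nat.factorization_eq_zero_of_not_dvd hBr, add_zero, Nat.factorization_def _ hr.out]

theorem factorization_pow_sub_one {q i : ℕ} (hq : 2 ≤ q) (hrq : ¬ r ∣ q) (hi : 1 ≤ i) (hir : i < r) :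
    (q ^ i - 1).factorization r = if orderOf (q : ZMod r) ∣ i then expo r q else 0 := by
  split_ifs with h
  · obtain ⟨k, rfl⟩ := h
    set d := orderOf (q : ZMod r) with hd
    have hd0 : 0 < d := orderOf_pos' hrq
    have hk : 1 ≤ k := Nat.one_le_iff_ne_zero.2 (by rintro rfl; omega)
    have hkr : k < r := lt_of_le_of_lt (Nat.le_mul_of_pos_left k hd0) hir
    have hgeo : q ^ (d * k) - 1 = (q ^ d - 1) * ∑ j ∈ Finset.range k, (q ^ d) ^ j := by
      have h1 : ((q : ℤ) ^ d - 1) * (∑ j ∈ Finset.range k, ((q : ℤ) ^ d) ^ j) = (q : ℤ) ^ (d * k) - 1 := by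
        rw [mul_comm, geom_sum_mul, ← pow_mul]
      have : ((q ^ (d * k) - 1 : ℕ) : ℤ) = (((q ^ d - 1) * ∑ j ∈ Finset.range k, (q ^ d) ^ j : ℕ) : ℤ) := by
        push_cast [Nat.cast_sub (Nat.one_le_pow _ _ (show 0 < q by omega))]
        exact h1.symm
      exact_mod_cast this
    have hS : ¬ r ∣ ∑ j ∈ Finset.range k, (q ^ d) ^ j := by
      rw [← ZMod.natCast_eq_zero_iff]
      push_cast
      rw [show (q : ZMod r) ^ d = 1 from pow_orderOf_eq_one _]
      simp only [one_pow, Finset.sum_const, Finset.card_range, nsmul_eq_mul, mul_one]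
      rw [ZMod.natCast_eq_zero_iff]
      exact fun h => absurd (Nat.le_of_dvd hk h) (by omega)
    have hne : q ^ d - 1 ≠ 0 := Nat.sub_ne_zero_of_lt (Nat.one_lt_pow hd0.ne' (by omega))
    have hne' : ∑ j ∈ Finset.range k, (q ^ d) ^ j ≠ 0 := fun h => hS (by rw [h]; exact dvd_zero r)
    rw [hgeo, Nat.factorization_mul hne hne',
      Finsupp.add_apply, Nat.factorization_eq_zero_of_not_dvd hS, add_zero, hd, factorization_pow_order hq hrq]
  · exact Nat.factorization_eq_zero_of_not_dvd fun h' => h ((dvd_pow_sub_one_iff (by omega) i).1 h')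

theorem factorization_card_GL {q n : ℕ} (hq : Fintype.card F = q) (hrn : n < r) (hrq : ¬ r ∣ q) :
    (Nat.card (GL (Fin n) F)).factorization r =
      ((Finset.Ioc 0 n).filter (orderOf (q : ZMod r) ∣ ·)).card * expo r q := by
  classical
  have hq2 : 2 ≤ q := hq ▸ two_le_card F
  rw [Matrix.card_GL_field, hq, Fin.prod_univ_eq_prod_range (fun i => q ^ n - q ^ i) n,
    Nat.factorization_prod_apply (fun i hi => Nat.sub_ne_zero_of_lt
      (Nat.pow_lt_pow_right (by omega) (Finset.mem_range.1 hi)))]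
  have hfac : ∀ i ∈ Finset.range n, (q ^ n - q ^ i).factorization r = (q ^ (n - i) - 1).factorization r := by
    intro i hi
    have hi' := Finset.mem_range.1 hi
    rw [show q ^ n - q ^ i = q ^ i * (q ^ (n - i) - 1) by
      rw [Nat.mul_sub, mul_one, ← pow_add, Nat.add_sub_cancel' hi'.le],
      Nat.factorization_mul (by positivity) (Nat.sub_ne_zero_of_lt (Nat.one_lt_pow (by omega) (by omega))),
      Finsupp.add_apply, Nat.factorization_eq_zero_of_not_dvd (fun h => hrq (hr.out.dvd_of_dvd_pow h)), zero_add]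
  rw [Finset.sum_congr rfl hfac]
  have hre : ∑ i ∈ Finset.range n, (q ^ (n - i) - 1).factorization r =
      ∑ j ∈ Finset.Ioc 0 n, (q ^ j - 1).factorization r := by
    refine Finset.sum_nbij' (fun i => n - i) (fun j => n - j) ?_ ?_ ?_ ?_ (fun i _ => rfl)
    · intro i hi; simp at hi ⊢; omega
    · intro i hi; simp at hi ⊢; omega
    · intro i hi; simp at hi ⊢; omega
    · intro i hi; simp at hi ⊢; omega
  rw [hre, Finset.sum_congr rfl (fun j hj => factorization_pow_sub_one hq2 hrq
    (Finset.mem_Ioc.1 hj).1 (lt_of_le_of_lt (Finset.mem_Ioc.1 hj).2 hrn)), ← Finset.sum_filter,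
    Finset.sum_const, smul_eq_mul]

/-- A group isomorphic to a subgroup of full `r`-part order is isomorphic to every Sylow `r`-subgroup. -/
theorem sylow_equiv_of_injective {G K : Type*} [Group G] [Finite G] [Group K] [Finite K] (f : K →* G)
    (hf : Function.Injective f) (hK : Nat.card K = r ^ (Nat.card G).factorization r) (P : Sylow r G) :
    Nonempty (↥(P : Subgroup G) ≃* K) := by
  let Q : Sylow r G := Sylow.ofCard f.range
    (by rw [← Nat.card_congr (MonoidHom.ofInjective hf).toEquiv, hK])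
  exact ⟨(P.equiv Q).trans (MonoidHom.ofInjective hf).symm⟩

theorem card_torus (a e : ℕ) [NeZero (r ^ e)] :
    Nat.card (Fin a → Multiplicative (ZMod (r ^ e))) = r ^ (a * e) := by
  rw [Nat.card_pi, Finset.prod_const, Finset.card_fin, Nat.card_congr Multiplicative.toAdd, Nat.card_zmod,
    ← pow_mul, mul_comm]

theorem exists_hom_zmod {G : Type*} [Group G] [Finite G] [IsCyclic G] {m : ℕ} (hm : m ∣ Nat.card G) :
    ∃ f : Multiplicative (ZMod m) →* G, Function.Injective f := by
  obtain ⟨g, hg⟩ := IsCyclic.exists_ofOrder_eq_natCard (α := G)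
  have h1 : orderOf (g ^ (orderOf g / m)) = m :=
    orderOf_pow_orderOf_div (by rw [hg]; exact Nat.card_pos.ne') (by rwa [hg])
  have h2 : Nat.card (Multiplicative (ZMod m)) = Nat.card ↥(Subgroup.zpowers (g ^ (orderOf g / m))) := by
    rw [Nat.card_congr Multiplicative.toAdd, Nat.card_zmod, Nat.card_zpowers, h1]
  exact ⟨(Subgroup.zpowers _).subtype.comp (mulEquivOfCyclicCardEq h2).toMonoidHom,
    Subtype.val_injective.comp (MulEquiv.injective _)⟩

/-- `k` copies of the Singer torus of degree `d`, for `d * k ≤ n`. -/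
theorem exists_multi_torus {d k n : ℕ} (hd : 1 ≤ d) (h : d * k ≤ n) {m : ℕ}
    (hm : m ∣ Fintype.card F ^ d - 1) :
    ∃ f : (Fin k → Multiplicative (ZMod m)) →* GL (Fin n) F, Function.Injective f := by
  obtain ⟨p, hp⟩ := CharP.exists F
  have : Fact p.Prime := ⟨CharP.char_is_prime F p⟩
  have : NeZero d := ⟨by omega⟩
  let E := FiniteField.Extension F p d
  have : Fintype E := Fintype.ofFinite E
  let b : Module.Basis (Fin d) F E :=
    Module.finBasisOfFinrankEq F E (FiniteField.finrank_extension F p d)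
  obtain ⟨g, hg⟩ := exists_hom_zmod (G := Eˣ) (m := m) (by
    rwa [Nat.card_units, FiniteField.natCard_extension, Nat.card_eq_fintype_card])
  let ψ : (Fin k → Multiplicative (ZMod m)) →* Matrix (Fin d × Fin k) (Fin d × Fin k) F :=
    { toFun := fun x => Matrix.blockDiagonal fun i => Algebra.leftMulMatrix b (g (x i) : E)
      map_one' := by simp [← Pi.one_def]
      map_mul' := fun x y => by
        rw [← Matrix.blockDiagonal_mul]
        simp }
  have hψ : Function.Injective ψ := fun x y hxy => funext fun i => hg (Units.ext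
    (Algebra.leftMulMatrix_injective b (by
      have h1 : (fun i => Algebra.leftMulMatrix b (g (x i) : E)) = fun i => Algebra.leftMulMatrix b (g (y i) : E) :=
        Matrix.blockDiagonal_injective hxy
      exact congrFun h1 i)))
  let e : Matrix (Fin d × Fin k) (Fin d × Fin k) F ≃ₐ[F] Matrix (Fin (d * k)) (Fin (d * k)) F :=
    Matrix.reindexAlgEquiv F F finProdFinEquiv
  refine ⟨(blockEmbed F h).comp ((e.toMulEquiv.toMonoidHom.comp ψ).toHomUnits),
    (blockEmbed_injective F h).comp fun x y hxy => hψ (e.injective (congrArg Units.val hxy))⟩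

theorem exists_torus_GL {q n : ℕ} (hq : Fintype.card F = q) (hrq : ¬ r ∣ q) :
    ∃ f : (Fin (n / orderOf (q : ZMod r)) → Multiplicative (ZMod (r ^ expo r q))) →* GL (Fin n) F,
      Function.Injective f := by
  refine exists_multi_torus (orderOf_pos' hrq) (Nat.mul_div_le n _) ?_
  rw [hq, ← factorization_pow_order (hq ▸ two_le_card F) hrq]
  exact Nat.ordProj_dvd _ r

theorem sylow_GL_equiv {q : ℕ} (hq : Fintype.card F = q) (n : ℕ) (hrn : n < r) (hrq : ¬ r ∣ q)
    (P : Sylow r (GL (Fin n) F)) :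
    Nonempty (↥(P : Subgroup (GL (Fin n) F)) ≃*
      (Fin (n / orderOf (q : ZMod r)) → Multiplicative (ZMod (r ^ expo r q)))) := by
  obtain ⟨f, hf⟩ := exists_torus_GL (F := F) (n := n) hq hrq
  haveI : NeZero (r ^ expo r q) := ⟨pow_ne_zero _ hr.out.ne_zero⟩
  refine sylow_equiv_of_injective f hf ?_ P
  rw [card_torus, factorization_card_GL hq hrn hrq, Nat.Ioc_filter_dvd_card_eq_div]

theorem card_SL_mul (n : ℕ) (hn : 1 ≤ n) :
    Nat.card (Matrix.SpecialLinearGroup (Fin n) F) * (Fintype.card F - 1) = Nat.card (GL (Fin n) F) := by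
  classical
  let D : GL (Fin n) F →* Fˣ := Matrix.GeneralLinearGroup.det
  have hker : D.ker = (Matrix.SpecialLinearGroup.toGL (n := Fin n) (R := F)).range := by
    ext g
    constructor
    · intro h
      exact ⟨⟨g.1, congrArg Units.val h⟩, Units.ext rfl⟩
    · rintro ⟨s, rfl⟩; exact Units.ext s.2
  have hsur : Function.Surjective D := by
    intro c
    let M : Matrix (Fin n) (Fin n) F := Matrix.diagonal fun i => if (i : ℕ) = 0 then (c : F) else 1
    have hM : M.det = c := by
      rw [Matrix.det_diagonal, Finset.prod_eq_single (⟨0, hn⟩ : Fin n)]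
      · simp
      · intro i _ hi
        rw [if_neg (fun e => hi (Fin.ext e))]
      · simp
    exact ⟨Matrix.GeneralLinearGroup.mk'' M (by rw [hM]; exact c.isUnit), Units.ext hM⟩
  have hinj : Function.Injective (Matrix.SpecialLinearGroup.toGL (n := Fin n) (R := F)) :=
    fun a b h => Subtype.ext (congrArg Units.val h)
  have h := Subgroup.card_mul_index D.ker
  rw [Subgroup.index_ker, MonoidHom.range_eq_top.2 hsur, Subgroup.card_top, Nat.card_units,
    Nat.card_eq_fintype_card (α := F), hker, ← Nat.card_congr (MonoidHom.ofInjective hinj).toEquiv] at h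
  exact h

theorem factorization_card_SL {q n : ℕ} (hq : Fintype.card F = q) (hrn : n < r) (hrq : ¬ r ∣ q) :
    (Nat.card (Matrix.SpecialLinearGroup (Fin n) F)).factorization r =
      ((Finset.Icc 2 n).filter (orderOf (q : ZMod r) ∣ ·)).card * expo r q := by
  classical
  rcases Nat.eq_zero_or_pos n with rfl | hn
  · haveI : Subsingleton (Matrix.SpecialLinearGroup (Fin 0) F) :=
      ⟨fun a b => Subtype.ext (Subsingleton.elim _ _)⟩
    rw [Nat.card_of_subsingleton 1]
    simp
  have hq2 : 2 ≤ q := hq ▸ two_le_card F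
  have h := congrArg (fun N => N.factorization r) (card_SL_mul (F := F) n hn)
  rw [Nat.factorization_mul Nat.card_pos.ne' (by omega), Finsupp.add_apply, hq,
    factorization_card_GL hq hrn hrq] at h
  have h1 := factorization_pow_sub_one (i := 1) hq2 hrq le_rfl hr.out.one_lt
  rw [pow_one] at h1
  rw [h1, show Finset.Ioc 0 n = insert 1 (Finset.Icc 2 n) by
    ext x; simp only [Finset.mem_Ioc, Finset.mem_insert, Finset.mem_Icc]; omega,
    Finset.filter_insert] at h
  split_ifs at h with h2
  · rw [Finset.card_insert_of_notMem (by simp), Nat.add_mul, one_mul] at h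
    omega
  · simpa using h

theorem sylow_SL_equiv {q : ℕ} (hq : Fintype.card F = q) (n : ℕ) (hrn : n < r) (hrq : ¬ r ∣ q)
    (P : Sylow r (Matrix.SpecialLinearGroup (Fin n) F)) :
    Nonempty (↥(P : Subgroup (Matrix.SpecialLinearGroup (Fin n) F)) ≃*
      (Fin ((Finset.Icc 2 n).filter (fun i => orderOf (q : ZMod r) ∣ i)).card →
        Multiplicative (ZMod (r ^ expo r q)))) := by
  classical
  haveI : NeZero (r ^ expo r q) := ⟨pow_ne_zero _ hr.out.ne_zero⟩
  set a := ((Finset.Icc 2 n).filter (fun i => orderOf (q : ZMod r) ∣ i)).card with ha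
  suffices h : ∃ f : (Fin a → Multiplicative (ZMod (r ^ expo r q))) →* Matrix.SpecialLinearGroup (Fin n) F,
      Function.Injective f by
    obtain ⟨f, hf⟩ := h
    refine sylow_equiv_of_injective f hf ?_ P
    rw [card_torus, factorization_card_SL hq hrn hrq]
  by_cases hd : orderOf (q : ZMod r) = 1
  · have ha' : a = n - 1 := by
      rw [ha, hd, Finset.filter_true_of_mem (fun i _ => one_dvd i), Nat.card_Icc]
      omega
    obtain ⟨g, hg⟩ := exists_hom_zmod (G := Fˣ) (m := r ^ expo r q) (by
      rw [← factorization_pow_order (hq ▸ two_le_card F) hrq, hd, pow_one, Nat.card_units,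
        Nat.card_eq_fintype_card, hq]
      exact Nat.ordProj_dvd _ r)
    rw [ha']
    rcases Nat.eq_zero_or_pos n with rfl | hn
    · exact ⟨1, fun x y _ => funext fun i => i.elim0⟩
    obtain ⟨m, rfl⟩ := Nat.exists_eq_add_of_le' hn
    rw [show m + 1 - 1 = m from rfl]
    let v : (Fin m → Multiplicative (ZMod (r ^ expo r q))) → Fin (m + 1) → F := fun x =>
      Fin.snoc (fun i => ((g (x i) : Fˣ) : F)) (((∏ i, g (x i))⁻¹ : Fˣ) : F)
    have hv : ∀ x, (Matrix.diagonal (v x)).det = 1 := fun x => by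
      rw [Matrix.det_diagonal, Fin.prod_univ_castSucc]
      simp only [v, Fin.snoc_castSucc, Fin.snoc_last]
      rw [← Units.coe_prod, ← Units.val_mul, mul_inv_cancel, Units.val_one]
    refine ⟨MonoidHom.mk' (fun x => ⟨Matrix.diagonal (v x), hv x⟩) fun x y => Subtype.ext ?_, fun x y hxy => ?_⟩
    · show Matrix.diagonal (v (x * y)) = Matrix.diagonal (v x) * Matrix.diagonal (v y)
      rw [Matrix.diagonal_mul_diagonal]
      refine congrArg Matrix.diagonal (funext fun i => ?_)
      induction i using Fin.lastCases with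
      | last => simp [v, Finset.prod_mul_distrib, mul_comm]
      | cast i => simp [v]
    · have h := Matrix.diagonal_injective (congrArg Subtype.val hxy)
      funext i
      have := congrFun h i.castSucc
      simp only [v, Fin.snoc_castSucc] at this
      exact hg (Units.ext this)
  · obtain ⟨f, hf⟩ := exists_torus_GL (F := F) (n := n) hq hrq
    have ha' : a = n / orderOf (q : ZMod r) := by
      rw [ha, ← Nat.Ioc_filter_dvd_card_eq_div]
      refine congrArg Finset.card ?_
      ext x
      simp only [Finset.mem_filter, Finset.mem_Icc, Finset.mem_Ioc]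
      constructor
      · rintro ⟨⟨h1, h2⟩, h3⟩; exact ⟨⟨by omega, h2⟩, h3⟩
      · rintro ⟨⟨h1, h2⟩, h3⟩
        refine ⟨⟨?_, h2⟩, h3⟩
        by_contra h4
        obtain rfl : x = 1 := by omega
        exact hd (Nat.dvd_one.1 h3)
    rw [ha']
    have hdet : ∀ x, Matrix.GeneralLinearGroup.det (f x) = 1 := by
      intro x
      have h1 : orderOf (Matrix.GeneralLinearGroup.det (f x)) ∣ r ^ expo r q := by
        refine orderOf_dvd_of_pow_eq_one ?_
        rw [← map_pow, ← map_pow, show x ^ r ^ expo r q = 1 from funext fun i => by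
          rw [Pi.pow_apply, Pi.one_apply]
          have := pow_card_eq_one' (x := x i)
          rwa [Nat.card_congr Multiplicative.toAdd, Nat.card_zmod] at this, map_one, map_one]
      have h2 : orderOf (Matrix.GeneralLinearGroup.det (f x)) ∣ q - 1 := by
        have := orderOf_dvd_natCard (Matrix.GeneralLinearGroup.det (f x))
        rwa [Nat.card_units, Nat.card_eq_fintype_card, hq] at this
      refine orderOf_eq_one_iff.1 (Nat.eq_one_of_dvd_coprimes (Nat.Coprime.pow_left _ ?_) h1 h2)
      refine hr.out.coprime_iff_not_dvd.2 fun h => hd ?_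
      have := (dvd_pow_sub_one_iff (r := r) (q := q) (by have := two_le_card F; omega) 1).1 (by rwa [pow_one])
      exact Nat.dvd_one.1 this
    exact ⟨MonoidHom.mk' (fun x => ⟨(f x).1, congrArg Units.val (hdet x)⟩)
      (fun x y => Subtype.ext (by simp only [map_mul]; rfl)), fun x y hxy => hf (Units.ext (congrArg Subtype.val hxy))⟩

end Cfsg.Agent.GLOrders
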