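import Mathlib

set_option autoImplicit false

/-! Element orders of direct powers with an elementary abelian factor. -/

namespace Cfsg.Agent.GLOrders

/-- An abstract merging principle for element orders of direct powers. -/
theorem abstract_eq {L Z : Type*} [Group L] [Finite L] [CommGroup Z] [Finite Z] {r : ℕ} (hr : r.Prime)
    (hZ : ∀ z : Z, z ^ r = 1)
    (NB NC : ℕ)
    (hclass : ∀ a : L, ¬ r ∣ orderOf a →
      (∃ b : L, orderOf b = orderOf a * r) ∨ orderOf a ∣ NB ∨ orderOf a = NC)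
    (hB : ∀ a b : L, orderOf a ∣ NB → orderOf b ∣ NB → ∃ c : L, orderOf c = Nat.lcm (orderOf a) (orderOf b))
    (hr' : ∃ x : L, orderOf x = r) :
    Set.range (orderOf : L × L × L × Z → ℕ) = Set.range (orderOf : L × L × L → ℕ) ∧
      ((∀ a : L, ¬ r ∣ orderOf a → orderOf a = NC → orderOf a ∣ NB ∨ ∃ b : L, orderOf b = orderOf a * r) →
        Set.range (orderOf : L × L × Z → ℕ) = Set.range (orderOf : L × L → ℕ)) := by
  obtain ⟨x, hx⟩ := hr'
  have hz : ∀ z : Z, orderOf z = 1 ∨ orderOf z = r := fun z =>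
    (Nat.dvd_prime hr).mp (orderOf_dvd_of_pow_eq_one (hZ z))
  have mulr : ∀ k, ¬ r ∣ k → Nat.lcm k r = k * r := fun k hk =>
    Nat.Coprime.lcm_eq_mul (hr.coprime_iff_not_dvd.mpr hk).symm
  have same : ∀ a b : L, ¬ r ∣ orderOf a → ¬ r ∣ orderOf b →
      (orderOf a ∣ NB ∧ orderOf b ∣ NB) ∨ (orderOf a = NC ∧ orderOf b = NC) →
      ∃ c : L, orderOf c = Nat.lcm (orderOf a) (orderOf b) := by
    rintro a b - - (⟨h1, h2⟩ | ⟨h1, h2⟩)
    · exact hB a b h1 h2
    · exact ⟨a, by rw [h1, h2, Nat.lcm_self]⟩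
  constructor
  · apply Set.Subset.antisymm
    · rintro _ ⟨⟨a, b, c, z⟩, rfl⟩
      simp only [Prod.orderOf_mk, Set.mem_range]
      rcases hz z with h | h
      · exact ⟨(a, b, c), by simp [Prod.orderOf_mk, h]⟩
      rw [h]
      by_cases hdiv : r ∣ orderOf a ∨ r ∣ orderOf b ∨ r ∣ orderOf c
      · refine ⟨(a, b, c), ?_⟩
        rw [Prod.orderOf_mk, Prod.orderOf_mk]
        apply Nat.dvd_antisymm
        · exact Nat.lcm_dvd (Nat.dvd_lcm_left _ _) (Nat.lcm_dvd
            ((Nat.dvd_lcm_left _ _).trans (Nat.dvd_lcm_right _ _))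
            (((Nat.dvd_lcm_left _ _).trans (Nat.dvd_lcm_right _ _)).trans (Nat.dvd_lcm_right _ _)))
        · refine Nat.lcm_dvd (Nat.dvd_lcm_left _ _) (Nat.lcm_dvd
            ((Nat.dvd_lcm_left _ _).trans (Nat.dvd_lcm_right _ _)) (Nat.lcm_dvd
            ((Nat.dvd_lcm_right _ _).trans (Nat.dvd_lcm_right _ _)) ?_))
          rcases hdiv with h | h | h
          · exact h.trans (Nat.dvd_lcm_left _ _)
          · exact h.trans ((Nat.dvd_lcm_left _ _).trans (Nat.dvd_lcm_right _ _))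
          · exact h.trans ((Nat.dvd_lcm_right _ _).trans (Nat.dvd_lcm_right _ _))
      push Not at hdiv
      obtain ⟨ha, hb, hc⟩ := hdiv
      have ext1 : ∀ u v w : L, (∃ u' : L, orderOf u' = orderOf u * r) → ¬ r ∣ orderOf u →
          ∃ y : L × L × L, orderOf y =
            Nat.lcm (orderOf u) (Nat.lcm (orderOf v) (Nat.lcm (orderOf w) r)) := by
        rintro u v w ⟨u', hu'⟩ hu
        refine ⟨(u', v, w), ?_⟩
        rw [Prod.orderOf_mk, Prod.orderOf_mk, hu', ← mulr _ hu]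
        ac_rfl
      have ext2 : ∀ u v w : L, (∃ u' : L, orderOf u' = Nat.lcm (orderOf u) (orderOf v)) →
          ∃ y : L × L × L, orderOf y =
            Nat.lcm (orderOf u) (Nat.lcm (orderOf v) (Nat.lcm (orderOf w) r)) := by
        rintro u v w ⟨u', hu'⟩
        refine ⟨(u', w, x), ?_⟩
        rw [Prod.orderOf_mk, Prod.orderOf_mk, hu', hx]
        ac_rfl
      rcases hclass a ha with h1 | h1
      · exact ext1 a b c h1 ha
      rcases hclass b hb with h2 | h2
      · obtain ⟨y, hy⟩ := ext1 b a c h2 hb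
        exact ⟨y, by rw [hy]; ac_rfl⟩
      rcases hclass c hc with h3 | h3
      · obtain ⟨y, hy⟩ := ext1 c a b h3 hc
        exact ⟨y, by rw [hy]; ac_rfl⟩
      rcases h1 with h1 | h1 <;> rcases h2 with h2 | h2
      · exact ext2 a b c (same a b ha hb (Or.inl ⟨h1, h2⟩))
      · rcases h3 with h3 | h3
        · obtain ⟨y, hy⟩ := ext2 a c b (same a c ha hc (Or.inl ⟨h1, h3⟩))
          exact ⟨y, by rw [hy]; ac_rfl⟩
        · obtain ⟨y, hy⟩ := ext2 b c a (same b c hb hc (Or.inr ⟨h2, h3⟩))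
          exact ⟨y, by rw [hy]; ac_rfl⟩
      · rcases h3 with h3 | h3
        · obtain ⟨y, hy⟩ := ext2 b c a (same b c hb hc (Or.inl ⟨h2, h3⟩))
          exact ⟨y, by rw [hy]; ac_rfl⟩
        · obtain ⟨y, hy⟩ := ext2 a c b (same a c ha hc (Or.inr ⟨h1, h3⟩))
          exact ⟨y, by rw [hy]; ac_rfl⟩
      · exact ext2 a b c (same a b ha hb (Or.inr ⟨h1, h2⟩))
    · rintro _ ⟨⟨a, b, c⟩, rfl⟩
      exact ⟨(a, b, c, 1), by simp [Prod.orderOf_mk]⟩
  · intro hC
    apply Set.Subset.antisymm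
    · rintro _ ⟨⟨a, b, z⟩, rfl⟩
      simp only [Prod.orderOf_mk, Set.mem_range]
      rcases hz z with h | h
      · exact ⟨(a, b), by simp [Prod.orderOf_mk, h]⟩
      rw [h]
      by_cases hdiv : r ∣ orderOf a ∨ r ∣ orderOf b
      · refine ⟨(a, b), ?_⟩
        rw [Prod.orderOf_mk]
        apply Nat.dvd_antisymm
        · exact Nat.lcm_dvd (Nat.dvd_lcm_left _ _)
            ((Nat.dvd_lcm_left _ _).trans (Nat.dvd_lcm_right _ _))
        · refine Nat.lcm_dvd (Nat.dvd_lcm_left _ _) (Nat.lcm_dvd (Nat.dvd_lcm_right _ _) ?_)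
          rcases hdiv with h | h
          · exact h.trans (Nat.dvd_lcm_left _ _)
          · exact h.trans (Nat.dvd_lcm_right _ _)
      push Not at hdiv
      obtain ⟨ha, hb⟩ := hdiv
      have cls : ∀ u : L, ¬ r ∣ orderOf u → (∃ v : L, orderOf v = orderOf u * r) ∨ orderOf u ∣ NB := by
        intro u hu
        rcases hclass u hu with h | h | h
        · exact Or.inl h
        · exact Or.inr h
        · exact (hC u hu h).symm
      rcases cls a ha with ⟨a', ha'⟩ | h1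
      · exact ⟨(a', b), by rw [Prod.orderOf_mk, ha', ← mulr _ ha]; ac_rfl⟩
      rcases cls b hb with ⟨b', hb'⟩ | h2
      · exact ⟨(a, b'), by rw [Prod.orderOf_mk, hb', ← mulr _ hb]⟩
      obtain ⟨c, hc⟩ := hB a b h1 h2
      exact ⟨(c, x), by rw [Prod.orderOf_mk, hc, hx, Nat.lcm_assoc]⟩
    · rintro _ ⟨⟨a, b⟩, rfl⟩
      exact ⟨(a, b, 1), by simp [Prod.orderOf_mk]⟩

end Cfsg.Agent.GLOrders
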