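import Mathlib

/-!
Arithmetic of the elements of order `q^{n/2} ± 1`.
-/

set_option autoImplicit false

namespace Cfsg.Agent.GLOrders

theorem gcd_dvd_half_iff {m D : ℕ} (hm : 0 < m) (hD : 0 < D) :
    Nat.gcd (2 * m) D ∣ m ↔ padicValNat 2 D < padicValNat 2 (2 * m) := by
  haveI : Fact (Nat.Prime 2) := ⟨Nat.prime_two⟩
  have hw : padicValNat 2 (2 * m) = padicValNat 2 m + 1 := by
    rw [padicValNat.mul two_ne_zero hm.ne', padicValNat.self one_lt_two, add_comm]
  constructor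
  · intro h
    by_contra hle
    push Not at hle
    have h1 : 2 ^ padicValNat 2 (2 * m) ∣ Nat.gcd (2 * m) D :=
      Nat.dvd_gcd pow_padicValNat_dvd ((padicValNat_dvd_iff_le hD.ne').2 hle)
    have := (padicValNat_dvd_iff_le hm.ne').1 (h1.trans h)
    omega
  · intro hlt
    set G := Nat.gcd (2 * m) D with hG
    obtain ⟨c, hc⟩ := Nat.gcd_dvd_left (2 * m) D
    rw [← hG] at hc
    rcases Nat.even_or_odd c with ⟨d, hd⟩ | hodd
    · subst hd
      exact ⟨d, by linarith⟩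
    · exfalso
      have h1 : 2 ^ padicValNat 2 (2 * m) ∣ G * c := hc ▸ pow_padicValNat_dvd
      have h2 := ((Nat.coprime_two_left.2 hodd).pow_left _).dvd_of_dvd_mul_right h1
      have := (padicValNat_dvd_iff_le hD.ne').1 (h2.trans (Nat.gcd_dvd_right _ _))
      omega

theorem geom_double (q m : ℕ) :
    ∑ i ∈ Finset.range (2 * m), q ^ i = (∑ i ∈ Finset.range m, q ^ i) * (q ^ m + 1) := by
  rw [two_mul, Finset.sum_range_add, mul_add, mul_one, add_comm, Finset.sum_mul]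
  congr 1
  exact Finset.sum_congr rfl fun i _ => by rw [pow_add, mul_comm]

theorem geom_dvd_iff {q G m : ℕ} (hq : 1 ≤ q) (hG : G ∣ q - 1) :
    G ∣ ∑ i ∈ Finset.range m, q ^ i ↔ G ∣ m := by
  have h1 : ((q : ℕ) : ZMod G) = 1 := by
    have := (ZMod.natCast_eq_zero_iff (q - 1) G).2 hG
    rwa [Nat.cast_sub hq, Nat.cast_one, sub_eq_zero] at this
  rw [← ZMod.natCast_eq_zero_iff, ← ZMod.natCast_eq_zero_iff, Nat.cast_sum]
  simp [Nat.cast_pow, h1]

theorem half_dvd_iff {q m : ℕ} (hq : 2 ≤ q) (hm : 0 < m) :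
    q ^ m + 1 ∣ (∑ i ∈ Finset.range (2 * m), q ^ i) / Nat.gcd (2 * m) (q - 1) ↔
      padicValNat 2 (q - 1) < padicValNat 2 (2 * m) := by
  set G := Nat.gcd (2 * m) (q - 1)
  have hGn : G ∣ ∑ i ∈ Finset.range (2 * m), q ^ i :=
    (geom_dvd_iff (by omega) (Nat.gcd_dvd_right _ _)).2 (Nat.gcd_dvd_left _ _)
  rw [Nat.dvd_div_iff_mul_dvd hGn, geom_double, mul_comm G, mul_comm _ (q ^ m + 1),
    Nat.mul_dvd_mul_iff_left (by positivity), geom_dvd_iff (by omega) (Nat.gcd_dvd_right _ _)]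
  exact gcd_dvd_half_iff hm (by omega)

end Cfsg.Agent.GLOrders
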