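import Cfsg.Agent.Lib.GLOrders.SingerCore
import Cfsg.Agent.Lib.GLOrders.HalfTorusArith
import Cfsg.Agent.Lib.FormTorus.UnitaryOrders

/-!
Elements of `PSU_{2m}(q)` whose order has a prime of Singer degree `m` over the quadratic field.
-/

set_option autoImplicit false
set_option linter.unusedSectionVars false

namespace Cfsg.Agent.GLOrders

open Module Polynomial FormsLib FormTorus

variable {F : Type*} [Field F] [Fintype F] {q : ℕ} [hQ : AutPSU.QField F q]

local notation "σ" => ((AutPSU.qb (F := F) q : F ≃+* F) : F →+* F)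

theorem aeval_apply_fixed {K V : Type*} [Field K] [AddCommGroup V] [Module K V] {C : Module.End K V} {v : V}
    (h : C v = v) (f : K[X]) : aeval C f v = f.eval 1 • v := by
  induction f using Polynomial.induction_on' with
  | add a b ha hb => simp [ha, hb, add_smul]
  | monomial j c =>
    have hj : ∀ i : ℕ, (C ^ i) v = v := fun i => by
      induction i with
      | zero => rfl
      | succ i ih => rw [pow_succ, Module.End.mul_apply, h, ih]
    rw [aeval_monomial, ← Algebra.smul_def, LinearMap.smul_apply, hj, eval_monomial, one_pow, mul_one]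

/-- The minimal polynomial of an isometry of Singer degree `m` in dimension `2 m` is a pair of dual factors. -/
theorem minpoly_pair {m : ℕ} (hm : 2 ≤ m) {r : ℕ} [hr : Fact r.Prime] (hrF : (r : F) ≠ 0)
    (hk : orderOf ((Fintype.card F : ℕ) : ZMod r) = m) (hnsd : Odd m → ¬ r ∣ q ^ m + 1)
    {s : (Fin (2 * m) → F) ≃ₗ[F] (Fin (2 * m) → F)} (hs : Preserves (hermB (2 * m) σ) s)
    (hsr : en s ^ r = 1) (hs1 : en s ≠ 1) :
    ∃ f : F[X], Irreducible f ∧ f.coeff 0 ≠ 0 ∧ f.Monic ∧ f.natDegree = m ∧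
      IsCoprime f (dualPoly σ f) ∧ aeval (en s) (f * dualPoly σ f) = 0 := by
  classical
  have hF : Nat.card F = q ^ 2 := AutPSU.QField.card
  have hB := isUnitary_of_isFlip (hermB_flip (F := F) (q := q) (2 * m))
  haveI : Nonempty (Fin (2 * m)) := ⟨⟨0, by omega⟩⟩
  have hint : IsIntegral F (en s) := Algebra.IsIntegral.isIntegral _
  set μ := minpoly F (en s) with hμ
  have hμm : μ.Monic := minpoly.monic hint
  have hμ0 : μ.coeff 0 ≠ 0 := minpoly_coeff_zero s
  set G : F[X] := ∑ i ∈ Finset.range r, X ^ i with hG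
  have hμG : μ ∣ (X - C (1 : F)) * G := by
    rw [map_one, mul_comm, hG, geom_sum_mul]
    exact minpoly.dvd F (en s) (by simp [hsr])
  have hncop : ¬ IsCoprime μ G := fun hc => hs1 (by
    have h := hc.dvd_of_dvd_mul_right hμG
    obtain ⟨d, hd⟩ := h
    have h1 := congrArg (aeval (en s)) hd
    rw [map_mul, hμ, minpoly.aeval, zero_mul, map_sub, aeval_X, aeval_C, map_one, sub_eq_zero] at h1
    exact h1)
  obtain ⟨f₀, hf₀u, hf₀μ, hf₀G⟩ : ∃ a : F[X], ¬ IsUnit a ∧ a ∣ μ ∧ a ∣ G := by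
    refine ⟨EuclideanDomain.gcd μ G, fun hu => hncop (EuclideanDomain.gcd_isUnit_iff.1 hu),
      EuclideanDomain.gcd_dvd_left _ _, EuclideanDomain.gcd_dvd_right _ _⟩
  obtain ⟨f, hfm, hfi, hff₀⟩ := exists_monic_irreducible_factor f₀ hf₀u
  have hfμ := hff₀.trans hf₀μ
  have hfG := hff₀.trans hf₀G
  have hf0 : f.coeff 0 ≠ 0 := fun h => by
    obtain ⟨c, hc⟩ := hfμ
    exact hμ0 (by rw [hc, mul_coeff_zero, h, zero_mul])
  haveI := Fact.mk hfi
  haveI : Module.Finite F (AdjoinRoot f) := (AdjoinRoot.powerBasis hfm.ne_zero).finite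
  haveI : Finite (AdjoinRoot f) := Module.finite_of_finite F
  haveI := Fintype.ofFinite (AdjoinRoot f)
  set β := AdjoinRoot.root f with hβ
  have hG1 : AdjoinRoot.mk f G = 0 := AdjoinRoot.mk_eq_zero.2 hfG
  rw [hG, map_sum] at hG1
  simp only [map_pow, AdjoinRoot.mk_X] at hG1
  have hβr : β ^ r = 1 := by
    have := geom_sum_mul β r
    rw [hG1, zero_mul] at this
    exact sub_eq_zero.1 this.symm
  have hβ1 : β ≠ 1 := by
    intro h
    rw [← hβ, h] at hG1
    simp only [one_pow, Finset.sum_const, Finset.card_range, nsmul_eq_mul, mul_one] at hG1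
    exact hrF ((map_eq_zero (algebraMap F (AdjoinRoot f))).1 (by rw [map_natCast]; exact hG1))
  have hβo : orderOf β = r := orderOf_eq_prime hβr hβ1
  have hdeg : m ∣ f.natDegree := by
    rw [← hk, orderOf_dvd_iff_pow_eq_one, ← sub_eq_zero, ← Nat.cast_pow, ← Nat.cast_one,
      ← Nat.cast_sub (Nat.one_le_pow _ _ Fintype.card_pos), ZMod.natCast_eq_zero_iff, ← hβo,
      orderOf_dvd_iff_pow_eq_one]
    exact (root_pow_card hfm hf0).2
  have hμle : μ.natDegree ≤ 2 * m := by
    have h1 := natDegree_le_of_dvd (LinearMap.minpoly_dvd_charpoly (en s)) (LinearMap.charpoly_monic _).ne_zero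
    rw [LinearMap.charpoly_natDegree, Module.finrank_fin_fun] at h1
    exact h1
  have hnd : dualPoly σ f ≠ f := by
    intro hd
    obtain ⟨hodd, hpow⟩ := self_dual_unitary hF sigma_apply sigma_sigma exists_sigma_ne hf0 hd
    have hle := (natDegree_le_of_dvd hfμ hμm.ne_zero).trans hμle
    obtain ⟨c, hc⟩ := hdeg
    rcases c with _ | _ | _ | c
    · have := hfi.natDegree_pos
      omega
    · simp only [zero_add, mul_one] at hc
      have := orderOf_dvd_of_pow_eq_one hpow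
      rw [hβo, hc] at this
      exact hnsd (hc ▸ hodd) this
    · exact absurd hodd (by rw [hc]; exact Nat.not_odd_iff_even.2 ⟨m, by ring⟩)
    · nlinarith
  have hdμ : dualPoly σ f ∣ μ := by
    obtain ⟨c, hc⟩ := hfμ
    exact ⟨dualPoly σ c, by rw [hμ, ← dualPoly_minpoly hB.tf hs, ← hμ, hc, dualPoly_mul]⟩
  have hco : IsCoprime f (dualPoly σ f) := by
    rcases hfi.isCoprime_or_dvd (dualPoly σ f) with h | h
    · exact h
    · exact absurd (eq_of_monic_of_dvd_of_natDegree_le hfm (monic_dualPoly hf0) h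
        (natDegree_dualPoly hf0).le) hnd
  obtain ⟨l, hl⟩ := hco.mul_dvd hfμ hdμ
  have hd0 : dualPoly σ f ≠ 0 := (monic_dualPoly hf0).ne_zero
  have hl0 : l ≠ 0 := fun h => hμm.ne_zero (by rw [hl, h, mul_zero])
  have hsum : μ.natDegree = f.natDegree + f.natDegree + l.natDegree := by
    rw [hl, natDegree_mul (mul_ne_zero hfm.ne_zero hd0) hl0, natDegree_mul hfm.ne_zero hd0,
      natDegree_dualPoly hf0]
  have hfle := Nat.le_of_dvd hfi.natDegree_pos hdeg
  refine ⟨f, hfi, hf0, hfm, by omega, hco, ?_⟩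
  have h0 := minpoly.aeval F (en s)
  rw [← hμ, hl, eq_C_of_natDegree_eq_zero (p := l) (by omega), map_mul, aeval_C,
    ← Algebra.commutes, ← Algebra.smul_def] at h0
  refine (smul_eq_zero.1 h0).resolve_left fun h => hl0 ?_
  rw [eq_C_of_natDegree_eq_zero (p := l) (by omega), h, map_zero]

theorem tA_eq_sum {q m : ℕ} (hq : 2 ≤ q) :
    FormTorus.tA q (2 * m) = (∑ i ∈ Finset.range m, (q ^ 2) ^ i) * (q - 1) := by
  refine Nat.eq_of_mul_eq_mul_right (show 0 < q + 1 by omega) ?_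
  have hq2 : 2 ≤ q ^ 2 := le_trans hq (Nat.le_self_pow two_ne_zero q)
  rw [tA_even (by omega) (even_two_mul m), mul_assoc, mul_comm (q - 1), ← Nat.sq_sub_sq, one_pow,
    Nat.geomSum_eq hq2, Nat.div_mul_cancel (Nat.sub_one_dvd_pow_sub_one _ _), ← pow_mul]

theorem dvd_tA_iff {q G k : ℕ} (hG : G ∣ q + 1) : G ∣ FormTorus.tA q k ↔ G ∣ k := by
  have h1 : ((q : ℕ) : ZMod G) = -1 := by
    have := (ZMod.natCast_eq_zero_iff (q + 1) G).2 hG
    rw [Nat.cast_add, Nat.cast_one] at this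
    exact eq_neg_of_add_eq_zero_left this
  rw [FormTorus.tA, ← Int.natCast_dvd, ← ZMod.intCast_zmod_eq_zero_iff_dvd, ← ZMod.natCast_eq_zero_iff,
    FormTorus.sT, Int.cast_sum]
  simp [h1]

theorem gcd_tA {q k : ℕ} : Nat.gcd (FormTorus.tA q k) (q + 1) = Nat.gcd k (q + 1) :=
  Nat.dvd_antisymm
    (Nat.dvd_gcd ((dvd_tA_iff (Nat.gcd_dvd_right _ _)).1 (Nat.gcd_dvd_left _ _)) (Nat.gcd_dvd_right _ _))
    (Nat.dvd_gcd ((dvd_tA_iff (Nat.gcd_dvd_right _ _)).2 (Nat.gcd_dvd_left _ _)) (Nat.gcd_dvd_right _ _))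

theorem half_dvd_tM_iff {q m : ℕ} (hq : 2 ≤ q) (hm : 0 < m) :
    (if Even m then q ^ m + 1 else q ^ m - 1) ∣ FormTorus.tM q (2 * m) ↔
      padicValNat 2 (q + 1) < padicValNat 2 (2 * m) := by
  set o := if Even m then q ^ m + 1 else q ^ m - 1 with ho
  have hqm : 2 ≤ q ^ m := le_trans hq (Nat.le_self_pow hm.ne' q)
  have hopos : 0 < o := by rw [ho]; split_ifs <;> omega
  have ho' : o = ((-(q : ℤ)) ^ m + 1).natAbs := by
    rw [ho]
    split_ifs with h
    · rw [h.neg_pow]; norm_cast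
    · rw [(Nat.not_even_iff_odd.1 h).neg_pow, ← Int.natAbs_neg, neg_add, neg_neg, ← sub_eq_add_neg,
        show (q : ℤ) ^ m - 1 = ((q ^ m - 1 : ℕ) : ℤ) by rw [Nat.cast_sub (by omega)]; push_cast; rfl,
        Int.natAbs_natCast]
  have hmul : FormTorus.tA q (2 * m) = FormTorus.tA q m * o := by
    rw [ho', FormTorus.tA, FormTorus.tA, ← Int.natAbs_mul, FormTorus.sT, FormTorus.sT]
    congr 1
    rw [two_mul, Finset.sum_range_add, mul_add, mul_one, add_comm, Finset.sum_mul]
    congr 1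
    exact Finset.sum_congr rfl fun i _ => by rw [pow_add, mul_comm]
  rw [FormTorus.tM, Nat.dvd_div_iff_mul_dvd (Nat.gcd_dvd_left _ _), gcd_tA, hmul,
    mul_comm _ o, mul_comm _ o, Nat.mul_dvd_mul_iff_left hopos, dvd_tA_iff (Nat.gcd_dvd_right _ _)]
  exact gcd_dvd_half_iff hm (by omega)

/-- Elements with a prime of Singer degree `m` lie in the cyclic torus. -/
theorem dvd_tM_of_primitive {m : ℕ} (hm : 2 ≤ m) {r : ℕ} [hr : Fact r.Prime] (hrF : (r : F) ≠ 0)
    (hk : orderOf ((Fintype.card F : ℕ) : ZMod r) = m) (hnsd : Odd m → ¬ r ∣ q ^ m + 1) (hrq : ¬ r ∣ q + 1)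
    (x : Cfsg.PSU (2 * m) F q) (hro : r ∣ orderOf x) :
    orderOf x ∣ FormTorus.tM q (2 * m) := by
  classical
  have hF : Nat.card F = q ^ 2 := AutPSU.QField.card
  have hq2 : 2 ≤ q := AutPSU.QField.two_le F
  obtain ⟨g, hg, hdet, hpow⟩ := exists_iso_of_psu (by omega) x
  have hB := isUnitary_of_isFlip (hermB_flip (F := F) (q := q) (2 * m))
  haveI : Nonempty (Fin (2 * m)) := ⟨⟨0, by omega⟩⟩
  haveI := finite_equiv (F := F) (V := Fin (2 * m) → F)
  set o := orderOf x with ho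
  have hopos : 0 < o := orderOf_pos x
  obtain ⟨c₀, hc₀⟩ := (hpow o).1 (pow_orderOf_eq_one x)
  obtain ⟨v₀, hv₀⟩ := exists_ne (0 : Fin (2 * m) → F)
  obtain ⟨w₀, hw₀⟩ : ∃ w, hermB (2 * m) σ v₀ w ≠ 0 := by
    by_contra h; push Not at h; exact hv₀ (hB.tf.nondeg v₀ h)
  have hc₀q : c₀ ^ (q + 1) = 1 := by
    have h : hermB (2 * m) σ ((en g ^ o) v₀) ((en g ^ o) w₀) = hermB (2 * m) σ v₀ w₀ := by
      rw [← en_pow]; exact FormTorus.preserves_pow hg o v₀ w₀
    simp only [hc₀, map_smulₛₗ, LinearMap.smul_apply, smul_eq_mul, RingHom.id_apply, sigma_apply] at h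
    rw [← mul_assoc, ← pow_succ'] at h
    exact (mul_eq_right₀ hw₀).1 h
  obtain ⟨d, hd⟩ := hro
  set s := g ^ (d * (q + 1)) with hs
  have hgo : en g ^ (o * (q + 1)) = 1 := by
    rw [pow_mul, show en g ^ o = c₀ • 1 from LinearMap.ext hc₀, _root_.smul_pow, one_pow, hc₀q, one_smul]
  have hsr : en s ^ r = 1 := by
    rw [hs, en_pow, ← pow_mul, show d * (q + 1) * r = r * d * (q + 1) by ring, ← hd, hgo]
  have hs1 : en s ≠ 1 := fun h => by
    have h1 : x ^ (d * (q + 1)) = 1 := (hpow _).2 ⟨1, fun v => by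
      rw [← en_pow, ← hs, h, one_smul]; rfl⟩
    have h2 := orderOf_dvd_of_pow_eq_one h1
    rw [← ho, hd, mul_comm r d] at h2
    exact hrq (Nat.dvd_of_mul_dvd_mul_left (Nat.pos_of_ne_zero fun h0 => by rw [h0, mul_zero] at hd; omega) h2)
  have hsp : Preserves (hermB (2 * m) σ) s := FormTorus.preserves_pow hg _
  obtain ⟨f, hfi, hf0, hfm, hfd, hco, hann⟩ := minpoly_pair hm hrF hk hnsd hsp hsr hs1
  obtain ⟨hc, hR⟩ := ker_split hco (T := en s) hann
  obtain ⟨-, hR'⟩ := ker_split hco.symm (T := en s) (by rwa [mul_comm (dualPoly σ f) f])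
  set W₁ := LinearMap.ker (aeval (en s) f) with hW₁
  set W₂ := LinearMap.ker (aeval (en s) (dualPoly σ f)) with hW₂
  have hi1 : ∀ u ∈ W₁, ∀ v ∈ W₁, hermB (2 * m) σ u v = 0 := by
    intro u hu v hv
    rw [← hR'] at hv
    obtain ⟨w, rfl⟩ := hv
    exact orth_dual hsp (LinearMap.mem_ker.1 hu) w
  have hi2 : ∀ u ∈ W₂, ∀ v ∈ W₂, hermB (2 * m) σ u v = 0 := by
    intro u hu v hv
    rw [← hR] at hv
    obtain ⟨w, rfl⟩ := hv
    have := orth_dual hsp (f := dualPoly σ f) (LinearMap.mem_ker.1 hu) w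
    rwa [dualPoly_dualPoly hB.tf.invol hfm hf0] at this
  have hinv : ∀ (a : F[X]) (T : Module.End F (Fin (2 * m) → F)), Commute T (en s) →
      ∀ v ∈ LinearMap.ker (aeval (en s) a), T v ∈ LinearMap.ker (aeval (en s) a) := by
    intro a T hT v hv
    rw [LinearMap.mem_ker] at hv ⊢
    have hc : Commute T (aeval (en s) a) :=
      Algebra.commute_of_mem_adjoin_singleton_of_commute (aeval_mem_adjoin_singleton F (en s)) hT
    rw [← Module.End.mul_apply, ← hc.eq, Module.End.mul_apply, hv, map_zero]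
  have hgs : Commute (en g) (en s) := by rw [hs, en_pow]; exact Commute.self_pow _ _
  have hw1 := hinv f (en g) hgs
  have hw2 := hinv (dualPoly σ f) (en g) hgs
  have hs1' := hinv f (en s) (Commute.refl _)
  have hW₁dim : finrank F W₁ = m := by
    have h1 := Submodule.finrank_add_eq_of_isCompl hc
    rw [← finrank_eq_of_pair hB.tf hc hi1 hi2, Module.finrank_fin_fun] at h1
    omega
  haveI : Nontrivial W₁ := Module.nontrivial_of_finrank_pos (R := F) (by omega)
  have hC1 : (en s).restrict hs1' ≠ 1 := by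
    intro h
    obtain ⟨v, hv⟩ := exists_ne (0 : W₁)
    have hfix : en s (v : Fin (2 * m) → F) = v :=
      congrArg (fun T : Module.End F W₁ => ((T v : W₁) : Fin (2 * m) → F)) h
    have h0 := aeval_apply_fixed hfix f
    rw [LinearMap.mem_ker.1 v.2, eq_comm, smul_eq_zero] at h0
    have hroot := h0.resolve_right fun h' => hv (Subtype.ext h')
    have := natDegree_eq_of_degree_eq (degree_eq_degree_of_associated
      ((irreducible_X_sub_C (1 : F)).associated_of_dvd hfi (dvd_iff_isRoot.2 hroot)))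
    rw [natDegree_X_sub_C, hfd] at this
    omega
  have hsr' : (en s).restrict hs1' ^ r = 1 := by
    rw [Module.End.pow_restrict r (h := hs1')]
    refine LinearMap.ext fun v => Subtype.ext ?_
    show (en s ^ r) (v : Fin (2 * m) → F) = v
    rw [hsr]; rfl
  obtain ⟨hd1, hd2⟩ := det_pair hB.tf hc hi1 hi2 (en g) (fun u v => hg u v) hw1 hw2
  rw [hdet] at hd1
  set D := LinearMap.det ((en g).restrict hw1) with hD
  have hD0 : D ≠ 0 := fun h0 => by rw [h0, zero_mul] at hd1; exact one_ne_zero hd1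
  have hDq : D ^ (q - 1) = 1 := by
    rw [sigma_apply] at hd2
    have he : D ^ q = D := by
      refine mul_right_cancel₀ (fun h0 => ?_) (hd2.trans hd1)
      rw [h0, mul_zero] at hd1
      exact one_ne_zero hd1
    refine mul_left_cancel₀ hD0 ?_
    rw [mul_one, ← pow_succ', Nat.sub_add_cancel (by omega), he]
  obtain ⟨hA, hS⟩ := singer_core hrF hsr' hC1 (by rw [hW₁dim]; exact hk) (T := (en g).restrict hw1)
    (by
      refine LinearMap.ext fun v => Subtype.ext ?_
      exact LinearMap.congr_fun hgs.symm.eq (v : Fin (2 * m) → F)) hD0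
  have hT1 := hA (q - 1) hDq
  rw [hW₁dim, ← Nat.card_eq_fintype_card, hF, ← tA_eq_sum hq2] at hT1
  set M := FormTorus.tM q (2 * m) with hM
  obtain ⟨t, ht⟩ := tA_dvd_tM_mul q (2 * m)
  have hTq : (en g).restrict hw1 ^ (M * (q + 1)) = 1 := by rw [hM, ht, pow_mul, hT1, one_pow]
  obtain ⟨c, hcM⟩ := hS M (by
    rw [← Nat.card_eq_fintype_card, hF, show q ^ 2 - 1 = (q + 1) * (q - 1) by rw [← Nat.sq_sub_sq, one_pow],
      ← mul_assoc, pow_mul, hTq, one_pow])
  have hcq : c ^ (q + 1) = 1 := by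
    have h1 := hTq
    rw [pow_mul, hcM, _root_.smul_pow, one_pow] at h1
    obtain ⟨v, hv⟩ := exists_ne (0 : W₁)
    have h2 := LinearMap.congr_fun h1 v
    rw [LinearMap.smul_apply, Module.End.one_apply] at h2
    exact smul_left_injective F hv (h2.trans (one_smul F v).symm)
  have hW1 : ∀ v ∈ W₁, (en g ^ M) v = c • v := by
    intro v hv
    have := congrArg (fun T : Module.End F W₁ => ((T ⟨v, hv⟩ : W₁) : Fin (2 * m) → F)) hcM
    rw [Module.End.pow_restrict M (h := hw1)] at this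
    exact this
  have hpM : ∀ u v, hermB (2 * m) σ ((en g ^ M) u) ((en g ^ M) v) = hermB (2 * m) σ u v := by
    rw [← en_pow]
    exact FormTorus.preserves_pow hg _
  have hM2 := hinv (dualPoly σ f) (en g ^ M) (hgs.pow_left M)
  refine orderOf_dvd_of_pow_eq_one ((hpow _).2 ⟨c, fun w => ?_⟩)
  obtain ⟨u, hu, v, hv, rfl⟩ := Submodule.mem_sup.1
    (hc.sup_eq_top ▸ Submodule.mem_top : w ∈ W₁ ⊔ W₂)
  suffices (en g ^ M) v = c • v by rw [map_add, hW1 u hu, this, smul_add]
  refine sub_eq_zero.1 (eq_zero_of_pair hB.tf hc.symm hi2 (sub_mem (hM2 v hv)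
    (W₂.smul_mem _ hv)) fun w hw => ?_)
  have h := hpM v w
  rw [hW1 w hw, map_smul, smul_eq_mul] at h
  rw [map_sub, LinearMap.sub_apply, map_smulₛₗ, LinearMap.smul_apply, smul_eq_mul, sigma_apply]
  linear_combination (c ^ q) * h - (hermB (2 * m) σ ((en g ^ M) v) w) * hcq

end Cfsg.Agent.GLOrders
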