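import Mathlib
import Cfsg.Agent.Lib.GLOrders.Semisimple

set_option autoImplicit false

/-!
Element orders prime to `r` in `PSL_n(q)`, where `r` is a prime with `r ∣ q - 1` and `r ∤ n`.
-/

namespace Cfsg.Agent.GLOrders

open Polynomial Matrix

variable {F : Type*} [Field F] [Fintype F] {n : ℕ}

abbrev PSLmk (x : Matrix.SpecialLinearGroup (Fin n) F) :
    Matrix.ProjectiveSpecialLinearGroup (Fin n) F :=
  QuotientGroup.mk x

theorem mk_eq_one_iff (x : Matrix.SpecialLinearGroup (Fin n) F) :
    PSLmk x = 1 ↔ ∃ c : F, (x : Matrix (Fin n) (Fin n) F) = scalar (Fin n) c := by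
  rw [PSLmk, QuotientGroup.eq_one_iff, Matrix.SpecialLinearGroup.mem_center_iff]
  constructor
  · rintro ⟨c, -, hc⟩; exact ⟨c, hc.symm⟩
  · rintro ⟨c, hc⟩
    refine ⟨c, ?_, hc.symm⟩
    have := x.det_coe
    rw [hc] at this
    simpa [Matrix.det_diagonal] using this

theorem mk_pow_eq_one_iff (x : Matrix.SpecialLinearGroup (Fin n) F) (j : ℕ) :
    PSLmk x ^ j = 1 ↔ ∃ c : F, (x : Matrix (Fin n) (Fin n) F) ^ j = scalar (Fin n) c := by
  rw [PSLmk, ← QuotientGroup.mk_pow, ← PSLmk, mk_eq_one_iff]
  simp

/-- The block diagonal matrix `diag(A, B)` as an element of `GL_n`. -/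
def blockPair {d : ℕ} (h : d ≤ n) :
    Matrix (Fin d) (Fin d) F × Matrix (Fin (n - d)) (Fin (n - d)) F →* Matrix (Fin n) (Fin n) F where
  toFun P := Matrix.reindexAlgEquiv F F
        (finSumFinEquiv.trans (finCongr (Nat.add_sub_cancel' h)))
        (Matrix.fromBlocks P.1 0 0 P.2)
  map_one' := by
    show Matrix.reindexAlgEquiv F F _ _ = 1
    rw [Prod.fst_one, Prod.snd_one, Matrix.fromBlocks_one, map_one]
  map_mul' P Q := by rw [← map_mul, Matrix.fromBlocks_multiply]; simp

theorem blockPair_det {d : ℕ} (h : d ≤ n)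
    (P : Matrix (Fin d) (Fin d) F × Matrix (Fin (n - d)) (Fin (n - d)) F) :
    (blockPair h P).det = P.1.det * P.2.det := by
  change (Matrix.reindexAlgEquiv F F _ _).det = _
  rw [Matrix.det_reindexAlgEquiv, Matrix.det_fromBlocks_zero₂₁]

theorem blockPair_injective {d : ℕ} (h : d ≤ n) :
    Function.Injective (blockPair (F := F) h) := by
  intro P Q hPQ
  have := Matrix.fromBlocks_inj.mp
    ((Matrix.reindexAlgEquiv F F _).injective hPQ)
  exact Prod.ext this.1 this.2.2.2

theorem blockPair_scalar {d : ℕ} (h : d ≤ n) (c : F) :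
    blockPair h (scalar (Fin d) c, scalar (Fin (n - d)) c) = scalar (Fin n) c := by
  have hs : Matrix.fromBlocks (scalar (Fin d) c) 0 0 (scalar (Fin (n - d)) c)
      = algebraMap F (Matrix (Fin d ⊕ Fin (n - d)) (Fin d ⊕ Fin (n - d)) F) c := by
    ext (i | i) (j | j) <;> simp [Matrix.algebraMap_matrix_apply, Matrix.diagonal_apply]
  show Matrix.reindexAlgEquiv F F _ _ = _
  rw [hs, AlgEquiv.commutes]
  ext i j
  simp [Matrix.algebraMap_matrix_apply, Matrix.diagonal_apply]

/-- The unipotent matrix `1 + N` with `N` the shift. -/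
def jordanOne (R : Type*) [CommRing R] (m : ℕ) : Matrix (Fin m) (Fin m) R :=
  Matrix.of fun i j => if i = j then 1 else if j.val = i.val + 1 then 1 else 0

theorem jordanOne_det (R : Type*) [CommRing R] (m : ℕ) : (jordanOne R m).det = 1 := by
  rw [Matrix.det_of_upperTriangular]
  · simp [jordanOne]
  · intro i j hij
    simp only [id_eq] at hij
    simp [jordanOne, ne_of_gt hij]
    omega

theorem jordanOne_sub_one_pow (R : Type*) [CommRing R] (m k : ℕ) (i j : Fin m) :
    ((jordanOne R m - 1) ^ k) i j = if j.val = i.val + k then 1 else 0 := by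
  induction k generalizing j with
  | zero =>
    rw [pow_zero, Matrix.one_apply]
    simp [Fin.ext_iff, eq_comm]
  | succ k ih =>
    rw [pow_succ, Matrix.mul_apply]
    simp only [ih]
    have hN : ∀ a : Fin m, (jordanOne R m - 1 : Matrix (Fin m) (Fin m) R) a j =
        if j.val = a.val + 1 then 1 else 0 := by
      intro a
      by_cases h : a = j
      · subst h; simp [jordanOne]
      · simp [jordanOne, h]
    simp only [hN, ite_mul, one_mul, zero_mul]
    by_cases hk : i.val + k < m
    · rw [Finset.sum_eq_single ⟨i.val + k, hk⟩]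
      · simp [Nat.add_assoc]
      · intro b _ hb
        simp [show ¬ b.val = i.val + k from fun h => hb (Fin.ext h)]
      · simp
    · rw [Finset.sum_eq_zero (fun b _ => by simp [show ¬ b.val = i.val + k by omega]), if_neg]
      omega

/-- If `p ^ e < m` then no power `(1 + N) ^ (p ^ e)` is a scalar, and the order of `1 + N` is a
multiple of `p ^ (e + 1)`. -/
theorem pow_dvd_of_jordanOne_pow_eq_one (p : ℕ) [Fact p.Prime] [CharP F p] {m e j : ℕ}
    (he : p ^ e < m) (hj : jordanOne F m ^ j = 1) : p ^ (e + 1) ∣ j := by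
  have hp : p.Prime := Fact.out
  haveI : Nonempty (Fin m) := ⟨⟨0, lt_of_le_of_lt (Nat.zero_le _) he⟩⟩
  haveI : CharP (Matrix (Fin m) (Fin m) F) p := inferInstance
  have hbig : jordanOne F m ^ p ^ m = 1 := by
    have h0 : (jordanOne F m - 1) ^ p ^ m = 0 := by
      ext a b
      rw [jordanOne_sub_one_pow, Matrix.zero_apply, if_neg]
      have := Nat.lt_pow_self (n := m) hp.one_lt
      omega
    rw [sub_pow_char_pow_of_commute _ _ (Commute.one_right _), one_pow, sub_eq_zero] at h0
    exact h0
  obtain ⟨b, -, hb⟩ := (Nat.dvd_prime_pow hp).mp (orderOf_dvd_of_pow_eq_one hbig)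
  have hlt : e < b := by
    by_contra hle
    have h1 : jordanOne F m ^ p ^ e = 1 := by
      apply orderOf_dvd_iff_pow_eq_one.mp
      rw [hb]; exact pow_dvd_pow p (by omega)
    have h2 : (jordanOne F m - 1) ^ p ^ e = 0 := by
      rw [sub_pow_char_pow_of_commute _ _ (Commute.one_right _), one_pow, h1, sub_self]
    have h3 := congrFun (congrFun h2 ⟨0, by omega⟩) ⟨p ^ e, he⟩
    rw [jordanOne_sub_one_pow] at h3
    simp at h3
  have := orderOf_dvd_of_pow_eq_one hj
  rw [hb] at this
  exact (pow_dvd_pow p hlt).trans this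

omit [Fintype F] in
theorem exists_pow_of_prime_roots {r : ℕ} (hr : r.Prime) (hrn : ¬ r ∣ n) (δ : F) (hδ : δ ^ r = 1) :
    ∃ b : F, b ^ n * δ = 1 ∧ b ^ r = 1 := by
  have hco : Nat.Coprime n r := (hr.coprime_iff_not_dvd.mpr hrn).symm
  obtain ⟨j, -, hj⟩ := Nat.exists_mul_mod_eq_one_of_coprime hco hr.one_lt
  refine ⟨δ ^ ((r - 1) * j), ?_, by rw [← pow_mul, mul_comm, pow_mul, hδ, one_pow]⟩
  rw [← pow_mul, ← pow_succ, pow_eq_pow_mod _ hδ]
  have h1 : ((r - 1) * j * n + 1) % r = 0 := by
    rw [mul_assoc, mul_comm j n, Nat.add_mod, Nat.mul_mod, hj, mul_one, Nat.mod_mod,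
      Nat.mod_eq_of_lt (show r - 1 < r by have := hr.one_lt; omega),
      Nat.mod_eq_of_lt hr.one_lt, Nat.sub_add_cancel hr.one_lt.le, Nat.mod_self]
  rw [h1, pow_zero]

/-- A non-scalar matrix `T` with `T ^ r = 1` commuting with `g` multiplies the projective order. -/
theorem extend_of_commute {r : ℕ} (hr : r.Prime) (hrn : ¬ r ∣ n)
    (g : Matrix.SpecialLinearGroup (Fin n) F) (T : Matrix (Fin n) (Fin n) F)
    (hT : T ^ r = 1) (hTs : ∀ c : F, T ≠ scalar (Fin n) c)
    (hcomm : Commute (g : Matrix (Fin n) (Fin n) F) T)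
    (hco : ¬ r ∣ orderOf (PSLmk g)) :
    ∃ h : Matrix.SpecialLinearGroup (Fin n) F, orderOf (PSLmk g) * r ∣ orderOf (PSLmk h) := by
  have hd : T.det ^ r = 1 := by rw [← Matrix.det_pow, hT, Matrix.det_one]
  obtain ⟨b, hb, hbr⟩ := exists_pow_of_prime_roots hr hrn T.det hd
  let t : Matrix.SpecialLinearGroup (Fin n) F := ⟨b • T, by simp [Matrix.det_smul, hb]⟩
  have hb0 : b ≠ 0 := by
    intro h; rw [h, zero_pow hr.ne_zero] at hbr; exact zero_ne_one hbr
  have ht : PSLmk t ^ r = 1 := by
    rw [mk_pow_eq_one_iff]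
    exact ⟨1, by simp [t, _root_.smul_pow, hbr, hT]⟩
  have ht1 : PSLmk t ≠ 1 := by
    rw [Ne, mk_eq_one_iff]
    rintro ⟨c, hc⟩
    refine hTs (b⁻¹ * c) ?_
    have := congrArg (fun X => b⁻¹ • X) hc
    simpa [t, smul_smul, inv_mul_cancel₀ hb0, ← Matrix.diagonal_smul, Pi.smul_def] using this
  haveI : Fact r.Prime := ⟨hr⟩
  have hto : orderOf (PSLmk t) = r := orderOf_eq_prime ht ht1
  have hct : Commute g t := Subtype.ext (hcomm.smul_right b)
  have hct' : Commute (PSLmk g) (PSLmk t) :=
    hct.map (QuotientGroup.mk' (Subgroup.center (Matrix.SpecialLinearGroup (Fin n) F)))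
  refine ⟨g * t, dvd_of_eq ?_⟩
  show orderOf (PSLmk g) * r = orderOf (PSLmk g * PSLmk t)
  rw [hct'.orderOf_mul_eq_mul_orderOf_of_coprime, hto]
  rw [hto]
  exact (hr.coprime_iff_not_dvd.mpr hco).symm

/-- The element built from a torus element of degree `d` and a unipotent block of size `n - d`. -/
theorem exists_torus_unipotent (p : ℕ) [Fact p.Prime] [CharP F p] {d : ℕ} (hd : 1 ≤ d) (h : d ≤ n) :
    ∃ (M : ℕ) (h' : Matrix.SpecialLinearGroup (Fin n) F),
      M * Nat.gcd n (Fintype.card F - 1) = Fintype.card F ^ d - 1 ∧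
      (d < n → M ∣ orderOf (PSLmk h')) ∧
      (∀ e, p ^ e < n - d → p ^ (e + 1) ∣ orderOf (PSLmk h')) ∧
      (d = n → ∀ N, N * Nat.gcd n (Fintype.card F - 1) * (Fintype.card F - 1)
        = Fintype.card F ^ n - 1 → N ∣ orderOf (PSLmk h')) := by
  classical
  set q := Fintype.card F with hq
  set G := Nat.gcd n (q - 1) with hG
  haveI : NeZero d := ⟨by omega⟩
  let E := FiniteField.Extension F p d
  haveI : Fintype E := Fintype.ofFinite E
  let b : Module.Basis (Fin d) F E :=
    Module.finBasisOfFinrankEq F E (FiniteField.finrank_extension F p d)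
  obtain ⟨y₀, hy₀⟩ := IsCyclic.exists_generator (α := Eˣ)
  have hy₀o : orderOf y₀ = q ^ d - 1 := by
    rw [orderOf_eq_card_of_forall_mem_zpowers hy₀, Nat.card_units, FiniteField.natCard_extension,
      Nat.card_eq_fintype_card]
  have hGq : G ∣ q - 1 := Nat.gcd_dvd_right _ _
  have hqd : q - 1 ∣ q ^ d - 1 := Nat.sub_one_dvd_pow_sub_one q d
  obtain ⟨M, hM⟩ := hGq.trans hqd
  have hG0 : 0 < G := Nat.gcd_pos_of_pos_left _ (by omega)
  set γ : Fˣ := Units.map (Algebra.norm F (S := E)) y₀ with hγ
  obtain ⟨c, hc⟩ : ∃ c : Fˣ, γ ^ G * c ^ n = 1 := by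
    refine ⟨(γ ^ Nat.gcdA n (q - 1))⁻¹, ?_⟩
    have hγc : γ ^ ((q - 1 : ℕ) : ℤ) = 1 := by
      rw [zpow_natCast, hq, ← Fintype.card_units, pow_card_eq_one]
    have : γ ^ (G : ℤ) = (γ ^ Nat.gcdA n (q - 1)) ^ n := by
      rw [hG, Nat.gcd_eq_gcd_ab, _root_.zpow_add, mul_comm (n : ℤ), _root_.zpow_mul, zpow_natCast,
        _root_.zpow_mul, hγc, _root_.one_zpow, mul_one]
    rw [zpow_natCast] at this
    rw [this, inv_pow, mul_inv_cancel]
  set y : E := ((y₀ ^ G : Eˣ) : E) with hy
  let U := jordanOne F (n - d)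
  let P : Matrix (Fin d) (Fin d) F × Matrix (Fin (n - d)) (Fin (n - d)) F :=
    (Algebra.leftMulMatrix b y, U)
  have hdet : ((c : F) • blockPair h P).det = 1 := by
    rw [Matrix.det_smul, blockPair_det, Fintype.card_fin]
    simp only [P, U, jordanOne_det, mul_one, ← Algebra.norm_eq_matrix_det]
    have := congrArg Units.val hc
    simp only [Units.val_mul, Units.val_pow_eq_pow_val, Units.val_one, hγ, Units.coe_map,
      MonoidHom.coe_coe] at this
    rw [hy, Units.val_pow_eq_pow_val, map_pow, mul_comm]
    exact this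
  refine ⟨M, ⟨(c : F) • blockPair h P, hdet⟩, by rw [hM, mul_comm], ?_⟩
  -- a power trivial modulo scalars
  have key : ∀ j, PSLmk (⟨(c : F) • blockPair h P, hdet⟩ : Matrix.SpecialLinearGroup (Fin n) F) ^ j = 1 →
      ∃ z : F, y ^ j = algebraMap F E z ∧ U ^ j = scalar (Fin (n - d)) z := by
    intro j hj
    obtain ⟨z, hz⟩ := (mk_pow_eq_one_iff _ _).mp hj
    refine ⟨((c : F) ^ j)⁻¹ * z, ?_⟩
    have h2 : blockPair h (P ^ j) = scalar (Fin n) (((c : F) ^ j)⁻¹ * z) := by
      have h3 := congrArg (fun X => ((c : F) ^ j)⁻¹ • X) hz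
      simpa [_root_.smul_pow, smul_smul, inv_mul_cancel₀ (pow_ne_zero j c.ne_zero), map_pow,
        ← Matrix.diagonal_smul, Pi.smul_def] using h3
    rw [← blockPair_scalar h] at h2
    have h4 := blockPair_injective h h2
    refine ⟨?_, congrArg Prod.snd h4⟩
    apply Algebra.leftMulMatrix_injective b
    have h5 := congrArg Prod.fst h4
    simp only [Prod.pow_fst, P] at h5
    rw [map_pow, h5, AlgHom.commutes]
    rfl
  refine ⟨?_, ?_, ?_⟩
  · intro hdn
    obtain ⟨z, hz1, hz2⟩ := key _ (pow_orderOf_eq_one _)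
    set j := orderOf (PSLmk (⟨(c : F) • blockPair h P, hdet⟩ : Matrix.SpecialLinearGroup (Fin n) F))
    have hz : z = 1 := by
      have hU : ∀ a : Fin (n - d), ∀ k : ℕ, (U ^ k) a a = 1 := by
        intro a k
        have hT : U.BlockTriangular id := by
          intro i i' hi
          simp only [id_eq] at hi
          simp [U, jordanOne, ne_of_gt hi]
          omega
        induction k with
        | zero => simp
        | succ k ih =>
          rw [pow_succ, Matrix.mul_apply, Finset.sum_eq_single a]
          · have hUa : U a a = 1 := by simp [U, jordanOne]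
            rw [ih, hUa, one_mul]
          · intro b _ hb
            rcases lt_or_gt_of_ne hb with hlt | hgt
            · simp [(hT.pow k) (show id b < id a from hlt)]
            · simp [hT (show id a < id b from hgt)]
          · simp
      have := hU ⟨0, by omega⟩ j
      rw [hz2] at this
      simpa using this
    rw [hz, map_one] at hz1
    have h6 : (y₀ ^ (G * j) : Eˣ) = 1 := by
      apply Units.ext
      simpa [pow_mul, hy] using hz1
    have h7 := orderOf_dvd_of_pow_eq_one h6
    rw [hy₀o, hM] at h7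
    exact Nat.dvd_of_mul_dvd_mul_left hG0 h7
  · intro e he
    obtain ⟨z, -, hz2⟩ := key _ (pow_orderOf_eq_one _)
    set j := orderOf (PSLmk (⟨(c : F) • blockPair h P, hdet⟩ : Matrix.SpecialLinearGroup (Fin n) F))
    have hU0 : (U ^ j).det = 1 := by rw [Matrix.det_pow, jordanOne_det, one_pow]
    have hzU : (U ^ (j * (q - 1))) = 1 := by
      have hz0 : z ≠ 0 := by
        intro h0
        rw [hz2, h0] at hU0
        haveI : Nonempty (Fin (n - d)) := ⟨⟨0, by omega⟩⟩
        simp at hU0
      rw [pow_mul, hz2, ← map_pow, hq, FiniteField.pow_card_sub_one_eq_one z hz0, map_one]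
    have h1 := pow_dvd_of_jordanOne_pow_eq_one p he hzU
    refine Nat.Coprime.dvd_of_dvd_mul_right (Nat.Coprime.pow_left _ ?_) h1
    rw [Nat.Prime.coprime_iff_not_dvd Fact.out]
    intro hpq
    obtain ⟨e', he', hcard⟩ := FiniteField.card F p
    rw [hq, hcard] at hpq
    have h8 : p ∣ p ^ (e' : ℕ) := dvd_pow_self p e'.ne_zero
    have hp : p.Prime := Fact.out
    have h9 : 1 ≤ p ^ (e' : ℕ) := Nat.one_le_pow _ _ hp.pos
    have := Nat.dvd_sub h8 hpq
    rw [Nat.sub_sub_self h9] at this
    exact hp.one_lt.ne' (Nat.dvd_one.mp this)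
  · intro hdn N hN
    obtain ⟨z, hz1, -⟩ := key _ (pow_orderOf_eq_one _)
    set j := orderOf (PSLmk (⟨(c : F) • blockPair h P, hdet⟩ : Matrix.SpecialLinearGroup (Fin n) F))
    have hy0 : y ^ j ≠ 0 := pow_ne_zero _ (Units.ne_zero _)
    have hz0 : z ≠ 0 := by rintro rfl; exact hy0 (by rw [hz1, map_zero])
    have h6 : (y₀ ^ (G * j * (q - 1)) : Eˣ) = 1 := by
      apply Units.ext
      have : y ^ (j * (q - 1)) = 1 := by
        rw [pow_mul, hz1, ← map_pow, hq, FiniteField.pow_card_sub_one_eq_one z hz0, map_one]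
      simpa [pow_mul, hy] using this
    have h7 := orderOf_dvd_of_pow_eq_one h6
    rw [hy₀o, hdn, ← hN] at h7
    have hq1 : 0 < q - 1 := by have := Fintype.one_lt_card (α := F); omega
    rw [mul_comm N G] at h7
    exact Nat.dvd_of_mul_dvd_mul_left hG0 (Nat.dvd_of_mul_dvd_mul_right hq1 h7)

/-- The possible orders prime to `r`: one can be multiplied by `r`, or it divides the order of a
Singer element, or it is the exceptional unipotent order. -/
theorem order_trichotomy (p : ℕ) [Fact p.Prime] [CharP F p] {r : ℕ} (hr : r.Prime)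
    (hrq : r ∣ Fintype.card F - 1) (hrn : ¬ r ∣ n) (hn : 2 ≤ n)
    (g : Matrix.SpecialLinearGroup (Fin n) F) (hco : ¬ r ∣ orderOf (PSLmk g)) :
    (∃ h : Matrix.SpecialLinearGroup (Fin n) F, orderOf (PSLmk g) * r ∣ orderOf (PSLmk h)) ∨
    (∃ N, N * Nat.gcd n (Fintype.card F - 1) * (Fintype.card F - 1) = Fintype.card F ^ n - 1 ∧
      orderOf (PSLmk g) ∣ N) ∨
    (∃ t, n - 1 = p ^ t ∧ orderOf (PSLmk g) = p ^ (t + 1)) := by
  classical
  have hp : p.Prime := Fact.out
  haveI : Nonempty (Fin n) := ⟨⟨0, by omega⟩⟩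
  haveI : Nontrivial (Matrix (Fin n) (Fin n) F) := inferInstance
  haveI : CharP (Matrix (Fin n) (Fin n) F) p := inferInstance
  set q := Fintype.card F with hq
  set k := orderOf (PSLmk g) with hk
  have hk0 : k ≠ 0 := (orderOf_pos _).ne'
  obtain ⟨e, k', hk'p, hke⟩ := Nat.exists_eq_pow_mul_and_not_dvd hk0 p hp.ne_one
  have hq2 : 2 ≤ q := Fintype.one_lt_card
  have hpq : Nat.Coprime (q - 1) p := by
    rw [Nat.coprime_comm, hp.coprime_iff_not_dvd]
    intro hpq
    obtain ⟨e', he', hcard⟩ := FiniteField.card F p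
    rw [hq, hcard] at hpq
    have h8 : p ∣ p ^ (e' : ℕ) := dvd_pow_self p e'.ne_zero
    have h9 : 1 ≤ p ^ (e' : ℕ) := Nat.one_le_pow _ _ hp.pos
    have := Nat.dvd_sub h8 hpq
    rw [Nat.sub_sub_self h9] at this
    exact hp.one_lt.ne' (Nat.dvd_one.mp this)
  set A : Matrix (Fin n) (Fin n) F := (g : Matrix (Fin n) (Fin n) F) with hA
  set S := A ^ p ^ e with hS
  set U := A ^ (k' * (q - 1)) with hU
  -- scalar powers
  obtain ⟨c, hc⟩ := (mk_pow_eq_one_iff g k).mp (pow_orderOf_eq_one _)
  have hc0 : c ≠ 0 := by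
    intro h0
    have : (A ^ k).det = 1 := by rw [Matrix.det_pow, hA, g.det_coe, one_pow]
    rw [← hA] at hc
    rw [hc, h0] at this
    simp at this
  have hAkq : A ^ (k * (q - 1)) = 1 := by
    rw [pow_mul, hA, hc, ← map_pow, hq, FiniteField.pow_card_sub_one_eq_one c hc0, map_one]
  have hSm : S ^ (k' * (q - 1)) = 1 := by
    rw [hS, ← pow_mul, ← mul_assoc, ← hke, hAkq]
  have hUp : U ^ p ^ e = 1 := by
    rw [hU, ← pow_mul, ← hAkq, hke]; congr 1; ring
  have hm : ((k' * (q - 1) : ℕ) : F) ≠ 0 := by
    rw [Ne, CharP.cast_eq_zero_iff F p]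
    intro h
    rcases hp.dvd_mul.mp h with h | h
    · exact hk'p h
    · exact hp.coprime_iff_not_dvd.mp hpq.symm h
  set μ := minpoly F S with hμ
  have hint : IsIntegral F S := Matrix.isIntegral S
  have hμdvd : μ ∣ X ^ (k' * (q - 1)) - 1 := minpoly.dvd F S (by simp [hSm])
  have hsep : μ.Separable := by
    have := separable_X_pow_sub_C (1 : F) hm one_ne_zero
    rw [map_one] at this
    exact this.of_dvd hμdvd
  by_cases hirr : Irreducible μ
  swap
  · -- decomposable: a projection commuting with `g`
    left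
    have hμ0 : μ ≠ 0 := minpoly.ne_zero hint
    have hμu : ¬ IsUnit μ := minpoly.not_isUnit F S
    obtain ⟨f, hf, hfμ⟩ := WfDvdMonoid.exists_irreducible_factor hμu hμ0
    obtain ⟨h, hfh⟩ := hfμ
    have hhu : ¬ IsUnit h := by
      intro hu
      exact hirr ((associated_mul_unit_right f h hu).irreducible hf |> fun x => hfh ▸ x)
    have hh0 : h ≠ 0 := by rintro rfl; simp [hμ0] at hfh
    have hco' : IsCoprime f h := (hf.coprime_iff_not_dvd).mpr (by
      intro hfd
      obtain ⟨w, hw⟩ := hfd
      have hsq : f * f ∣ μ := ⟨w, by rw [hfh, hw]; ring⟩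
      exact hf.not_isUnit (hsep.squarefree f hsq))
    obtain ⟨u, v, huv⟩ := hco'
    set P := aeval S (u * f) with hP
    set P' := aeval S (v * h) with hP'
    have hPP : P + P' = 1 := by rw [hP, hP', ← map_add, huv, map_one]
    have hPP0 : P * P' = 0 := by
      rw [hP, hP', ← map_mul, show u * f * (v * h) = (u * v) * μ by rw [hfh]; ring, map_mul,
        hμ, minpoly.aeval, mul_zero]
    have hidem : P * P = P := by
      have := congrArg (fun X => P * X) hPP
      simpa [mul_add, hPP0] using this
    have hPne0 : P ≠ 0 := by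
      intro h0
      have hd : μ ∣ u * f := minpoly.dvd F S h0
      rw [hfh] at hd
      obtain ⟨w, hw⟩ := (dvd_mul_left h f).trans hd
      exact hhu (isUnit_of_dvd_one ⟨w + v, by rw [← huv, hw]; ring⟩)
    have hPne1 : P ≠ 1 := by
      intro h1
      have h0 : P' = 0 := by simpa [h1] using hPP
      have hd : μ ∣ v * h := minpoly.dvd F S h0
      rw [hfh] at hd
      obtain ⟨w, hw⟩ := (dvd_mul_right f h).trans hd
      exact hf.not_isUnit (isUnit_of_dvd_one ⟨u + w, by rw [← huv, hw]; ring⟩)
    obtain ⟨ω, hω⟩ := exists_prime_orderOf_dvd_card' (G := Fˣ) (p := r)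
      (hp := ⟨hr⟩) (by rw [Nat.card_units, Nat.card_eq_fintype_card]; exact hrq)
    set T := (ω : F) • P + (1 - P) with hT
    have hTpow : ∀ j : ℕ, T ^ j = ((ω : F) ^ j) • P + (1 - P) := by
      intro j
      induction j with
      | zero => simp
      | succ j ih =>
        rw [pow_succ, ih, hT]
        simp only [add_mul, mul_add, smul_mul_assoc, mul_smul_comm, sub_mul, mul_sub, one_mul,
          mul_one, hidem, smul_smul, sub_self, smul_zero, pow_succ, add_zero, zero_add]
        rw [mul_comm (ω : F) _]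
        abel
    refine extend_of_commute hr hrn g T ?_ ?_ ?_ hco
    · rw [hTpow, ← Units.val_pow_eq_pow_val, ← hω, pow_orderOf_eq_one]; simp
    · intro z hz
      have hs : ∀ M : Matrix (Fin n) (Fin n) F, M * scalar (Fin n) z = z • M := by
        intro M; ext a b; simp [mul_comm]
      have e1 : ((ω : F) - z) • P = 0 := by
        have := congrArg (fun X => P * X) hz
        simp only [hT, mul_add, mul_smul_comm, mul_sub, mul_one, hidem, sub_self, add_zero, hs] at this
        rw [sub_smul, this, sub_self]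
      have e2 : (1 - z) • (1 - P) = 0 := by
        have := congrArg (fun X => (1 - P) * X) hz
        simp only [hT, mul_add, mul_smul_comm, mul_sub, sub_mul, one_mul, mul_one, hidem, sub_self,
          smul_zero, sub_zero, zero_add, hs] at this
        rw [sub_smul, one_smul, ← this]; simp
      rcases smul_eq_zero.mp e1 with e | e
      · rcases smul_eq_zero.mp e2 with e' | e'
        · have : (ω : F) = 1 := by linear_combination e - e'
          have : ω = 1 := Units.ext this
          rw [this, orderOf_one] at hω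
          exact hr.one_lt.ne hω
        · exact hPne1 (sub_eq_zero.mp e').symm
      · exact hPne0 e
    · have hAP : Commute A P := by
        rw [hP, hS, show aeval (A ^ p ^ e) (u * f) = aeval A ((u * f).comp (X ^ p ^ e)) by
          rw [aeval_comp]; simp]
        exact Algebra.commute_of_mem_adjoin_self (R := F)
          (aeval_mem_adjoin_singleton F A)
      exact (hAP.smul_right _).add_right ((Commute.one_right A).sub_right hAP)
  · -- `S` generates a field
    haveI : Fact (Irreducible μ) := ⟨hirr⟩
    let E := AdjoinRoot μ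
    let φ : Matrix (Fin n) (Fin n) F ≃ₐ[F] ((Fin n → F) →ₗ[F] (Fin n → F)) :=
      Matrix.toLinAlgEquiv'
    let ψ : E →ₐ[F] ((Fin n → F) →ₗ[F] (Fin n → F)) :=
      Ideal.Quotient.liftₐ (Ideal.span {μ}) (aeval (φ S)) (by
        intro a ha
        obtain ⟨w, rfl⟩ := Ideal.mem_span_singleton'.mp ha
        rw [map_mul, aeval_algHom_apply φ S μ, hμ, minpoly.aeval, map_zero, mul_zero])
    have hψmk : ∀ f : F[X], ψ (AdjoinRoot.mk μ f) = aeval (φ S) f := fun f => rfl
    have hψS : ψ (AdjoinRoot.root μ) = φ S := (hψmk X).trans (aeval_X (φ S))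
    letI : Module E (Fin n → F) := Module.compHom _ ψ.toRingHom
    haveI : IsScalarTower F E (Fin n → F) := ⟨fun a x v => by
      change ψ (a • x) v = a • ψ x v
      rw [map_smul]; rfl⟩
    haveI : FiniteDimensional F E := (AdjoinRoot.powerBasis hirr.ne_zero).finite
    haveI : Finite E := Module.finite_of_finite F
    haveI : Fintype E := Fintype.ofFinite E
    haveI : FiniteDimensional E (Fin n → F) := Module.Finite.right F E _
    set d := μ.natDegree with hd
    have hEd : Module.finrank F E = d := by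
      rw [(AdjoinRoot.powerBasis hirr.ne_zero).finrank, AdjoinRoot.powerBasis_dim]
    have hEc : Fintype.card E = q ^ d := by rw [Module.card_eq_pow_finrank (K := F), hEd]
    set e' := Module.finrank E (Fin n → F) with he'
    have hde : d * e' = n := by
      rw [← hEd, he', Module.finrank_mul_finrank, Module.finrank_fin_fun]
    have hd1 : 1 ≤ d := minpoly.natDegree_pos hint
    -- the unipotent part
    have hAU : Commute S U := (Commute.refl A).pow_pow _ _
    let N : (Fin n → F) →ₗ[E] (Fin n → F) :=
      { toFun := fun v => φ (U - 1) v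
        map_add' := fun a b => map_add _ a b
        map_smul' := fun x v => by
          change φ (U - 1) (ψ x v) = ψ x (φ (U - 1) v)
          induction x using AdjoinRoot.induction_on with
          | _ f =>
            have hf : ψ (AdjoinRoot.mk μ f) = φ (aeval S f) := by
              rw [hψmk, aeval_algHom_apply]
            have hcomm : Commute (U - 1) (aeval S f) := by
              have : Commute U (aeval S f) := by
                rw [hU, hS, show aeval (A ^ p ^ e) f = aeval A (f.comp (X ^ p ^ e)) by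
                  rw [aeval_comp]; simp]
                exact (Algebra.commute_of_mem_adjoin_self (R := F)
                  (aeval_mem_adjoin_singleton F A)).pow_left _
              exact this.sub_left (Commute.one_left _)
            rw [hf]
            have := LinearMap.congr_fun (congrArg φ hcomm.eq) v
            simpa [map_mul] using this }
    have hNpow : ∀ j v, (N ^ j) v = φ ((U - 1) ^ j) v := by
      intro j
      induction j with
      | zero => intro v; simp
      | succ j ih =>
        intro v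
        rw [pow_succ, Module.End.mul_apply, ih, pow_succ, map_mul, Module.End.mul_apply]
        rfl
    have hNnil : IsNilpotent N := by
      refine ⟨p ^ e, LinearMap.ext fun v => ?_⟩
      rw [hNpow, sub_pow_char_pow_of_commute _ _ (Commute.one_right U), hUp, one_pow, sub_self]
      simp
    have hU1 : (U - 1) ^ e' = 0 := by
      have h1 := hNnil.charpoly_eq_X_pow_finrank ▸ N.aeval_self_charpoly
      rw [map_pow, aeval_X, ← he'] at h1
      apply φ.injective
      refine LinearMap.ext fun v => ?_
      rw [← hNpow, h1, map_zero]; rfl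
    have hexp : ∀ e₁, e = e₁ + 1 → p ^ e₁ < e' := by
      intro e₁ he₁
      by_contra hle
      push Not at hle
      have h0 : (U - 1) ^ p ^ e₁ = 0 := pow_eq_zero_of_le hle hU1
      rw [sub_pow_char_pow_of_commute _ _ (Commute.one_right U), one_pow, sub_eq_zero, hU,
        ← pow_mul] at h0
      have h1 : PSLmk g ^ (k' * (q - 1) * p ^ e₁) = 1 :=
        (mk_pow_eq_one_iff _ _).mpr ⟨1, by rw [← hA, h0, map_one]⟩
      have h2 : p ^ e * k' ∣ k' * (q - 1) * p ^ e₁ := hke ▸ orderOf_dvd_of_pow_eq_one h1
      have h3 : p ^ e ∣ (k' * (q - 1)) * p ^ e₁ := (dvd_mul_right _ _).trans h2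
      rw [he₁, pow_succ'] at h3
      have h4 := Nat.dvd_of_mul_dvd_mul_right (pow_pos hp.pos e₁) h3
      rcases hp.dvd_mul.mp h4 with h | h
      · exact hk'p h
      · exact hp.coprime_iff_not_dvd.mp hpq.symm h
    -- powers of `S` that are scalar
    have hScal : ∀ j, (∃ z : F, AdjoinRoot.root μ ^ j = algebraMap F E z) →
        k' ∣ j := by
      rintro j ⟨z, hz⟩
      have h1 : φ (S ^ j) = φ (scalar (Fin n) z) := by
        rw [map_pow, ← hψS, ← map_pow, hz, AlgHom.commutes]
        exact (AlgEquiv.commutes φ z).symm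
      have h2 := φ.injective h1
      rw [hS, ← pow_mul] at h2
      have h3 : k ∣ p ^ e * j := orderOf_dvd_of_pow_eq_one ((mk_pow_eq_one_iff _ _).mpr ⟨z, h2⟩)
      rw [hke] at h3
      exact Nat.dvd_of_mul_dvd_mul_left (pow_pos hp.pos e) h3
    have hroot0 : AdjoinRoot.root μ ≠ (0 : E) := by
      intro h0
      have h1 : φ S = 0 := by rw [← hψS, h0, map_zero]
      have h2 : S = 0 := φ.injective (by rw [h1, map_zero])
      rw [h2, zero_pow (by
        intro hh; rw [hh] at hm; simp at hm)] at hSm
      exact zero_ne_one hSm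
    have hrootc : AdjoinRoot.root μ ^ (q ^ d - 1) = (1 : E) := by
      rw [← hEc]; exact FiniteField.pow_card_sub_one_eq_one _ hroot0
    have hinF : ∀ x : E, x ^ (q - 1) = 1 → ∃ z : F, x = algebraMap F E z := by
      intro x hx
      have hx' : x ^ q = x := by
        rw [show q = (q - 1) + 1 by omega, pow_succ, hx, one_mul]
      have hnc : Nat.card F = q := Nat.card_eq_fintype_card
      have : x ∈ Set.range (algebraMap F E) := by
        let s : Finset E := Finset.univ.image (algebraMap F E)
        by_contra hmem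
        have hsc : s.card = q := by
          rw [Finset.card_image_of_injective _ (algebraMap F E).injective, Finset.card_univ]
        have hsub : insert x s ⊆ ((X : E[X]) ^ q - X).roots.toFinset := by
          intro y hy
          rw [Multiset.mem_toFinset, mem_roots (FiniteField.X_pow_card_sub_X_ne_zero E (by omega))]
          rcases Finset.mem_insert.mp hy with rfl | hy
          · simp [hx']
          · obtain ⟨z, -, rfl⟩ := Finset.mem_image.mp hy
            simp [← map_pow, hq, FiniteField.pow_card]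
        have h1 := Finset.card_le_card hsub
        rw [Finset.card_insert_of_notMem (by simpa [s, eq_comm] using hmem), hsc] at h1
        have h2 := (Multiset.toFinset_card_le _).trans (card_roots' ((X : E[X]) ^ q - X))
        rw [FiniteField.X_pow_card_sub_X_natDegree_eq E (show 1 < q by omega)] at h2
        omega
      obtain ⟨z, hz⟩ := this
      exact ⟨z, hz.symm⟩
    have hrk' : ¬ r ∣ k' := fun h => hco (hke ▸ dvd_mul_of_dvd_right h _)
    -- the three cases
    rcases Nat.lt_or_ge d n with hdn | hdn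
    · -- a torus in degree d and a unipotent block
      have he2 : 2 ≤ e' := by
        by_contra hlt
        rcases (show e' = 0 ∨ e' = 1 by omega) with h | h <;> rw [h] at hde <;> omega
      by_cases hex : d = 1 ∧ ∃ e₁, e = e₁ + 1 ∧ n - 1 ≤ p ^ e₁
      · obtain ⟨hd', e₁, he₁, hle⟩ := hex
        have hlt := hexp e₁ he₁
        rw [hd', one_mul] at hde
        have h1 : k' ∣ 1 := by
          apply hScal
          have := hrootc
          rw [hd', pow_one] at this
          obtain ⟨z, hz⟩ := hinF _ this
          exact ⟨z, by rw [pow_one]; exact hz⟩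
        right; right
        exact ⟨e₁, by omega, by rw [hke, Nat.dvd_one.mp h1, mul_one, he₁]⟩
      left
      obtain ⟨M, h', hM, hM1, hM2, -⟩ := exists_torus_unipotent (F := F) p hd1 hdn.le
      refine ⟨h', ?_⟩
      have hk'M : k' ∣ M := by
        apply hScal
        apply hinF
        rw [← pow_mul]
        obtain ⟨w, hw⟩ := Nat.gcd_dvd_right n (q - 1)
        rw [show M * (q - 1) = (q ^ d - 1) * w by
          conv_lhs => rw [hw]
          rw [← hM]; ring, pow_mul, hrootc, one_pow]
      have hrM : r ∣ M := by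
        have h1 : r ∣ M * Nat.gcd n (q - 1) := by
          rw [hM]; exact hrq.trans (Nat.sub_one_dvd_pow_sub_one q d)
        rcases hr.dvd_mul.mp h1 with h | h
        · exact h
        · exact absurd (h.trans (Nat.gcd_dvd_left _ _)) hrn
      have h1 : k' * r ∣ M := Nat.Coprime.mul_dvd_of_dvd_of_dvd
        ((hr.coprime_iff_not_dvd.mpr hrk').symm) hk'M hrM
      have h2 : p ^ e ∣ orderOf (PSLmk h') := by
        rcases Nat.eq_zero_or_pos e with he0 | he0
        · simp [he0]
        · obtain ⟨e₁, he₁⟩ : ∃ e₁, e = e₁ + 1 := ⟨e - 1, by omega⟩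
          rw [he₁]
          apply hM2
          have hlt := hexp e₁ he₁
          by_cases hd' : d = 1
          · by_contra hge
            exact hex ⟨hd', e₁, he₁, by omega⟩
          · have : e' + d ≤ d * e' := by
              have := Nat.mul_le_mul (show 2 ≤ d by omega) he2
              nlinarith [show 2 ≤ d by omega]
            omega
      rw [hke, mul_assoc]
      refine Nat.Coprime.mul_dvd_of_dvd_of_dvd (Nat.Coprime.pow_left _ ?_) h2 (h1.trans (hM1 hdn))
      rw [hp.coprime_iff_not_dvd]
      intro h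
      rcases hp.dvd_mul.mp h with h | h
      · exact hk'p h
      · rw [Nat.prime_dvd_prime_iff_eq hp hr] at h
        exact hp.coprime_iff_not_dvd.mp hpq.symm (h ▸ hrq)
    · -- Singer case
      have hd' : d = n := le_antisymm (by
        rcases Nat.eq_zero_or_pos e' with h | h
        · rw [h] at hde; omega
        · calc d ≤ d * e' := Nat.le_mul_of_pos_right d h
            _ = n := hde) hdn
      have he1 : e' = 1 := by
        have : d * e' = d * 1 := by rw [hde, mul_one, hd']
        exact Nat.eq_of_mul_eq_mul_left (by omega) this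
      have he0 : e = 0 := by
        by_contra h0
        obtain ⟨e₁, he₁⟩ : ∃ e₁, e = e₁ + 1 := ⟨e - 1, by omega⟩
        have := hexp e₁ he₁
        have := Nat.one_le_pow e₁ p hp.pos
        omega
      have hkk : k = k' := by rw [hke, he0, pow_zero, one_mul]
      obtain ⟨w, hw⟩ := Nat.gcd_dvd_right n (q - 1)
      obtain ⟨Q, hQ⟩ := Nat.sub_one_dvd_pow_sub_one q n
      -- the determinant is the norm
      have hnorm : AdjoinRoot.root μ ^ Q = (1 : E) := by
        have h1 : φ S = (AdjoinRoot.root μ • (LinearMap.id : (Fin n → F) →ₗ[E] (Fin n → F))).restrictScalars F := by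
          rw [← hψS]; rfl
        have h2 := congrArg LinearMap.det h1
        rw [LinearMap.det_restrictScalars, LinearMap.det_smul, LinearMap.det_id, mul_one, ← he',
          he1, pow_one] at h2
        have h3 : LinearMap.det (φ S) = 1 := by
          change LinearMap.det (Matrix.toLin' S) = 1
          rw [LinearMap.det_toLin', hS, Matrix.det_pow, hA, g.det_coe, one_pow]
        rw [h3] at h2
        have h4 := FiniteField.algebraMap_norm_eq_pow (K := F) (K' := E)
          (x := AdjoinRoot.root μ)
        rw [← h2, map_one, Nat.card_eq_fintype_card, Nat.card_eq_fintype_card, hEc, hd', ← hq,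
          hQ, Nat.mul_div_cancel_left _ (by omega)] at h4
        exact h4.symm
      set G := Nat.gcd n (q - 1) with hG
      have hGQ : G ∣ Q := by
        have h1 : (q - 1) * Q = q ^ n - 1 := hQ.symm
        have h2 : Q = ∑ i ∈ Finset.range n, q ^ i := by
          have h3 := Nat.geomSum_eq (show 2 ≤ q from hq2) n
          rw [h3, hQ, Nat.mul_div_cancel_left _ (by omega)]
        have h3 : (Q : ZMod G) = 0 := by
          have hq1 : (q : ZMod G) = 1 := by
            have h4 : ((q - 1 : ℕ) : ZMod G) = 0 := by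
              rw [ZMod.natCast_eq_zero_iff]; exact Nat.gcd_dvd_right _ _
            rw [Nat.cast_sub (by omega), Nat.cast_one, sub_eq_zero] at h4
            exact h4
          have hn0 : (n : ZMod G) = 0 := by
            rw [ZMod.natCast_eq_zero_iff]; exact Nat.gcd_dvd_left _ _
          simp [h2, hq1, hn0]
        rwa [ZMod.natCast_eq_zero_iff] at h3
      obtain ⟨N, hN⟩ := hGQ
      right; left
      refine ⟨N, ?_, ?_⟩
      · rw [hQ, hN]; ring
      · rw [hkk]
        apply hScal
        apply hinF
        rw [← pow_mul]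
        conv_lhs => rw [hw]
        rw [show N * (G * w) = (G * N) * w by ring, ← hN, pow_mul, hnorm, one_pow]

end Cfsg.Agent.GLOrders
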