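import Cfsg.Agent.Lib.GLOrders.PSLOrders

/-!
The element orders of `PSL_3(q)`.
-/

set_option autoImplicit false

namespace Cfsg.Agent.GLOrders

open Matrix Polynomial

variable {F : Type*} [Field F] [Fintype F]

omit [Fintype F] in
theorem pow_eq_scalar_of_charpoly_dvd (A : Matrix (Fin 3) (Fin 3) F) {N : ℕ} {e : F}
    (h : A.charpoly ∣ X ^ N - C e) : A ^ N = scalar (Fin 3) e := by
  obtain ⟨g, hg⟩ := h
  have h1 := congrArg (aeval A) hg
  rw [map_mul, Matrix.aeval_self_charpoly, zero_mul, map_sub, map_pow, aeval_X, aeval_C, sub_eq_zero] at h1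
  rw [h1]
  rfl

/-- An element of the extension fixed by the `q`-th power map lies in the ground field. -/
theorem exists_of_pow_card {K : Type*} [Field K] [Finite K] [Algebra F K] {z : K}
    (h : z ^ Fintype.card F = z) : ∃ c : F, algebraMap F K c = z := by
  haveI : Module.Finite F K := Module.Finite.of_finite
  refine (IsGalois.mem_range_algebraMap_iff_fixed z).2 fun f => ?_
  obtain ⟨i, rfl⟩ := (FiniteField.bijective_frobeniusAlgEquivOfAlgebraic_pow F K).2 f
  show (FiniteField.frobeniusAlgEquivOfAlgebraic F K ^ (i : ℕ)) z = z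
  induction (i : ℕ) with
  | zero => rfl
  | succ j ih =>
    rw [pow_succ', AlgEquiv.mul_apply, ih, FiniteField.coe_frobeniusAlgEquivOfAlgebraic]
    exact h

/-- A root of an irreducible monic polynomial has the constant term as norm. -/
theorem root_pow_sum {f : F[X]} (hf : f.Monic) [Fact (Irreducible f)] :
    (AdjoinRoot.root f) ^ (∑ i ∈ Finset.range f.natDegree, Fintype.card F ^ i) =
      algebraMap F (AdjoinRoot f) ((-1) ^ f.natDegree * f.coeff 0) := by
  haveI : Module.Finite F (AdjoinRoot f) := (AdjoinRoot.powerBasis hf.ne_zero).finite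
  haveI : Finite (AdjoinRoot f) := Module.finite_of_finite F
  have hd : Module.finrank F (AdjoinRoot f) = f.natDegree := by
    rw [(AdjoinRoot.powerBasis hf.ne_zero).finrank, AdjoinRoot.powerBasis_dim hf.ne_zero]
  have h1 := FiniteField.algebraMap_norm_eq_pow_sum (K := F) (L := AdjoinRoot f) (x := AdjoinRoot.root f)
  rw [hd, Nat.card_eq_fintype_card] at h1
  rw [← h1, ← AdjoinRoot.powerBasis_gen hf.ne_zero, Algebra.PowerBasis.norm_gen_eq_coeff_zero_minpoly,
    AdjoinRoot.powerBasis_gen hf.ne_zero, AdjoinRoot.powerBasis_dim hf.ne_zero, AdjoinRoot.minpoly_root hf.ne_zero,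
    hf.leadingCoeff, inv_one, map_one, mul_one]

theorem root_pow_card {f : F[X]} (hf : f.Monic) [Fact (Irreducible f)] (h0 : f.coeff 0 ≠ 0) :
    AdjoinRoot.root f ≠ 0 ∧ (AdjoinRoot.root f) ^ (Fintype.card F ^ f.natDegree - 1) = 1 := by
  haveI : Module.Finite F (AdjoinRoot f) := (AdjoinRoot.powerBasis hf.ne_zero).finite
  haveI : Finite (AdjoinRoot f) := Module.finite_of_finite F
  haveI := Fintype.ofFinite (AdjoinRoot f)
  have hne : AdjoinRoot.root f ≠ 0 := by
    intro h
    have := root_pow_sum hf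
    rw [h, zero_pow] at this
    · exact h0 (by simpa using ((map_eq_zero _).1 this.symm))
    · refine (Finset.sum_pos (fun i _ => pow_pos Fintype.card_pos i) ⟨0, Finset.mem_range.2 ?_⟩).ne'
      exact (Fact.out : Irreducible f).natDegree_pos
  refine ⟨hne, ?_⟩
  have hc : Fintype.card (AdjoinRoot f) = Fintype.card F ^ f.natDegree := by
    rw [Module.card_eq_pow_finrank (K := F), (AdjoinRoot.powerBasis hf.ne_zero).finrank,
      AdjoinRoot.powerBasis_dim hf.ne_zero]
  rw [← hc]
  exact FiniteField.pow_card_sub_one_eq_one _ hne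

omit [Fintype F] in
theorem X_sub_C_dvd (a : F) (N : ℕ) {e : F} (h : a ^ N = e) : X - C a ∣ X ^ N - C e := by
  rw [dvd_iff_isRoot, IsRoot, eval_sub, eval_pow, eval_X, eval_C, h, sub_self]

omit [Fintype F] in
theorem coprime_lin {a b : F} (h : a ≠ b) : IsCoprime (X - C a) (X - C b) :=
  isCoprime_X_sub_C_of_isUnit_sub (sub_ne_zero.mpr h).isUnit

/-- The listed exponents. -/
def IsExp3 (p q g N : ℕ) : Prop :=
  N * g = q ^ 2 + q + 1 ∨ N * g = q ^ 2 - 1 ∨ N = q - 1 ∨ (∃ N', N' * g = q - 1 ∧ N = p * N') ∨ (p = 2 ∧ N = 4)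

theorem exists_exp (p : ℕ) [Fact p.Prime] [CharP F p] {g : ℕ} (hg3 : g ∣ 3) (hgq : g ∣ Fintype.card F - 1)
    (A : Matrix (Fin 3) (Fin 3) F) (hA : A.det = 1) :
    ∃ N e, IsExp3 p (Fintype.card F) g N ∧ A.charpoly ∣ X ^ N - C e := by
  classical
  have hm := A.charpoly_monic
  have hdeg : A.charpoly.natDegree = 3 := by simp
  have hc0 : A.charpoly.coeff 0 = -1 := by
    have := A.det_eq_sign_charpoly_coeff
    rw [hA, Fintype.card_fin] at this
    linear_combination this
  set f := A.charpoly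
  set q := Fintype.card F with hq
  have hq1 : 1 < q := Fintype.one_lt_card
  have hp : p.Prime := Fact.out
  have hpow1 : ∀ x : F, x ≠ 0 → x ^ (q - 1) = 1 := fun x hx => FiniteField.pow_card_sub_one_eq_one x hx
  obtain ⟨N', hN'⟩ := hgq
  obtain ⟨k3, hk3⟩ := hg3
  have hg0 : 0 < g := by rcases Nat.eq_zero_or_pos g with rfl | h <;> omega
  by_cases hirr : Irreducible f
  · haveI := Fact.mk hirr
    have hgd : g ∣ q ^ 2 + q + 1 := by
      have h1 : q ^ 2 + q + 1 = (q - 1) * (q + 2) + 3 := by
        obtain ⟨u, hu⟩ : ∃ u, q = u + 1 := ⟨q - 1, by omega⟩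
        rw [hu]; simp only [Nat.add_sub_cancel]; ring
      rw [h1]
      exact Nat.dvd_add ((Dvd.intro N' hN'.symm).mul_right _) (Dvd.intro k3 hk3.symm)
    obtain ⟨N, hN⟩ := hgd
    haveI : Module.Finite F (AdjoinRoot f) := (AdjoinRoot.powerBasis hm.ne_zero).finite
    haveI : Finite (AdjoinRoot f) := Module.finite_of_finite F
    set β := AdjoinRoot.root f
    have hβ1 : β ^ (q ^ 2 + q + 1) = 1 := by
      have := root_pow_sum hm
      rw [hdeg, hc0] at this
      rw [Finset.sum_range_succ, Finset.sum_range_succ, Finset.sum_range_one] at this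
      rw [show q ^ 2 + q + 1 = q ^ 0 + q ^ 1 + q ^ 2 by ring, this]
      simp [pow_succ]
    obtain ⟨e, he⟩ := exists_of_pow_card (F := F) (z := β ^ N) (by
      have : (β ^ N) ^ (q - 1) = 1 := by
        rw [← pow_mul, hN', ← mul_assoc, mul_comm N g, ← hN, pow_mul, hβ1, one_pow]
      rw [show Fintype.card F = q - 1 + 1 by omega, pow_succ, this, one_mul])
    refine ⟨N, e, Or.inl (by rw [mul_comm, hN]), ?_⟩
    rw [← AdjoinRoot.mk_eq_zero, map_sub, map_pow, AdjoinRoot.mk_X, AdjoinRoot.mk_C, sub_eq_zero]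
    exact he.symm
  · obtain ⟨a, ha⟩ : ∃ a, f.IsRoot a := by
      by_contra h
      push Not at h
      exact hirr (irreducible_of_degree_le_three_of_not_isRoot (by rw [hdeg]; simp) h)
    obtain ⟨g₂, hg₂⟩ := dvd_iff_isRoot.2 ha
    have hg₂m : g₂.Monic := (monic_X_sub_C a).of_mul_monic_left (hg₂ ▸ hm)
    have hg₂d : g₂.natDegree = 2 := by
      have := congrArg natDegree hg₂
      rw [hdeg, natDegree_mul (X_sub_C_ne_zero a) hg₂m.ne_zero, natDegree_X_sub_C] at this
      omega
    have hag : a * g₂.coeff 0 = 1 := by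
      have := congrArg (fun P => P.coeff 0) hg₂
      simp only [mul_coeff_zero, coeff_sub, coeff_X_zero, coeff_C_zero, hc0] at this
      linear_combination this
    have ha0 : a ≠ 0 := fun h => by rw [h, zero_mul] at hag; exact zero_ne_one hag
    by_cases hirr2 : Irreducible g₂
    · haveI := Fact.mk hirr2
      set β := AdjoinRoot.root g₂
      obtain ⟨hβ0, hβ1⟩ := root_pow_card hg₂m (fun h => by rw [h, mul_zero] at hag; exact zero_ne_one hag)
      rw [hg₂d] at hβ1
      have hgd : g ∣ q ^ 2 - 1 := (Dvd.intro N' hN'.symm).trans (Nat.sub_one_dvd_pow_sub_one q 2)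
      obtain ⟨N, hN⟩ := hgd
      have hβn : β ^ (q + 1) = algebraMap F _ (g₂.coeff 0) := by
        have := root_pow_sum hg₂m
        rw [hg₂d, Finset.sum_range_succ, Finset.sum_range_one] at this
        rw [show q + 1 = q ^ 0 + q ^ 1 by ring, this]
        simp
      have hg2 : g ∣ q + 2 := by
        rw [show q + 2 = (q - 1) + 3 by omega]
        exact Nat.dvd_add (Dvd.intro N' hN'.symm) (Dvd.intro k3 hk3.symm)
      obtain ⟨w, hw⟩ := hg2
      have key : β ^ N = algebraMap F _ (a ^ N) := by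
        have h1 : (β * β ^ (q + 1)) ^ N = 1 := by
          rw [← pow_succ', ← pow_mul, hw, mul_comm g w, mul_assoc, ← hN, mul_comm, pow_mul, hβ1, one_pow]
        rw [hβn, mul_pow] at h1
        rw [← mul_one (β ^ N), ← map_one (algebraMap F (AdjoinRoot g₂)), ← one_pow N, ← hag, mul_pow a, mul_comm (a ^ N),
          map_mul, ← mul_assoc, map_pow, map_pow, h1, one_mul]
      refine ⟨N, a ^ N, Or.inr (Or.inl (by rw [mul_comm, hN])), ?_⟩
      rw [hg₂]
      refine IsCoprime.mul_dvd ?_ (X_sub_C_dvd a N rfl) ?_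
      · refine ((irreducible_X_sub_C a).coprime_iff_not_dvd).2 fun hd => ?_
        have := natDegree_eq_of_degree_eq (degree_eq_degree_of_associated
          ((irreducible_X_sub_C a).associated_of_dvd hirr2 hd))
        rw [natDegree_X_sub_C, hg₂d] at this
        omega
      · rw [← AdjoinRoot.mk_eq_zero, map_sub, map_pow, AdjoinRoot.mk_X, AdjoinRoot.mk_C, sub_eq_zero]
        exact key
    · obtain ⟨b, hb⟩ : ∃ b, g₂.IsRoot b := by
        by_contra h
        push Not at h
        exact hirr2 (irreducible_of_degree_le_three_of_not_isRoot (by rw [hg₂d]; simp) h)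
      obtain ⟨g₁, hg₁⟩ := dvd_iff_isRoot.2 hb
      have hg₁m : g₁.Monic := (monic_X_sub_C b).of_mul_monic_left (hg₁ ▸ hg₂m)
      have hg₁d : g₁.natDegree = 1 := by
        have := congrArg natDegree hg₁
        rw [hg₂d, natDegree_mul (X_sub_C_ne_zero b) hg₁m.ne_zero, natDegree_X_sub_C] at this
        omega
      obtain ⟨c, rfl⟩ : ∃ c, g₁ = X - C c := ⟨-g₁.coeff 0, by
        conv_lhs => rw [hg₁m.eq_X_add_C hg₁d]
        rw [map_neg, sub_neg_eq_add]⟩
      have habc : a * b * c = 1 := by
        rw [hg₁] at hag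
        simp only [mul_coeff_zero, coeff_sub, coeff_X_zero, coeff_C_zero] at hag
        linear_combination hag
      have hne : ∀ x y z : F, x * y * z = 1 → x ≠ 0 ∧ y ≠ 0 ∧ z ≠ 0 := fun x y z h =>
        ⟨fun h' => by simp [h'] at h, fun h' => by simp [h'] at h, fun h' => by simp [h'] at h⟩
      obtain ⟨-, hb0, hc0'⟩ := hne a b c habc
      have hf : f = (X - C a) * (X - C b) * (X - C c) := by rw [hg₂, hg₁, mul_assoc]
      -- two equal roots
      have two : ∀ x y : F, x * x * y = 1 → x ≠ y → f = (X - C x) ^ 2 * (X - C y) →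
          ∃ N e, IsExp3 p q g N ∧ f ∣ X ^ N - C e := by
        intro x y hxy hne' hfe
        obtain ⟨hx0, -, hy0⟩ := hne x x y hxy
        refine ⟨p * N', (x ^ N') ^ p, Or.inr (Or.inr (Or.inr (Or.inl ⟨N', by rw [hN', mul_comm], rfl⟩))), ?_⟩
        have he : y ^ N' = x ^ N' := by
          have h1 : x ^ (3 * N') = 1 := by
            rw [hk3, show g * k3 * N' = g * N' * k3 by ring, ← hN', pow_mul, hpow1 x hx0, one_pow]
          have h2 : (x * x * y) ^ N' = 1 := by rw [hxy, one_pow]
          rw [mul_pow, mul_pow] at h2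
          rw [pow_mul', pow_three] at h1
          refine mul_left_cancel₀ (mul_ne_zero (pow_ne_zero N' hx0) (pow_ne_zero N' hx0)) ?_
          rw [h2, mul_assoc, h1]
        rw [hfe, mul_comm p N', pow_mul, map_pow, ← sub_pow_char (R := F[X])]
        refine IsCoprime.mul_dvd ((coprime_lin hne').pow_left) ?_ ?_
        · exact (pow_dvd_pow _ hp.two_le).trans (pow_dvd_pow_of_dvd (X_sub_C_dvd x N' rfl) p)
        · exact (X_sub_C_dvd y N' he).trans (dvd_pow_self _ hp.ne_zero)
      by_cases hab : a = b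
      · by_cases hac : a = c
        · subst hab hac
          rcases hp.eq_two_or_odd' with h2 | hodd
          · subst h2
            refine ⟨4, a ^ 4, Or.inr (Or.inr (Or.inr (Or.inr ⟨rfl, rfl⟩))), ?_⟩
            rw [hf, map_pow, show (4 : ℕ) = 2 ^ 2 by norm_num, ← sub_pow_char_pow (R := F[X]), ← pow_three']
            exact pow_dvd_pow _ (by norm_num)
          · refine ⟨p * N', (a ^ N') ^ p, Or.inr (Or.inr (Or.inr (Or.inl ⟨N', by rw [hN', mul_comm], rfl⟩))), ?_⟩
            rw [hf, mul_comm p N', pow_mul, map_pow, ← sub_pow_char (R := F[X]), ← pow_three']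
            refine (pow_dvd_pow _ ?_).trans (pow_dvd_pow_of_dvd (X_sub_C_dvd a N' rfl) p)
            obtain ⟨j, hj⟩ := hodd
            have := hp.two_le
            omega
        · subst hab
          exact two a c habc hac (by rw [hf, pow_two])
      · by_cases hac : a = c
        · subst hac
          exact two a b (by linear_combination habc) hab (by rw [hf]; ring)
        · by_cases hbc : b = c
          · subst hbc
            exact two b a (by linear_combination habc) (Ne.symm hab) (by rw [hf]; ring)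
          · refine ⟨q - 1, 1, Or.inr (Or.inr (Or.inl rfl)), ?_⟩
            rw [hf]
            refine IsCoprime.mul_dvd ((coprime_lin hac).mul_left (coprime_lin hbc))
              (IsCoprime.mul_dvd (coprime_lin hab) (X_sub_C_dvd a _ (hpow1 a ha0)) (X_sub_C_dvd b _ (hpow1 b hb0)))
              (X_sub_C_dvd c _ (hpow1 c hc0'))

/-- An element of order divisible by `q - 1`. -/
theorem exists_sub_one : ∃ x : Matrix.SpecialLinearGroup (Fin 3) F, Fintype.card F - 1 ∣ orderOf (PSLmk x) := by
  classical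
  obtain ⟨y, hy⟩ := IsCyclic.exists_generator (α := Fˣ)
  have hyo : orderOf y = Fintype.card F - 1 := by
    rw [orderOf_eq_card_of_forall_mem_zpowers hy, Nat.card_units, Nat.card_eq_fintype_card]
  refine ⟨⟨diagonal ![(y : F), ((y⁻¹ : Fˣ) : F), 1], by simp [Matrix.det_diagonal, Fin.prod_univ_three]⟩, ?_⟩
  rw [← hyo]
  refine orderOf_dvd_of_pow_eq_one (Units.ext ?_)
  obtain ⟨z, hz⟩ := (mk_pow_eq_one_iff _ _).mp (pow_orderOf_eq_one
    (PSLmk (⟨diagonal ![(y : F), ((y⁻¹ : Fˣ) : F), 1], by simp [Matrix.det_diagonal, Fin.prod_univ_three]⟩ :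
      Matrix.SpecialLinearGroup (Fin 3) F)))
  set j := orderOf (PSLmk (⟨diagonal ![(y : F), ((y⁻¹ : Fˣ) : F), 1], by simp [Matrix.det_diagonal, Fin.prod_univ_three]⟩ :
      Matrix.SpecialLinearGroup (Fin 3) F))
  simp only [diagonal_pow] at hz
  have h0 := congrFun (congrFun hz 0) 0
  have h2 := congrFun (congrFun hz 2) 2
  simp at h0 h2
  rw [Units.val_pow_eq_pow_val, Units.val_one, h0, ← h2]

/-- An element of order divisible by `4` in characteristic two. -/
theorem exists_four [CharP F 2] : ∃ x : Matrix.SpecialLinearGroup (Fin 3) F, 4 ∣ orderOf (PSLmk x) := by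
  classical
  refine ⟨⟨jordanOne F 3, jordanOne_det F 3⟩, ?_⟩
  obtain ⟨z, hz⟩ := (mk_pow_eq_one_iff _ _).mp (pow_orderOf_eq_one
    (PSLmk (⟨jordanOne F 3, jordanOne_det F 3⟩ : Matrix.SpecialLinearGroup (Fin 3) F)))
  set j := orderOf (PSLmk (⟨jordanOne F 3, jordanOne_det F 3⟩ : Matrix.SpecialLinearGroup (Fin 3) F))
  have hdet : z ^ 3 = 1 := by
    have := congrArg Matrix.det hz
    rw [Matrix.det_pow, show (⟨jordanOne F 3, jordanOne_det F 3⟩ : Matrix.SpecialLinearGroup (Fin 3) F).1.det = 1 from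
      jordanOne_det F 3, one_pow] at this
    simpa [Matrix.det_diagonal, Fin.prod_univ_three, pow_three', mul_assoc] using this.symm
  have h1 : jordanOne F 3 ^ (3 * j) = 1 := by
    rw [mul_comm, pow_mul, show jordanOne F 3 ^ j = scalar (Fin 3) z from hz, ← map_pow, hdet, map_one]
  have h := pow_dvd_of_jordanOne_pow_eq_one 2 (e := 1) (by norm_num) h1
  exact (Nat.Coprime.dvd_mul_left (by norm_num)).1 h

theorem mem_range_orderOf_of_dvd' {G : Type*} [Group G] [Finite G] (g : G) {m : ℕ} (hm : m ∣ orderOf g) :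
    m ∈ Set.range (orderOf : G → ℕ) :=
  ⟨g ^ (orderOf g / m), orderOf_pow_orderOf_div (orderOf_pos g).ne' hm⟩

end Cfsg.Agent.GLOrders
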