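import Cfsg.Agent.Lib.GLOrders.PSLOrders

/-!
Adjacency of an odd prime and the characteristic in the prime graph of `PSL_n(q)`.
-/

set_option autoImplicit false

namespace Cfsg.Agent.GLOrders

open Module

variable {F : Type*} [Field F] {V : Type*} [AddCommGroup V] [Module F V] [FiniteDimensional F V]

theorem pow_apply_mem {X : Submodule F V} {S : Module.End F V} (h : ∀ v ∈ X, S v ∈ X) :
    ∀ (j : ℕ), ∀ v ∈ X, (S ^ j) v ∈ X := by
  intro j
  induction j with
  | zero => simp
  | succ j ih => intro v hv; rw [pow_succ', Module.End.mul_apply]; exact h _ (ih v hv)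

/-- The fixed space of a non-trivial unipotent map on an invariant subspace is proper and non-zero. -/
theorem unipotent_fix {p : ℕ} [Fact p.Prime] [CharP F p] {X : Submodule F V} {U : Module.End F V} {e : ℕ}
    (hU : U ^ p ^ e = 1) (hinv : ∀ v ∈ X, U v ∈ X) (hne : ∃ v ∈ X, U v ≠ v) :
    0 < finrank F ↥(X ⊓ LinearMap.ker (U - 1)) ∧
      finrank F ↥(X ⊓ LinearMap.ker (U - 1)) < finrank F X := by
  obtain ⟨v, hv, hUv⟩ := hne
  have hlt : X ⊓ LinearMap.ker (U - 1) < X := by
    refine lt_of_le_of_ne inf_le_left fun h => hUv ?_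
    have := (h.ge hv).2
    simpa [sub_eq_zero] using this
  refine ⟨?_, Submodule.finrank_lt_finrank_of_lt hlt⟩
  haveI : CharP (Module.End F V) p := by
    haveI : Nontrivial V := ⟨⟨U v, v, hUv⟩⟩
    exact charP_of_injective_algebraMap' F (A := Module.End F V) p
  have hN : (U - 1) ^ p ^ e = 0 := by
    rw [sub_pow_char_pow_of_commute p e (Commute.one_right U), hU, one_pow, sub_self]
  have hNinv : ∀ w ∈ X, (U - 1) w ∈ X := fun w hw => by
    rw [LinearMap.sub_apply, Module.End.one_apply]; exact X.sub_mem (hinv w hw) hw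
  classical
  have hex : ∃ j : ℕ, ((U - 1 : Module.End F V) ^ j) v = 0 := ⟨_, by rw [hN]; rfl⟩
  have hj : Nat.find hex ≠ 0 := by
    intro h0
    have := Nat.find_spec hex
    rw [h0, pow_zero, Module.End.one_apply] at this
    exact hUv (by rw [this, map_zero])
  obtain ⟨j, hj'⟩ := Nat.exists_eq_succ_of_ne_zero hj
  have h1 : ((U - 1) ^ j) v ≠ 0 := Nat.find_min hex (by omega)
  have h2 : ((U - 1) ^ j) v ∈ X ⊓ LinearMap.ker (U - 1) := by
    refine ⟨pow_apply_mem hNinv j v hv, ?_⟩
    show (U - 1) (((U - 1) ^ j) v) = 0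
    rw [← Module.End.mul_apply, ← pow_succ']
    have := Nat.find_spec hex
    rwa [hj'] at this
  haveI : Nontrivial ↥(X ⊓ LinearMap.ker (U - 1)) := ⟨⟨⟨_, h2⟩, 0, fun h => h1 (congrArg Subtype.val h)⟩⟩
  exact Module.finrank_pos

/-- A fixed-point-free action of a cyclic group of order `r`. -/
theorem order_dvd_finrank [Fintype F] {r : ℕ} [Fact r.Prime] {S : Module.End F V} (hS : S ^ r = 1)
    {W : Submodule F V} (hinv : ∀ v ∈ W, S v ∈ W) (hfpf : ∀ v ∈ W, S v = v → v = 0) :
    orderOf ((Fintype.card F : ℕ) : ZMod r) ∣ finrank F W := by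
  classical
  haveI : Finite V := Module.finite_of_finite F
  haveI := Fintype.ofFinite W
  let f : W → W := fun v => ⟨S v, hinv v v.2⟩
  have hf : ∀ (j : ℕ) (v : W), ((f^[j] v : W) : V) = (S ^ j) v := by
    intro j v
    induction j with
    | zero => simp
    | succ j ih => rw [Function.iterate_succ_apply', pow_succ', Module.End.mul_apply, ← ih]
  have hr : 0 < r := (Fact.out : r.Prime).pos
  let e : Equiv.Perm W :=
    { toFun := f
      invFun := f^[r - 1]
      left_inv := fun v => Subtype.ext (by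
        rw [← Function.iterate_succ_apply, hf, Nat.succ_eq_add_one, show r - 1 + 1 = r by omega, hS]; rfl)
      right_inv := fun v => Subtype.ext (by
        rw [← Function.iterate_succ_apply' f, hf, Nat.succ_eq_add_one, show r - 1 + 1 = r by omega, hS]; rfl) }
  have he : e ^ r ^ 1 = 1 := by
    rw [pow_one]
    ext v
    rw [Equiv.Perm.coe_pow]
    show ((f^[r] v : W) : V) = v
    rw [hf, hS]; rfl
  have h := Equiv.Perm.card_compl_support_modEq (p := r) (n := 1) he
  have h1 : e.supportᶜ = {0} := by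
    ext v
    simp only [Finset.mem_compl, Equiv.Perm.mem_support, not_not, Finset.mem_singleton]
    constructor
    · intro hv; exact Subtype.ext (hfpf v v.2 (congrArg Subtype.val hv))
    · rintro rfl; exact Subtype.ext (map_zero S)
  rw [h1, Finset.card_singleton, Module.card_eq_pow_finrank (K := F), ← ZMod.natCast_eq_natCast_iff,
    Nat.cast_one, Nat.cast_pow] at h
  exact orderOf_dvd_of_pow_eq_one h.symm

/-- The splitting along a map of order prime to the characteristic. -/
theorem splitting {r : ℕ} (hr : (r : F) ≠ 0) {S : Module.End F V} (hS : S ^ r = 1) :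
    (∀ v ∈ LinearMap.range (S - 1), S v = v → v = 0) ∧
      LinearMap.ker (S - 1) ⊔ LinearMap.range (S - 1) = ⊤ ∧
      finrank F ↥(LinearMap.ker (S - 1)) + finrank F ↥(LinearMap.range (S - 1)) = finrank F V := by
  have hfpf : ∀ v ∈ LinearMap.range (S - 1), S v = v → v = 0 := by
    rintro _ ⟨u, rfl⟩ hfix
    set v := (S - 1) u with hv
    have hu : S u = u + v := by rw [hv, LinearMap.sub_apply, Module.End.one_apply]; abel
    have hit : ∀ j : ℕ, (S ^ j) u = u + (j : F) • v := by
      intro j
      induction j with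
      | zero => simp
      | succ j ih =>
        rw [pow_succ', Module.End.mul_apply, ih, map_add, map_smul, hfix, hu]
        push_cast
        module
    have := hit r
    rw [hS, Module.End.one_apply, left_eq_add, smul_eq_zero] at this
    exact this.resolve_left hr
  have hrn : finrank F ↥(LinearMap.ker (S - 1)) + finrank F ↥(LinearMap.range (S - 1)) = finrank F V := by
    rw [add_comm]; exact (S - 1).finrank_range_add_finrank_ker
  refine ⟨hfpf, ?_, hrn⟩
  apply Submodule.eq_top_of_finrank_eq
  have hd : LinearMap.ker (S - 1) ⊓ LinearMap.range (S - 1) = ⊥ := by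
    rw [eq_bot_iff]
    rintro v ⟨h1, h2⟩
    exact (Submodule.mem_bot F).mpr (hfpf v h2 (by simpa [sub_eq_zero] using h1))
  have := Submodule.finrank_sup_add_finrank_inf_eq (LinearMap.ker (S - 1)) (LinearMap.range (S - 1))
  rw [hd, finrank_bot] at this
  omega

/-- A semisimple map of order `r` commuting with a non-trivial unipotent one needs room `k + 2`. -/
theorem order_add_two_le [Fintype F] {p : ℕ} [Fact p.Prime] [CharP F p] {r : ℕ} [Fact r.Prime]
    (hr : (r : F) ≠ 0) {S U : Module.End F V} {e : ℕ} (hc : Commute S U) (hS : S ^ r = 1) (hS1 : S ≠ 1)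
    (hU : U ^ p ^ e = 1) (hU1 : U ≠ 1) {k : ℕ} (hk : k = orderOf ((Fintype.card F : ℕ) : ZMod r))
    (h2 : 2 ≤ k) : k + 2 ≤ finrank F V := by
  obtain ⟨hfpf, htop, hdim⟩ := splitting hr hS
  set X := LinearMap.ker (S - 1)
  set W := LinearMap.range (S - 1)
  have hcv : ∀ v, S (U v) = U (S v) := fun v => LinearMap.congr_fun hc.eq v
  have hXU : ∀ v ∈ X, U v ∈ X := fun v hv => by
    have hv' : S v = v := by simpa [X, sub_eq_zero] using hv
    show (S - 1) (U v) = 0
    rw [LinearMap.sub_apply, Module.End.one_apply, hcv, hv', sub_self]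
  have hWU : ∀ v ∈ W, U v ∈ W := by
    rintro _ ⟨u, rfl⟩
    exact ⟨U u, by simp [LinearMap.sub_apply, hcv]⟩
  have hWS : ∀ v ∈ W, S v ∈ W := by
    rintro _ ⟨u, rfl⟩
    exact ⟨S u, by simp [LinearMap.sub_apply]⟩
  have hkW : k ∣ finrank F W := hk ▸ order_dvd_finrank hS hWS hfpf
  have hWpos : 0 < finrank F W := by
    obtain ⟨v, hv⟩ : ∃ v, S v ≠ v := by
      by_contra h; push Not at h; exact hS1 (LinearMap.ext fun v => h v)
    haveI : Nontrivial W :=
      ⟨⟨⟨(S - 1) v, ⟨v, rfl⟩⟩, 0, fun h => hv (by simpa [sub_eq_zero] using congrArg Subtype.val h)⟩⟩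
    exact Module.finrank_pos
  have hkle := Nat.le_of_dvd hWpos hkW
  by_cases hX : ∃ v ∈ X, U v ≠ v
  · obtain ⟨a, b⟩ := unipotent_fix hU hXU hX
    omega
  · push Not at hX
    have hW : ∃ v ∈ W, U v ≠ v := by
      by_contra hW; push Not at hW
      refine hU1 (LinearMap.ext fun v => ?_)
      obtain ⟨a, ha, b, hb, rfl⟩ := Submodule.mem_sup.mp (show v ∈ X ⊔ W by rw [htop]; trivial)
      rw [map_add, hX a ha, hW b hb, Module.End.one_apply]
    obtain ⟨a, b⟩ := unipotent_fix hU hWU hW
    have hk1 : k ∣ finrank F ↥(W ⊓ LinearMap.ker (U - 1)) := hk ▸ order_dvd_finrank hS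
      (fun v hv => ⟨hWS v hv.1, by
        have hv' : U v = v := by simpa [sub_eq_zero] using hv.2
        show (U - 1) (S v) = 0
        rw [LinearMap.sub_apply, Module.End.one_apply, ← hcv, hv', sub_self]⟩)
      (fun v hv h => hfpf v hv.1 h)
    have hk2 := Nat.dvd_sub hkW hk1
    have := Nat.le_of_dvd a hk1
    have := Nat.le_of_dvd (by omega) hk2
    omega

/-- In dimension three, a map of order three commuting with a non-trivial unipotent one has determinant `≠ 1`. -/
theorem det_ne_one_of_three {p : ℕ} [Fact p.Prime] [CharP F p]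
    (hdim : finrank F V = 3) (h3 : (3 : F) ≠ 0) {ω : F} (hω : ω ^ 3 = 1) (hω1 : ω ≠ 1)
    {S U : Module.End F V} {e : ℕ} (hc : Commute S U) (hS : S ^ 3 = 1)
    (hSs : ¬ ∃ a : F, S = a • 1) (hU : U ^ p ^ e = 1) (hU1 : U ≠ 1) : LinearMap.det S ≠ 1 := by
  have hsum : ω ^ 2 + ω + 1 = 0 := by
    refine (mul_eq_zero.mp (?_ : (ω - 1) * (ω ^ 2 + ω + 1) = 0)).resolve_left (sub_ne_zero.mpr hω1)
    linear_combination hω
  have hcv : ∀ v, S (U v) = U (S v) := fun v => LinearMap.congr_fun hc.eq v
  have hS3 : ∀ v, S (S (S v)) = v := fun v => by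
    have := LinearMap.congr_fun hS v
    simpa [pow_succ] using this
  let X : ℕ → Submodule F V := fun i => LinearMap.ker (S - ω ^ i • 1)
  have hmem : ∀ i v, v ∈ X i ↔ S v = ω ^ i • v := fun i v => by simp [X, sub_eq_zero]
  obtain ⟨i, hi⟩ : ∃ i, ∃ v ∈ X i, U v ≠ v := by
    by_contra h
    push Not at h
    refine hU1 (LinearMap.ext fun v => ?_)
    have hP : ∀ i : ℕ, v + (ω ^ i) ^ 2 • S v + ω ^ i • S (S v) ∈ X i := fun i => by
      have h1 : (ω ^ i) ^ 3 = 1 := by rw [← pow_mul, mul_comm, pow_mul, hω, one_pow]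
      rw [hmem, map_add, map_add, map_smul, map_smul, hS3]
      match_scalars <;> grind
    have e : (3 : F) • v = (v + (ω ^ 0) ^ 2 • S v + ω ^ 0 • S (S v)) +
        (v + (ω ^ 1) ^ 2 • S v + ω ^ 1 • S (S v)) + (v + (ω ^ 2) ^ 2 • S v + ω ^ 2 • S (S v)) := by
      match_scalars <;> grind
    have h' := congrArg U e
    rw [map_smul, map_add, map_add, h 0 _ (hP 0), h 1 _ (hP 1), h 2 _ (hP 2), ← e] at h'
    exact smul_right_injective V h3 h'
  have hXU : ∀ v ∈ X i, U v ∈ X i := fun v hv => by
    rw [hmem] at hv ⊢; rw [hcv, hv, map_smul]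
  obtain ⟨a, b⟩ := unipotent_fix hU hXU hi
  have hω0 : ω ^ i ≠ 0 := pow_ne_zero _ (fun h => by rw [h] at hω; norm_num at hω)
  set c := ω ^ i with hcdef
  set T : Module.End F V := c⁻¹ • S with hT
  have hc3 : c ^ 3 = 1 := by rw [hcdef, ← pow_mul, mul_comm, pow_mul, hω, one_pow]
  have hTdet : LinearMap.det T = LinearMap.det S := by
    rw [hT, LinearMap.det_smul, hdim, inv_pow, hc3, inv_one, one_mul]
  have hTS : T ^ 3 = 1 := by rw [hT, _root_.smul_pow, hS, inv_pow, hc3, inv_one, one_smul]
  have hker : LinearMap.ker (T - 1) = X i := by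
    ext v
    rw [hmem, LinearMap.mem_ker, LinearMap.sub_apply, Module.End.one_apply, sub_eq_zero, hT,
      LinearMap.smul_apply, inv_smul_eq_iff₀ hω0]
  obtain ⟨hfpf, htop, hd⟩ := splitting (r := 3) (by exact_mod_cast h3) hTS
  rw [hker] at hd
  have hT1 : T ≠ 1 := fun h => hSs ⟨c, by rw [← h, hT, smul_smul, mul_inv_cancel₀ hω0, one_smul]⟩
  obtain ⟨v₀, hv₀⟩ : ∃ v, T v ≠ v := by
    by_contra h; push Not at h; exact hT1 (LinearMap.ext fun v => h v)
  set w := (T - 1) v₀
  have hw : w ≠ 0 := fun h => hv₀ (by simpa [w, sub_eq_zero] using h)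
  haveI : Nontrivial ↥(LinearMap.range (T - 1)) :=
    ⟨⟨⟨w, ⟨v₀, rfl⟩⟩, 0, fun h => hw (congrArg Subtype.val h)⟩⟩
  have h1 : finrank F ↥(LinearMap.range (T - 1)) = 1 := by
    have := Module.finrank_pos (R := F) (M := ↥(LinearMap.range (T - 1)))
    omega
  have hline : ∀ v, ∃ t : F, (T - 1) v = t • w := fun v => by
    obtain ⟨t, ht⟩ := (finrank_eq_one_iff_of_nonzero' (⟨w, ⟨v₀, rfl⟩⟩ : LinearMap.range (T - 1))
      (fun h => hw (congrArg Subtype.val h))).mp h1 ⟨(T - 1) v, ⟨v, rfl⟩⟩
    exact ⟨t, (congrArg Subtype.val ht).symm⟩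
  choose t ht using hline
  let φ : V →ₗ[F] F :=
    { toFun := t
      map_add' := fun u v => by
        refine smul_left_injective F hw ?_
        show t (u + v) • w = (t u + t v) • w
        rw [add_smul, ← ht, ← ht, ← ht, map_add]
      map_smul' := fun a v => by
        refine smul_left_injective F hw ?_
        show t (a • v) • w = (a • t v) • w
        rw [smul_eq_mul, mul_smul, ← ht, ← ht, map_smul] }
  have hTt : T = LinearMap.transvection φ w := by
    ext v
    rw [LinearMap.transvection.apply]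
    show T v = v + t v • w
    rw [← ht, LinearMap.sub_apply, Module.End.one_apply]
    abel
  rw [← hTdet, hTt, LinearMap.transvection.det]
  intro h
  refine hw (hfpf w ⟨v₀, rfl⟩ ?_)
  rw [hTt, LinearMap.transvection.apply, show φ w = 0 by linear_combination h, zero_smul, add_zero]

/-! ### The group-theoretic statement -/

section
open Matrix

variable {K : Type*} [Field K] [Fintype K] {n : ℕ}

theorem coe_sl_pow (x : Matrix.SpecialLinearGroup (Fin n) K) (j : ℕ) :
    ((x ^ j : Matrix.SpecialLinearGroup (Fin n) K) : Matrix (Fin n) (Fin n) K) =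
      (x : Matrix (Fin n) (Fin n) K) ^ j := Matrix.SpecialLinearGroup.coe_pow x j

theorem mem_range_orderOf_of_dvd {G : Type*} [Group G] [Finite G] (g : G) {m : ℕ} (hm : m ∣ orderOf g) :
    m ∈ Set.range (orderOf : G → ℕ) :=
  ⟨g ^ (orderOf g / m), orderOf_pow_orderOf_div (orderOf_pos g).ne' hm⟩

/-- A diagonal element times a transvection. -/
theorem exists_diag_mul_transvection (p : ℕ) [hp : Fact p.Prime] [CharP K p] {r : ℕ} (hr : r.Prime)
    (hrp : r ≠ p) (d : Fin n → K) (hdet : ∏ i, d i = 1) (i j : Fin n) (hij : i ≠ j) (hd : d i = d j)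
    (hns : ∀ c, ∃ l, d l ≠ c) (c₀ : K) (hpow : ∀ l, d l ^ r = c₀) :
    r * p ∈ Set.range (orderOf : Matrix.ProjectiveSpecialLinearGroup (Fin n) K → ℕ) := by
  let D : Matrix.SpecialLinearGroup (Fin n) K := ⟨diagonal d, by rw [det_diagonal, hdet]⟩
  let T : Matrix.SpecialLinearGroup (Fin n) K := Matrix.SpecialLinearGroup.transvection hij (1 : K)
  have hTc : (T : Matrix (Fin n) (Fin n) K) = Matrix.transvection i j 1 :=
    Matrix.SpecialLinearGroup.transvection_coe hij 1
  have hcomm : Commute D T := by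
    apply Subtype.ext
    show diagonal d * (T : Matrix (Fin n) (Fin n) K) = (T : Matrix (Fin n) (Fin n) K) * diagonal d
    rw [hTc, Matrix.transvection, mul_add, add_mul, mul_one, one_mul]
    congr 1
    ext a b
    rw [diagonal_mul, mul_diagonal, Matrix.single_apply]
    split_ifs with h
    · obtain ⟨rfl, rfl⟩ := h; rw [hd]; ring
    · simp
  have hDo : orderOf (PSLmk D) = r := by
    haveI := Fact.mk hr
    refine orderOf_eq_prime ?_ ?_
    · rw [mk_pow_eq_one_iff]
      exact ⟨c₀, by show diagonal d ^ r = _; rw [diagonal_pow]; exact congrArg diagonal (funext hpow)⟩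
    · rw [Ne, mk_eq_one_iff]
      rintro ⟨c, hc⟩
      obtain ⟨l, hl⟩ := hns c
      exact hl (by simpa [D] using congrFun (congrFun hc l) l)
  have hTo : orderOf (PSLmk T) = p := by
    refine orderOf_eq_prime ?_ ?_
    · rw [mk_pow_eq_one_iff]
      refine ⟨1, ?_⟩
      rw [hTc, map_one]
      have : ∀ m : ℕ, Matrix.transvection i j (1 : K) ^ m = Matrix.transvection i j (m : K) := by
        intro m
        induction m with
        | zero => simp
        | succ m ih => rw [pow_succ, ih, Matrix.transvection_mul_transvection_same _ _ hij, Nat.cast_succ]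
      rw [this, CharP.cast_eq_zero, Matrix.transvection_zero]
    · rw [Ne, mk_eq_one_iff]
      rintro ⟨c, hc⟩
      have := congrFun (congrFun hc i) j
      rw [hTc] at this
      simp [Matrix.transvection, hij] at this
  refine ⟨PSLmk D * PSLmk T, ?_⟩
  have hcq : Commute (PSLmk D) (PSLmk T) := hcomm.map (QuotientGroup.mk' _)
  rw [hcq.orderOf_mul_eq_mul_orderOf_of_coprime (by
    rw [hDo, hTo]; exact (Nat.coprime_primes hr hp.out).mpr hrp), hDo, hTo]

/-- The semisimple and unipotent parts of a lift of an element of order `r p`. -/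
theorem exists_parts (p : ℕ) [hp : Fact p.Prime] [CharP K p] {r : ℕ} (hr : r.Prime) (hrp : r ≠ p)
    (h : r * p ∈ Set.range (orderOf : Matrix.ProjectiveSpecialLinearGroup (Fin n) K → ℕ)) :
    ∃ (y u : Matrix.SpecialLinearGroup (Fin n) K) (e : ℕ), Commute y u ∧ PSLmk y ≠ 1 ∧
      PSLmk y ^ r = 1 ∧ u ≠ 1 ∧ u ^ p ^ e = 1 := by
  obtain ⟨g, hg⟩ := h
  obtain ⟨x, rfl⟩ := QuotientGroup.mk_surjective g
  have hg' : orderOf (PSLmk x) = r * p := hg
  obtain ⟨e, m, hm, ho⟩ := Nat.exists_eq_pow_mul_and_not_dvd (orderOf_pos x).ne' p hp.out.ne_one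
  have hdiv : r * p ∣ orderOf x := hg' ▸ orderOf_map_dvd (QuotientGroup.mk' _) x
  have hcop : r.Coprime p := (Nat.coprime_primes hr hp.out).mpr hrp
  have hrm : r ∣ m := by
    rw [ho] at hdiv
    exact (hcop.pow_right e).dvd_of_dvd_mul_left (dvd_of_mul_right_dvd hdiv)
  have he : e ≠ 0 := fun he0 => hm (by
    rw [ho, he0, pow_zero, one_mul] at hdiv; exact dvd_of_mul_left_dvd hdiv)
  refine ⟨x ^ p ^ e, x ^ m, e, Commute.pow_pow (Commute.refl x) _ _, ?_, ?_, ?_, ?_⟩
  · intro h1
    have h2 := orderOf_dvd_of_pow_eq_one (show PSLmk x ^ p ^ e = 1 from h1)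
    rw [hg'] at h2
    have h3 := Nat.le_of_dvd Nat.one_pos ((hcop.pow_right e).dvd_of_dvd_mul_left
      (show r ∣ p ^ e * 1 by rw [mul_one]; exact dvd_of_mul_right_dvd h2))
    have := hr.two_le
    omega
  · show PSLmk (x ^ p ^ e) ^ r = 1
    obtain ⟨e', rfl⟩ := Nat.exists_eq_succ_of_ne_zero he
    rw [show PSLmk (x ^ p ^ (e' + 1)) = PSLmk x ^ p ^ (e' + 1) from rfl, ← pow_mul,
      show p ^ (e' + 1) * r = r * p * p ^ e' by ring, pow_mul, ← hg', pow_orderOf_eq_one, one_pow]
  · intro h1
    have := orderOf_dvd_of_pow_eq_one h1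
    rw [ho] at this
    have hmp : 0 < m := Nat.pos_of_ne_zero fun h0 => hm (h0 ▸ dvd_zero p)
    have h4 : p ^ e * m ∣ 1 * m := by rwa [one_mul]
    have h5 := Nat.dvd_one.mp (Nat.dvd_of_mul_dvd_mul_right hmp h4)
    exact he ((Nat.pow_eq_one.mp h5).resolve_left hp.out.ne_one)
  · rw [← pow_mul, mul_comm, ← ho, pow_orderOf_eq_one]

theorem main (p : ℕ) [hp : Fact p.Prime] [CharP K p] (hn : 2 ≤ n) (r : ℕ) (hr : r.Prime) (hr2 : r ≠ 2)
    (hrp : r ≠ p) (k : ℕ) (hk : k = orderOf ((Fintype.card K : ℕ) : ZMod r)) :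
    (r * p ∉ Set.range (orderOf : Matrix.ProjectiveSpecialLinearGroup (Fin n) K → ℕ)) ↔
      (n - 2 < k ∨ (n = 3 ∧ r = 3 ∧ 3 ∣ Fintype.card K - 1 ∧ ¬ 9 ∣ Fintype.card K - 1)) := by
  classical
  haveI : Fact r.Prime := ⟨hr⟩
  haveI : Nonempty (Fin n) := ⟨⟨0, by omega⟩⟩
  set q := Fintype.card K with hq
  have hq1 : 1 < q := Fintype.one_lt_card
  have hrK : (r : K) ≠ 0 := fun h => by
    rw [CharP.cast_eq_zero_iff K p] at h
    exact hrp ((Nat.prime_dvd_prime_iff_eq hp.out hr).mp h).symm
  have hqr : (q : ZMod r) ≠ 0 := by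
    rw [Ne, ZMod.natCast_eq_zero_iff]
    obtain ⟨a, -, hc⟩ := FiniteField.card K p
    rw [hq, hc]
    intro h
    exact hrp ((Nat.prime_dvd_prime_iff_eq hr hp.out).mp (hr.dvd_of_dvd_pow h))
  have hk0 : 0 < k := by
    rw [hk]
    exact Nat.pos_of_dvd_of_pos (orderOf_dvd_of_pow_eq_one (ZMod.pow_card_sub_one_eq_one hqr))
      (by have := hr.two_le; omega)
  have hqpow : r ∣ q ^ k - 1 := by
    rw [← ZMod.natCast_eq_zero_iff, Nat.cast_sub (Nat.one_le_pow _ _ (by omega)), Nat.cast_pow,
      Nat.cast_one, hk, pow_orderOf_eq_one, sub_self]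
  have hk1 : k = 1 ↔ r ∣ q - 1 := by
    rw [hk, orderOf_eq_one_iff, ← sub_eq_zero, ← ZMod.natCast_eq_zero_iff, Nat.cast_sub (by omega), Nat.cast_one]
  constructor
  · -- an element of order `r p`
    intro hno
    by_contra hcon
    push Not at hcon
    obtain ⟨hkn, hexc⟩ := hcon
    apply hno
    by_cases h1 : k = 1
    · have hrq := hk1.mp h1
      by_cases h4 : 4 ≤ n
      · obtain ⟨a, ha⟩ := exists_prime_orderOf_dvd_card' (G := Kˣ) r (by
          rw [Nat.card_units, Nat.card_eq_fintype_card]; exact hrq)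
        have har : (a : K) ^ r = 1 := by
          rw [← Units.val_pow_eq_pow_val, ← ha, pow_orderOf_eq_one, Units.val_one]
        let i₀ : Fin n := ⟨0, by omega⟩
        let i₁ : Fin n := ⟨1, by omega⟩
        let d : Fin n → K := fun l => if l = i₀ then (a : K) else if l = i₁ then ((a⁻¹ : Kˣ) : K) else 1
        refine exists_diag_mul_transvection p hr hrp d ?_ ⟨2, by omega⟩ ⟨3, by omega⟩ (by simp) (by simp [d, i₀, i₁]) ?_ 1 ?_
        · rw [Finset.prod_eq_mul i₀ i₁ (by simp [i₀, i₁]) (fun l _ hl => by simp [d, hl.1, hl.2])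
            (fun h => absurd (Finset.mem_univ _) h) (fun h => absurd (Finset.mem_univ _) h)]
          simp [d, i₀, i₁]
        · intro c
          by_contra hc
          push Not at hc
          have e0 := hc i₀
          have e2 := hc ⟨2, by omega⟩
          simp [d, i₀, i₁] at e0 e2
          rw [← e2] at e0
          rw [show a = 1 from Units.ext e0, orderOf_one] at ha
          exact hr.ne_one ha.symm
        · intro l
          simp only [d]
          split_ifs
          · exact har
          · rw [Units.val_inv_eq_inv_val, inv_pow, har, inv_one]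
          · exact one_pow r
      · obtain rfl : n = 3 := by omega
        obtain ⟨a, ha3, har⟩ : ∃ a : Kˣ, a ^ 3 ≠ 1 ∧ a ^ (3 * r) = 1 ∧
            ((a : K) ^ r = ((a : K) ^ 2)⁻¹ ^ r) := by
          by_cases h3 : r = 3
          · subst h3
            obtain ⟨b, hb⟩ := IsCyclic.exists_ofOrder_eq_natCard (α := Kˣ)
            rw [Nat.card_units, Nat.card_eq_fintype_card, ← hq] at hb
            have h9 : 9 ∣ orderOf b := hb ▸ hexc rfl rfl hrq
            have hbo := orderOf_pow_orderOf_div (orderOf_pos b).ne' h9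
            refine ⟨b ^ (orderOf b / 9), fun e => ?_, ?_, ?_⟩
            · have := orderOf_dvd_of_pow_eq_one e
              rw [hbo] at this; norm_num at this
            · have := pow_orderOf_eq_one (b ^ (orderOf b / 9))
              rw [hbo] at this; exact this
            · have e : ((b ^ (orderOf b / 9) : Kˣ) : K) ^ 9 = 1 := by
                rw [← Units.val_pow_eq_pow_val]
                have := pow_orderOf_eq_one (b ^ (orderOf b / 9))
                rw [hbo] at this; rw [this, Units.val_one]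
              generalize ((b ^ (orderOf b / 9) : Kˣ) : K) = c at e
              rw [inv_pow, ← pow_mul]
              exact eq_inv_of_mul_eq_one_left (by rw [← pow_add]; exact e)
          · obtain ⟨a, ha⟩ := exists_prime_orderOf_dvd_card' (G := Kˣ) r (by
              rw [Nat.card_units, Nat.card_eq_fintype_card]; exact hrq)
            have har : a ^ r = 1 := ha ▸ pow_orderOf_eq_one a
            refine ⟨a, fun e => ?_, by rw [mul_comm, pow_mul, har, one_pow], ?_⟩
            · have := orderOf_dvd_of_pow_eq_one e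
              rw [ha] at this
              exact h3 ((Nat.prime_dvd_prime_iff_eq hr Nat.prime_three).mp this)
            · rw [inv_pow, ← pow_mul, mul_comm 2 r, pow_mul, ← Units.val_pow_eq_pow_val, har,
                Units.val_one, one_pow, inv_one]
        obtain ⟨har, harr⟩ := har
        let d : Fin 3 → K := ![(a : K), (a : K), ((a : K) ^ 2)⁻¹]
        refine exists_diag_mul_transvection p hr hrp d ?_ 0 1 (by simp) rfl ?_ ((a : K) ^ r) ?_
        · simp [d, Fin.prod_univ_three]
          field_simp [Units.ne_zero a]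
        · intro c
          by_contra hc
          push Not at hc
          have e0 := hc 0
          have e2 := hc 2
          simp [d] at e0 e2
          rw [← e0] at e2
          refine ha3 (Units.ext ?_)
          rw [Units.val_pow_eq_pow_val, Units.val_one]
          field_simp [Units.ne_zero a] at e2
          linear_combination -e2
        · intro l
          fin_cases l
          · rfl
          · rfl
          · exact harr.symm
    · obtain ⟨M, x, hM, hMd, hpd, -⟩ := exists_torus_unipotent (F := K) (n := n) p (d := k) hk0 (by omega)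
      have hp' : p ∣ orderOf (PSLmk x) := by simpa using hpd 0 (by rw [pow_zero]; omega)
      have hrM : r ∣ M := by
        have : r ∣ M * Nat.gcd n (q - 1) := hM ▸ hqpow
        refine (hr.dvd_mul.mp this).resolve_right fun h => h1 (hk1.mpr (h.trans (Nat.gcd_dvd_right _ _)))
      exact mem_range_orderOf_of_dvd (PSLmk x)
        (((Nat.coprime_primes hr hp.out).mpr hrp).mul_dvd_of_dvd_of_dvd (hrM.trans (hMd (by omega))) hp')
  · intro hcon hmem
    obtain ⟨y, u, e, hcom, hy1, hyr, hu1, hup⟩ := exists_parts p hr hrp hmem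
    obtain ⟨z, hz⟩ := (mk_pow_eq_one_iff y r).mp hyr
    set Y := Matrix.toLinAlgEquiv' (y : Matrix (Fin n) (Fin n) K) with hY
    set U := Matrix.toLinAlgEquiv' (u : Matrix (Fin n) (Fin n) K) with hU
    have hYU : Commute Y U :=
      (show Commute (y : Matrix (Fin n) (Fin n) K) (u : Matrix (Fin n) (Fin n) K) from
        congrArg Subtype.val hcom.eq).map Matrix.toLinAlgEquiv'
    have hUp : U ^ p ^ e = 1 := by rw [hU, ← map_pow, ← coe_sl_pow, hup]; simp
    have hU1 : U ≠ 1 := fun h => hu1 (Subtype.ext (by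
      refine Matrix.toLinAlgEquiv'.injective ?_
      rw [← hU, h]; simp))
    have hYr : Y ^ r = z • 1 := by
      rw [hY, ← map_pow, hz, show Matrix.scalar (Fin n) z = algebraMap K _ z from rfl, AlgEquiv.commutes,
        Algebra.algebraMap_eq_smul_one]
    have hY1 : ¬ ∃ a : K, Y = a • 1 := by
      rintro ⟨a, ha⟩
      refine hy1 ((mk_eq_one_iff y).mpr ⟨a, Matrix.toLinAlgEquiv'.injective ?_⟩)
      rw [← hY, ha, show Matrix.scalar (Fin n) a = algebraMap K _ a from rfl, AlgEquiv.commutes,
        Algebra.algebraMap_eq_smul_one]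
    have hYdet : LinearMap.det Y = 1 := by
      rw [hY, show Matrix.toLinAlgEquiv' (y : Matrix (Fin n) (Fin n) K) = Matrix.toLin' (y : Matrix (Fin n) (Fin n) K) from rfl,
        LinearMap.det_toLin']
      exact y.2
    have hfin : finrank K (Fin n → K) = n := by simp
    have hz0 : z ≠ 0 := by
      intro h0
      have := congrArg LinearMap.det hYr
      rw [map_pow, hYdet, one_pow, h0, zero_smul] at this
      simp at this
    -- the case of a root of `z`
    have hroot : ∀ c : K, c ^ r = z → c ≠ 0 ∧ ((c⁻¹ • Y) ^ r = 1 ∧ c⁻¹ • Y ≠ 1 ∧ Commute (c⁻¹ • Y) U) := by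
      intro c hc
      have hc0 : c ≠ 0 := fun h0 => hz0 (by rw [← hc, h0, zero_pow hr.ne_zero])
      refine ⟨hc0, ?_, fun h => hY1 ⟨c, ?_⟩, hYU.smul_left c⁻¹⟩
      · rw [_root_.smul_pow, hYr, smul_smul, inv_pow, hc, inv_mul_cancel₀ hz0, one_smul]
      · rw [← h, smul_smul, mul_inv_cancel₀ hc0, one_smul]
    rcases Nat.lt_or_ge 1 k with h2k | h2k
    · have hcop : (Nat.card Kˣ).Coprime r := by
        rw [Nat.card_units, Nat.card_eq_fintype_card, Nat.coprime_comm, hr.coprime_iff_not_dvd]
        exact fun h => by have := hk1.mpr h; omega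
      obtain ⟨c, hc⟩ := (powCoprime hcop).surjective (Units.mk0 z hz0)
      obtain ⟨hc0, h1, h2, h3⟩ := hroot (c : K) (by
        rw [← Units.val_pow_eq_pow_val]
        exact congrArg Units.val hc)
      have := order_add_two_le hrK h3 h1 h2 hUp hU1 hk (by omega)
      rw [hfin] at this
      rcases hcon with h | ⟨-, rfl, h3', -⟩
      · omega
      · have := hk1.mpr h3'; omega
    · -- an eigenvector for `Y` inside `K`
      have hn23 : n = 2 ∨ (n = 3 ∧ r = 3 ∧ 3 ∣ q - 1 ∧ ¬ 9 ∣ q - 1) := by
        rcases hcon with h | h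
        · omega
        · exact Or.inr h
      have hNker : LinearMap.ker (U - 1) ≠ ⊤ := fun h => hU1 (by
        rw [LinearMap.ker_eq_top, sub_eq_zero] at h; exact h)
      have hex : ∃ v, v ∈ (⊤ : Submodule K (Fin n → K)) ∧ U v ≠ v := by
        by_contra h
        push Not at h
        exact hU1 (LinearMap.ext fun v => h v trivial)
      have hfix := unipotent_fix hUp (X := ⊤) (fun _ _ => trivial) hex
      rw [top_inf_eq, finrank_top, hfin] at hfix
      have hcv : ∀ v, Y (U v) = U (Y v) := fun v => LinearMap.congr_fun hYU.eq v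
      have hkerY : ∀ v ∈ LinearMap.ker (U - 1), Y v ∈ LinearMap.ker (U - 1) := fun v hv => by
        have hv' : U v = v := by simpa [sub_eq_zero] using hv
        simp [← hcv, hv']
      -- an invariant line
      obtain ⟨L, hL, hLY, hLker⟩ : ∃ L : Submodule K (Fin n → K), finrank K L = 1 ∧
          (∀ v ∈ L, Y v ∈ L) ∧ L ≤ LinearMap.ker (U - 1) := by
        by_cases hd1 : finrank K ↥(LinearMap.ker (U - 1)) = 1
        · exact ⟨_, hd1, hkerY, le_rfl⟩
        · have hrn := (U - 1).finrank_range_add_finrank_ker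
          rw [hfin] at hrn
          have hn3 : n = 3 := by rcases hn23 with h | h <;> omega
          have hrY : ∀ v ∈ LinearMap.range (U - 1), Y v ∈ LinearMap.range (U - 1) := by
            rintro _ ⟨w, rfl⟩; exact ⟨Y w, by simp [hcv]⟩
          have hrU : ∀ v ∈ LinearMap.range (U - 1), U v ∈ LinearMap.range (U - 1) := by
            rintro _ ⟨w, rfl⟩; exact ⟨U w, by simp⟩
          refine ⟨LinearMap.range (U - 1), by omega, hrY, fun v hv => ?_⟩
          by_contra hvk
          have := unipotent_fix hUp hrU ⟨v, hv, fun h => hvk (by simp [h])⟩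
          omega
      haveI : Nontrivial L := Module.nontrivial_of_finrank_pos (R := K) (by omega)
      obtain ⟨v, hv0⟩ := exists_ne (0 : L)
      obtain ⟨c, hc⟩ := (finrank_eq_one_iff_of_nonzero' v hv0).mp hL ⟨Y v, hLY v v.2⟩
      have hcY : Y (v : Fin n → K) = c • (v : Fin n → K) := (congrArg Subtype.val hc).symm
      have hcr : c ^ r = z := by
        have h1 : ∀ j : ℕ, (Y ^ j) (v : Fin n → K) = c ^ j • (v : Fin n → K) := by
          intro j
          induction j with
          | zero => simp
          | succ j ih => rw [pow_succ, Module.End.mul_apply, hcY, map_smul, ih, smul_smul, ← pow_succ']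
        have h2 := h1 r
        rw [hYr, LinearMap.smul_apply, Module.End.one_apply] at h2
        exact (smul_left_injective K (fun h => hv0 (Subtype.ext h)) h2).symm
      obtain ⟨hc0, hT1, hT2, hT3⟩ := hroot c hcr
      rcases hn23 with rfl | ⟨rfl, rfl, h3, h9⟩
      · -- in dimension two the part of order `r` is unipotent
        have hker1 : finrank K ↥(LinearMap.ker (U - 1)) = 1 := by omega
        have hLeq : L = LinearMap.ker (U - 1) := Submodule.eq_of_le_of_finrank_eq hLker (by omega)
        obtain ⟨hfpf, htop, hdim⟩ := splitting hrK hT1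
        have hTv : (c⁻¹ • Y) (v : Fin 2 → K) = v := by
          rw [LinearMap.smul_apply, hcY, smul_smul, inv_mul_cancel₀ hc0, one_smul]
        have hWU : ∀ x ∈ LinearMap.range (c⁻¹ • Y - 1), U x ∈ LinearMap.range (c⁻¹ • Y - 1) := by
          rintro _ ⟨x, rfl⟩
          exact ⟨U x, by simp [hcv]⟩
        have hWne : LinearMap.range (c⁻¹ • Y - 1) ≠ ⊥ := by
          rw [Ne, LinearMap.range_eq_bot, sub_eq_zero]; exact hT2
        obtain ⟨x, hx, hx0⟩ := Submodule.exists_mem_ne_zero_of_ne_bot hWne
        by_cases hxU : U x = x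
        · have hxL : x ∈ L := hLeq ▸ (by simp [hxU] : x ∈ LinearMap.ker (U - 1))
          obtain ⟨s, hs⟩ := (finrank_eq_one_iff_of_nonzero' v hv0).mp hL ⟨x, hxL⟩
          refine hx0 (hfpf x hx ?_)
          have hs' : s • (v : Fin 2 → K) = x := congrArg Subtype.val hs
          rw [← hs', map_smul, hTv]
        · have := unipotent_fix hUp hWU ⟨x, hx, hxU⟩
          have hXpos : 0 < finrank K ↥(LinearMap.ker (c⁻¹ • Y - 1)) := by
            haveI : Nontrivial ↥(LinearMap.ker (c⁻¹ • Y - 1)) :=
              ⟨⟨⟨v, by simp [hTv]⟩, 0, fun h => hv0 (Subtype.ext (by simpa using congrArg Subtype.val h))⟩⟩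
            exact Module.finrank_pos
          omega
      · obtain ⟨ω, hω⟩ := exists_prime_orderOf_dvd_card' (G := Kˣ) 3 (by
          rw [Nat.card_units, Nat.card_eq_fintype_card]; exact h3)
        have hω3 : (ω : K) ^ 3 = 1 := by
          rw [← Units.val_pow_eq_pow_val, ← hω, pow_orderOf_eq_one, Units.val_one]
        have hω1 : (ω : K) ≠ 1 := fun h => by
          rw [show ω = 1 from Units.ext h, orderOf_one] at hω; norm_num at hω
        have hd := det_ne_one_of_three hfin (by exact_mod_cast hrK) hω3 hω1 hT3 hT1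
          (fun ⟨a, ha⟩ => hY1 ⟨c * a, by rw [mul_smul, ← ha, smul_smul, mul_inv_cancel₀ hc0, one_smul]⟩)
          hUp hU1
        rw [LinearMap.det_smul, hYdet, mul_one, hfin] at hd
        apply h9
        have hc9 : (Units.mk0 c hc0) ^ 9 = 1 := Units.ext (by
          have hz3 : z ^ 3 = 1 := by
            have := congrArg LinearMap.det hYr
            rw [map_pow, hYdet, one_pow, LinearMap.det_smul, hfin, map_one, mul_one] at this
            exact this.symm
          rw [Units.val_pow_eq_pow_val, Units.val_mk0, Units.val_one, show (9 : ℕ) = 3 * 3 from rfl,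
            pow_mul, hcr, hz3])
        have h9' : orderOf (Units.mk0 c hc0) = 3 ^ (1 + 1) := orderOf_eq_prime_pow (fun h => hd (by
          have h' : c ^ 3 = 1 := by
            have := congrArg Units.val h
            simpa using this
          rw [inv_pow, h', inv_one])) hc9
        have := orderOf_dvd_natCard (Units.mk0 c hc0)
        rw [h9', Nat.card_units, Nat.card_eq_fintype_card] at this
        exact this

end

end Cfsg.Agent.GLOrders
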