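import Cfsg.Agent.Lib.GLOrders.PrimeGraphP

/-!
Adjacency of two primes different from the characteristic in the prime graph of `PSL_n(q)`.
-/

set_option autoImplicit false

namespace Cfsg.Agent.GLOrders

open Module

variable {F : Type*} [Field F] [Fintype F]

theorem natCast_ne_zero_of_ne_char {r : ℕ} (hr : r.Prime) (p : ℕ) [Fact p.Prime] [CharP F p] (hrp : r ≠ p) :
    (r : F) ≠ 0 := fun h => by
  rw [CharP.cast_eq_zero_iff F p] at h
  exact hrp ((Nat.prime_dvd_prime_iff_eq Fact.out hr).mp h).symm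

theorem card_ne_zero_zmod {r : ℕ} (hr : r.Prime) (p : ℕ) [Fact p.Prime] [CharP F p] (hrp : r ≠ p) :
    ((Fintype.card F : ℕ) : ZMod r) ≠ 0 := by
  haveI : Fact r.Prime := ⟨hr⟩
  rw [Ne, ZMod.natCast_eq_zero_iff]
  obtain ⟨a, -, hc⟩ := FiniteField.card F p
  rw [hc]
  intro h
  exact hrp ((Nat.prime_dvd_prime_iff_eq hr Fact.out).mp (hr.dvd_of_dvd_pow h))

theorem orderOf_card_dvd_iff {r : ℕ} (i : ℕ) :
    orderOf ((Fintype.card F : ℕ) : ZMod r) ∣ i ↔ r ∣ Fintype.card F ^ i - 1 := by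
  rw [orderOf_dvd_iff_pow_eq_one, ← ZMod.natCast_eq_zero_iff,
    Nat.cast_sub (Nat.one_le_pow _ _ Fintype.card_pos), Nat.cast_pow, Nat.cast_one, sub_eq_zero]

/-- The linear algebra of two commuting elements of orders `r` and `s`. -/
theorem two_orders {V : Type*} [AddCommGroup V] [Module F V] [FiniteDimensional F V] {r s : ℕ}
    [Fact r.Prime] [Fact s.Prime] (hr : (r : F) ≠ 0) (hs : (s : F) ≠ 0) {S T : Module.End F V}
    (hc : Commute S T) (hS : S ^ r = 1) (hT : T ^ s = 1) (hS1 : S ≠ 1) (hT1 : T ≠ 1) :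
    let k := orderOf ((Fintype.card F : ℕ) : ZMod r)
    let l := orderOf ((Fintype.card F : ℕ) : ZMod s)
    k + l ≤ finrank F V ∨ ∃ d, 0 < d ∧ d ≤ finrank F V ∧ k ∣ d ∧ l ∣ d := by
  intro k l
  obtain ⟨hfpf, htop, hdim⟩ := splitting hr hS
  obtain ⟨hfpfT, -, -⟩ := splitting hs hT
  set X := LinearMap.ker (S - 1)
  set W := LinearMap.range (S - 1)
  have hcv : ∀ v, S (T v) = T (S v) := fun v => LinearMap.congr_fun hc.eq v
  have hWS : ∀ v ∈ W, S v ∈ W := by
    rintro _ ⟨u, rfl⟩; exact ⟨S u, by simp [LinearMap.sub_apply]⟩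
  have hWT : ∀ v ∈ W, T v ∈ W := by
    rintro _ ⟨u, rfl⟩; exact ⟨T u, by simp [LinearMap.sub_apply, hcv]⟩
  have hXT : ∀ v ∈ X, T v ∈ X := fun v hv => by
    have hv' : S v = v := by simpa [X, sub_eq_zero] using hv
    show (S - 1) (T v) = 0
    rw [LinearMap.sub_apply, Module.End.one_apply, hcv, hv', sub_self]
  have hne : ∀ {U : Submodule F V}, (∃ v ∈ U, T v ≠ v) → 0 < finrank F ↥(Submodule.map (T - 1) U) := by
    rintro U ⟨v, hv, hTv⟩
    haveI : Nontrivial ↥(Submodule.map (T - 1) U) :=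
      ⟨⟨⟨(T - 1) v, ⟨v, hv, rfl⟩⟩, 0, fun h => hTv (by simpa [sub_eq_zero] using congrArg Subtype.val h)⟩⟩
    exact Module.finrank_pos
  have hdl : ∀ {U : Submodule F V}, (∀ v ∈ U, T v ∈ U) → l ∣ finrank F ↥(Submodule.map (T - 1) U) := by
    intro U hU
    refine order_dvd_finrank hT ?_ ?_
    · rintro _ ⟨u, hu, rfl⟩; exact ⟨T u, hU u hu, by simp⟩
    · rintro _ ⟨u, -, rfl⟩ h; exact hfpfT _ ⟨u, rfl⟩ h
  have hle : ∀ {U : Submodule F V}, (∀ v ∈ U, T v ∈ U) → Submodule.map (T - 1) U ≤ U := by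
    rintro U hU _ ⟨u, hu, rfl⟩
    rw [LinearMap.sub_apply, Module.End.one_apply]
    exact U.sub_mem (hU u hu) hu
  have hWpos : 0 < finrank F W := by
    obtain ⟨v, hv⟩ : ∃ v, S v ≠ v := by
      by_contra h; push Not at h; exact hS1 (LinearMap.ext fun v => h v)
    haveI : Nontrivial W :=
      ⟨⟨⟨(S - 1) v, ⟨v, rfl⟩⟩, 0, fun h => hv (by simpa [sub_eq_zero] using congrArg Subtype.val h)⟩⟩
    exact Module.finrank_pos
  by_cases hX : ∃ v ∈ X, T v ≠ v
  · left
    have h1 := Nat.le_of_dvd hWpos (order_dvd_finrank hS hWS hfpf)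
    have h2 := Nat.le_of_dvd (hne hX) (hdl hXT)
    have h3 := Submodule.finrank_mono (hle hXT)
    omega
  · push Not at hX
    right
    have hW : ∃ v ∈ W, T v ≠ v := by
      by_contra hW; push Not at hW
      refine hT1 (LinearMap.ext fun v => ?_)
      obtain ⟨a, ha, b, hb, rfl⟩ := Submodule.mem_sup.mp (show v ∈ X ⊔ W by rw [htop]; trivial)
      rw [map_add, hX a ha, hW b hb, Module.End.one_apply]
    refine ⟨_, hne hW, Submodule.finrank_le _, ?_, hdl hWT⟩
    refine order_dvd_finrank hS ?_ ?_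
    · rintro _ ⟨u, hu, rfl⟩; exact ⟨S u, hWS u hu, by simp [hcv]⟩
    · intro v hv; exact hfpf v (hle hWT hv)

open Matrix

variable {n : ℕ}

theorem det_eq_one_of_pow {m : ℕ} (hm : (Fintype.card F - 1).Coprime m) (g : GL (Fin n) F) (hg : g ^ m = 1) :
    (g : Matrix (Fin n) (Fin n) F).det = 1 := by
  have h1 : Matrix.GeneralLinearGroup.det g ^ m = 1 := by rw [← map_pow, hg, map_one]
  have h2 : orderOf (Matrix.GeneralLinearGroup.det g) ∣ Fintype.card F - 1 := by
    have := orderOf_dvd_natCard (Matrix.GeneralLinearGroup.det g)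
    rwa [Nat.card_units, Nat.card_eq_fintype_card] at this
  have h3 := orderOf_eq_one_iff.mp (Nat.eq_one_of_dvd_coprimes hm h2 (orderOf_dvd_of_pow_eq_one h1))
  exact congrArg Units.val h3

/-- An order coprime to `q - 1` in `GL_n` occurs in `PSL_n`. -/
theorem mem_range_of_GL [NeZero n] {m : ℕ} (hm : (Fintype.card F - 1).Coprime m) (g : GL (Fin n) F)
    (hg : orderOf g = m) :
    m ∈ Set.range (orderOf : Matrix.ProjectiveSpecialLinearGroup (Fin n) F → ℕ) := by
  let x : Matrix.SpecialLinearGroup (Fin n) F :=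
    ⟨(g : Matrix (Fin n) (Fin n) F), det_eq_one_of_pow hm g (hg ▸ pow_orderOf_eq_one g)⟩
  refine ⟨PSLmk x, Nat.dvd_antisymm ?_ ?_⟩
  · refine orderOf_dvd_of_pow_eq_one ((mk_pow_eq_one_iff x m).mpr ⟨1, ?_⟩)
    show (g : Matrix (Fin n) (Fin n) F) ^ m = _
    rw [← Units.val_pow_eq_pow_val, ← hg, pow_orderOf_eq_one, Units.val_one, map_one]
  · obtain ⟨c, hc⟩ := (mk_pow_eq_one_iff x _).mp (pow_orderOf_eq_one (PSLmk x))
    set j := orderOf (PSLmk x)
    have hc' : ((g ^ j : GL (Fin n) F) : Matrix (Fin n) (Fin n) F) = scalar (Fin n) c := by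
      rw [Units.val_pow_eq_pow_val]; exact hc
    haveI : Nonempty (Fin n) := ⟨⟨0, Nat.pos_of_ne_zero (NeZero.ne n)⟩⟩
    have hc0 : c ≠ 0 := by
      intro h0
      have := Matrix.GeneralLinearGroup.det_ne_zero (g ^ j)
      rw [hc', h0] at this
      simp at this
    have hcm : scalar (Fin n) (c ^ m) = scalar (Fin n) 1 := by
      rw [map_pow, ← hc', ← Units.val_pow_eq_pow_val, ← pow_mul, mul_comm, pow_mul, ← hg, pow_orderOf_eq_one,
        one_pow, Units.val_one, map_one]
    have hcm' : Units.mk0 c hc0 ^ m = 1 := Units.ext (by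
      have := congrFun (congrFun hcm (Classical.arbitrary _)) (Classical.arbitrary _)
      simpa using this)
    have h2 : orderOf (Units.mk0 c hc0) ∣ Fintype.card F - 1 := by
      have := orderOf_dvd_natCard (Units.mk0 c hc0)
      rwa [Nat.card_units, Nat.card_eq_fintype_card] at this
    have h3 := congrArg Units.val (orderOf_eq_one_iff.mp
      (Nat.eq_one_of_dvd_coprimes hm h2 (orderOf_dvd_of_pow_eq_one hcm')))
    rw [← hg]
    refine orderOf_dvd_of_pow_eq_one (Units.ext ?_)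
    rw [hc', Units.val_one, show c = 1 from h3, map_one]

theorem exists_GL_order {d m : ℕ} (hd : 1 ≤ d) (hdn : d ≤ n) (hm : m ∣ Fintype.card F ^ d - 1) :
    ∃ g : GL (Fin n) F, orderOf g = m := by
  obtain ⟨g, hg⟩ := exists_orderOf_eq_pow_sub_one (F := F) hd hdn
  exact ⟨g ^ (orderOf g / m), orderOf_pow_orderOf_div (orderOf_pos g).ne' (hg ▸ hm)⟩

theorem mainRS (p : ℕ) [hp : Fact p.Prime] [CharP F p] (hn : 2 ≤ n) (r s : ℕ) (hr : r.Prime) (hs : s.Prime)
    (hrp : r ≠ p) (hsp : s ≠ p) (hrs : r ≠ s)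
    (hsG : s ∣ Nat.card (Matrix.ProjectiveSpecialLinearGroup (Fin n) F))
    (k l : ℕ) (hk : k = orderOf ((Fintype.card F : ℕ) : ZMod r))
    (hl : l = orderOf ((Fintype.card F : ℕ) : ZMod s)) (h2k : 2 ≤ k) (hkl : k ≤ l) :
    (r * s ∉ Set.range (orderOf : Matrix.ProjectiveSpecialLinearGroup (Fin n) F → ℕ)) ↔
      (n < k + l ∧ ¬ k ∣ l) := by
  classical
  haveI : Fact r.Prime := ⟨hr⟩
  haveI : Fact s.Prime := ⟨hs⟩
  haveI : NeZero n := ⟨by omega⟩
  set q := Fintype.card F with hq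
  have hcop : (q - 1).Coprime (r * s) := by
    refine Nat.Coprime.mul_right ?_ ?_ <;>
      rw [Nat.coprime_comm, Nat.Prime.coprime_iff_not_dvd (by assumption)] <;> intro h
    · have : k ∣ 1 := hk ▸ (orderOf_card_dvd_iff 1).mpr (by rwa [pow_one])
      have := Nat.le_of_dvd one_pos this; omega
    · have : l ∣ 1 := hl ▸ (orderOf_card_dvd_iff 1).mpr (by rwa [pow_one])
      have := Nat.le_of_dvd one_pos this; omega
  have hrsc : r.Coprime s := (Nat.coprime_primes hr hs).mpr hrs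
  constructor
  · intro hno
    have hln : l ≤ n := by
      have h1 : s ∣ Nat.card (GL (Fin n) F) := by
        refine hsG.trans ?_
        exact (Subgroup.card_quotient_dvd_card _).trans
          (Subgroup.card_dvd_of_injective _ Matrix.SpecialLinearGroup.toGL_injective)
      rw [Matrix.card_GL_field] at h1
      obtain ⟨i, -, hi⟩ := (hs.prime.dvd_finsetProd_iff _).mp h1
      have hi' : q ^ n - q ^ (i : ℕ) = q ^ (i : ℕ) * (q ^ (n - i) - 1) := by
        rw [Nat.mul_sub, mul_one, ← pow_add, Nat.add_sub_cancel' i.2.le]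
      rw [hi'] at hi
      rcases hs.dvd_mul.mp hi with h | h
      · exfalso
        have h' := hs.dvd_of_dvd_pow h
        exact card_ne_zero_zmod (F := F) hs p hsp ((ZMod.natCast_eq_zero_iff _ _).mpr h')
      · have h' : l ∣ n - i := hl ▸ (orderOf_card_dvd_iff _).mpr h
        have := Nat.le_of_dvd (by omega) h'
        omega
    by_contra hcon
    push Not at hcon
    apply hno
    by_cases hkl' : n < k + l
    · have hdv := hcon hkl'
      obtain ⟨g, hg⟩ := exists_GL_order (F := F) (n := n) (m := r * s) (show 1 ≤ l by omega) hln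
        (hrsc.mul_dvd_of_dvd_of_dvd ((orderOf_card_dvd_iff l).mp (hk ▸ hdv)) ((orderOf_card_dvd_iff l).mp (hl ▸ dvd_rfl)))
      exact mem_range_of_GL hcop g hg
    · push Not at hkl'
      obtain ⟨a, ha⟩ := exists_GL_order (F := F) (n := k) (m := r) (show 1 ≤ k by omega) le_rfl
        ((orderOf_card_dvd_iff k).mp (hk ▸ dvd_rfl))
      obtain ⟨b, hb⟩ := exists_GL_order (F := F) (n := n - k) (m := s) (show 1 ≤ l by omega) (by omega)
        ((orderOf_card_dvd_iff l).mp (hl ▸ dvd_rfl))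
      let φ : GL (Fin k) F × GL (Fin (n - k)) F →* GL (Fin n) F :=
        (Units.map (blockPair (F := F) (show k ≤ n by omega))).comp MulEquiv.prodUnits.symm.toMonoidHom
      have hφ : Function.Injective φ :=
        (Units.map_injective (blockPair_injective _)).comp MulEquiv.prodUnits.symm.injective
      refine mem_range_of_GL hcop (φ (a, b)) ?_
      rw [orderOf_injective φ hφ, Prod.orderOf, ha, hb, Nat.Coprime.lcm_eq_mul hrsc]
  · rintro ⟨hlt, hnd⟩ ⟨g, hg⟩
    obtain ⟨x, rfl⟩ := QuotientGroup.mk_surjective g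
    set m := orderOf x with hm
    have hdvd : r * s ∣ m := hg ▸ orderOf_map_dvd (QuotientGroup.mk' _) x
    obtain ⟨y, hy⟩ : ∃ y : GL (Fin n) F, orderOf y = r * s := by
      refine ⟨Matrix.SpecialLinearGroup.toGL (x ^ (m / (r * s))), ?_⟩
      rw [orderOf_injective _ Matrix.SpecialLinearGroup.toGL_injective,
        orderOf_pow_orderOf_div (orderOf_pos x).ne' hdvd]
    let Φ : GL (Fin n) F →* Module.End F (Fin n → F) :=
      (Matrix.toLinAlgEquiv' : Matrix (Fin n) (Fin n) F ≃ₐ[F] _).toMulEquiv.toMonoidHom.comp (Units.coeHom _)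
    have hΦ : Function.Injective Φ := fun a b h => Units.ext (Matrix.toLinAlgEquiv'.injective h)
    have h1 : ∀ j, (y ^ j = 1 ↔ Φ y ^ j = 1) := fun j => by
      rw [← map_pow]; exact ⟨fun h => by rw [h, map_one], fun h => hΦ (by rw [h, map_one])⟩
    have hpow : ∀ j, (Φ y ^ j = 1 ↔ r * s ∣ j) := fun j => by rw [← h1, ← orderOf_dvd_iff_pow_eq_one, hy]
    have hS : (Φ y ^ s) ^ r = 1 := by rw [← pow_mul, hpow, mul_comm]
    have hT : (Φ y ^ r) ^ s = 1 := by rw [← pow_mul, hpow]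
    have hS1 : Φ y ^ s ≠ 1 := fun h => by
      have := Nat.le_of_dvd hs.pos ((hpow s).mp h)
      have := hr.two_le
      nlinarith [hs.pos]
    have hT1 : Φ y ^ r ≠ 1 := fun h => by
      have := Nat.le_of_dvd hr.pos ((hpow r).mp h)
      have := hs.two_le
      nlinarith [hr.pos]
    have hmain := two_orders (natCast_ne_zero_of_ne_char (F := F) hr p hrp)
      (natCast_ne_zero_of_ne_char (F := F) hs p hsp) (Commute.pow_pow (Commute.refl _) s r) hS hT hS1 hT1
    replace hmain : k + l ≤ n ∨ ∃ d, 0 < d ∧ d ≤ n ∧ k ∣ d ∧ l ∣ d := by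
      subst hk hl; simpa using hmain
    rcases hmain with h | ⟨d, hd0, hdn, hkd, hld⟩
    · omega
    · have hlcm := Nat.le_of_dvd hd0 (Nat.lcm_dvd hkd hld)
      obtain ⟨c, hc⟩ := Nat.dvd_lcm_right k l
      have hc2 : 2 ≤ c := by
        rcases c with _ | _ | c
        · exact absurd (by rw [hc, mul_zero]) (Nat.lcm_pos (show 0 < k by omega) (show 0 < l by omega)).ne'
        · exact absurd (by have := Nat.dvd_lcm_left k l; simpa [hc] using this) hnd
        · omega
      rw [hc] at hlcm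
      nlinarith

end Cfsg.Agent.GLOrders
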