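import Cfsg.Agent.Lib.GLOrders.PSLThree
import Cfsg.Agent.Lib.GLOrders.PrimeGraphP

/-!
Maps commuting with an irreducible cyclic group.
-/

set_option autoImplicit false

namespace Cfsg.Agent.GLOrders

open Module Polynomial

variable {F : Type*} [Field F] [Fintype F] {V : Type*} [AddCommGroup V] [Module F V] [FiniteDimensional F V]

/-- A map of prime order whose Singer degree is the dimension generates a field containing its commutant. -/
theorem singer_core {r : ℕ} [Fact r.Prime] (hr : (r : F) ≠ 0) {C : Module.End F V} (hC : C ^ r = 1) (hC1 : C ≠ 1)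
    (hk : orderOf ((Fintype.card F : ℕ) : ZMod r) = finrank F V) {T : Module.End F V} (hc : Commute C T)
    (hdet : LinearMap.det T ≠ 0) :
    (∀ j : ℕ, LinearMap.det T ^ j = 1 →
      T ^ ((∑ i ∈ Finset.range (finrank F V), Fintype.card F ^ i) * j) = 1) ∧
    ∀ M : ℕ, T ^ (M * (Fintype.card F - 1)) = 1 → ∃ c : F, T ^ M = c • 1 := by
  classical
  obtain ⟨hfpf, -, -⟩ := splitting hr hC
  have hVpos : 0 < finrank F V := by
    obtain ⟨v, hv⟩ : ∃ v, C v ≠ v := by
      by_contra h; push Not at h; exact hC1 (LinearMap.ext fun v => h v)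
    haveI : Nontrivial V := ⟨⟨C v, v, hv⟩⟩
    exact Module.finrank_pos
  haveI : Nontrivial V := Module.nontrivial_of_finrank_pos hVpos
  -- `C` is fixed-point-free
  have hfix : ∀ v, C v = v → v = 0 := by
    have hinv : ∀ v ∈ LinearMap.range (C - 1), C v ∈ LinearMap.range (C - 1) := by
      rintro _ ⟨u, rfl⟩; exact ⟨C u, by simp⟩
    have hd := order_dvd_finrank hC hinv hfpf
    rw [hk] at hd
    have htop : LinearMap.range (C - 1) = ⊤ := by
      refine Submodule.eq_top_of_finrank_eq (le_antisymm (Submodule.finrank_le _) (Nat.le_of_dvd ?_ hd))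
      rw [Nat.pos_iff_ne_zero, Ne, Submodule.finrank_eq_zero, LinearMap.range_eq_bot, sub_eq_zero]
      exact hC1
    exact fun v hv => hfpf v (htop ▸ Submodule.mem_top) hv
  have htop : ∀ U : Submodule F V, (∀ v ∈ U, C v ∈ U) → U ≠ ⊥ → U = ⊤ := by
    intro U hU hne
    have hd := order_dvd_finrank hC hU (fun v _ h => hfix v h)
    rw [hk] at hd
    refine Submodule.eq_top_of_finrank_eq (le_antisymm (Submodule.finrank_le _) (Nat.le_of_dvd ?_ hd))
    rwa [Nat.pos_iff_ne_zero, Ne, Submodule.finrank_eq_zero]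
  have hCg : ∀ g : F[X], Commute C (aeval C g) := fun g =>
    Algebra.commute_of_mem_adjoin_singleton_of_commute (aeval_mem_adjoin_singleton F C) (Commute.refl C)
  have hker : ∀ g : F[X], aeval C g ≠ 0 → ∀ v, aeval C g v = 0 → v = 0 := by
    intro g hg v hv
    by_contra h0
    have := htop (LinearMap.ker (aeval C g)) (fun w hw => by
      rw [LinearMap.mem_ker] at hw ⊢
      rw [← Module.End.mul_apply, ← (hCg g).eq, Module.End.mul_apply, hw, map_zero])
      ((Submodule.ne_bot_iff _).2 ⟨v, LinearMap.mem_ker.2 hv, h0⟩)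
    exact hg (LinearMap.ker_eq_top.1 this)
  set μ := minpoly F C with hμ
  have hint : IsIntegral F C := Algebra.IsIntegral.isIntegral C
  have hμm : μ.Monic := minpoly.monic hint
  have hirr : Irreducible μ := by
    refine ⟨minpoly.not_isUnit F C, fun a b e => ?_⟩
    by_cases hb : aeval C b = 0
    · left
      obtain ⟨d, hd⟩ := minpoly.dvd F C hb
      rw [← hμ] at hd
      refine isUnit_of_dvd_one ⟨d, mul_right_cancel₀ (b := b) (fun h0 => hμm.ne_zero (by rw [e, h0, mul_zero])) ?_⟩
      rw [one_mul, mul_right_comm, ← e, ← hd]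
    · right
      have ha : aeval C a = 0 := LinearMap.ext fun v => by
        have h1 : aeval C b (aeval C a v) = 0 := by
          rw [← Module.End.mul_apply, ← map_mul, mul_comm, ← e, hμ, minpoly.aeval]; rfl
        exact hker b hb _ h1
      obtain ⟨d, hd⟩ := minpoly.dvd F C ha
      rw [← hμ] at hd
      refine isUnit_of_dvd_one ⟨d, mul_left_cancel₀ (a := a) (fun h0 => hμm.ne_zero (by rw [e, h0, zero_mul])) ?_⟩
      rw [mul_one, ← mul_assoc, ← e, ← hd]
  haveI : Fact (Irreducible μ) := ⟨hirr⟩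
  haveI : Module.Finite F (AdjoinRoot μ) := (AdjoinRoot.powerBasis hirr.ne_zero).finite
  haveI : Finite (AdjoinRoot μ) := Module.finite_of_finite F
  let ρ : AdjoinRoot μ →ₐ[F] Module.End F V :=
    Ideal.Quotient.liftₐ (Ideal.span {μ}) (aeval C) fun a ha => by
      obtain ⟨b, rfl⟩ := Ideal.mem_span_singleton.1 ha
      rw [map_mul, hμ, minpoly.aeval, zero_mul]
  have hρmk : ∀ g : F[X], ρ (AdjoinRoot.mk μ g) = aeval C g := fun g => rfl
  obtain ⟨v₀, hv₀⟩ := exists_ne (0 : V)
  let Φ : AdjoinRoot μ →ₗ[F] V := (LinearMap.applyₗ v₀).comp ρ.toLinearMap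
  have hΦap : ∀ z, Φ z = ρ z v₀ := fun z => rfl
  have hΦi : Function.Injective Φ := by
    rw [injective_iff_map_eq_zero]
    intro z hz
    obtain ⟨g, rfl⟩ := AdjoinRoot.mk_surjective z
    rw [hΦap, hρmk] at hz
    by_contra hne
    refine hv₀ (hker g (fun h0 => hne ?_) v₀ hz)
    exact ρ.toRingHom.injective (by
      show ρ _ = ρ 0
      rw [hρmk, h0, map_zero])
  have hΦr : LinearMap.range Φ = ⊤ := by
    refine htop _ ?_ ((Submodule.ne_bot_iff _).2 ⟨v₀, ⟨1, by rw [hΦap, map_one]; rfl⟩, hv₀⟩)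
    rintro _ ⟨z, rfl⟩
    obtain ⟨g, rfl⟩ := AdjoinRoot.mk_surjective z
    refine ⟨AdjoinRoot.mk μ (X * g), ?_⟩
    rw [hΦap, hΦap, hρmk, hρmk, map_mul, aeval_X]
    rfl
  let e : AdjoinRoot μ ≃ₗ[F] V := LinearEquiv.ofBijective Φ ⟨hΦi, LinearMap.range_eq_top.1 hΦr⟩
  have he : ∀ z, e z = ρ z v₀ := fun z => rfl
  set y := e.symm (T v₀) with hy
  have hTv : ρ y v₀ = T v₀ := by rw [← he, hy, e.apply_symm_apply]
  have hTy : T = ρ y := by
    refine LinearMap.ext fun v => ?_
    obtain ⟨z, rfl⟩ := e.surjective v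
    obtain ⟨g, rfl⟩ := AdjoinRoot.mk_surjective z
    rw [he, hρmk]
    have hcg : Commute T (aeval C g) :=
      Algebra.commute_of_mem_adjoin_singleton_of_commute (aeval_mem_adjoin_singleton F C) hc.symm
    rw [← Module.End.mul_apply, hcg.eq, Module.End.mul_apply, ← hTv, ← Module.End.mul_apply, ← hρmk, ← map_mul,
      mul_comm, map_mul, Module.End.mul_apply]
  have hdim : finrank F (AdjoinRoot μ) = finrank F V := e.finrank_eq
  have hnorm : LinearMap.det T = Algebra.norm F y := by
    have h1 : T = (e : AdjoinRoot μ →ₗ[F] V) ∘ₗ (Algebra.lmul F (AdjoinRoot μ) y) ∘ₗ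
        (e.symm : V →ₗ[F] AdjoinRoot μ) := by
      refine LinearMap.ext fun v => ?_
      obtain ⟨z, rfl⟩ := e.surjective v
      show T (e z) = e (y * e.symm (e z))
      rw [e.symm_apply_apply, hTy, he, he, map_mul, Module.End.mul_apply]
    rw [h1, LinearMap.det_conj]
    rfl
  constructor
  · intro j hj
    have h1 := congrArg (algebraMap F (AdjoinRoot μ)) hj
    rw [map_pow, hnorm, map_one, FiniteField.algebraMap_norm_eq_pow_sum, hdim, Nat.card_eq_fintype_card,
      ← pow_mul] at h1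
    rw [hTy, ← map_pow, h1, map_one]
  · intro M hM
    have hy0 : y ≠ 0 := fun h0 => hdet (by rw [hnorm, h0, Algebra.norm_zero])
    have h1 : y ^ (M * (Fintype.card F - 1)) = 1 := ρ.toRingHom.injective (by
      show ρ _ = ρ 1
      rw [map_pow, ← hTy, hM, map_one])
    obtain ⟨c, hc'⟩ := exists_of_pow_card (F := F) (z := y ^ M) (by
      rw [show Fintype.card F = Fintype.card F - 1 + 1 by have := Fintype.card_pos (α := F); omega, pow_succ,
        ← pow_mul, h1, one_mul])
    refine ⟨c, ?_⟩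
    rw [hTy, ← map_pow, ← hc', AlgHom.commutes, Algebra.algebraMap_eq_smul_one]

end Cfsg.Agent.GLOrders
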