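import Cfsg.Agent.Lib.GLOrders.SylowTorus
import Cfsg.Agent.Lib.Forms.SpOrder
import Cfsg.Agent.Lib.WordLaws.Classical

/-!
Sylow `r`-subgroups of `Sp_{2n}(q)` for an odd prime `r > n` not dividing `q`.
-/

set_option autoImplicit false
set_option linter.unusedSectionVars false

namespace Cfsg.Agent.GLOrders

open scoped Matrix

variable {F : Type*} [Field F] [Fintype F] {r : ℕ} [hr : Fact r.Prime]

theorem factorization_pow_mul_sub_one {q k : ℕ} (hq : 2 ≤ q) (hrq : ¬ r ∣ q) (hk : 1 ≤ k)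
    (hrk : ¬ r ∣ k) : (q ^ (orderOf (q : ZMod r) * k) - 1).factorization r = expo r q := by
  set d := orderOf (q : ZMod r) with hd
  have hd0 : 0 < d := orderOf_pos' hrq
  have h1 : (q ^ d - 1) * (∑ j ∈ Finset.range k, (q ^ d) ^ j) = q ^ (d * k) - 1 := by
    rw [pow_mul]
    have h := geom_sum_mul (((q ^ d : ℕ) : ℤ)) k
    have h' : (((q ^ d - 1) * (∑ j ∈ Finset.range k, (q ^ d) ^ j) : ℕ) : ℤ) = (((q ^ d) ^ k - 1 : ℕ) : ℤ) := by
      push_cast [Nat.cast_sub (Nat.one_le_pow _ _ (show 0 < q by omega)),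
        Nat.cast_sub (Nat.one_le_pow _ _ (show 0 < q ^ d by positivity))]
      push_cast at h
      rw [mul_comm]; exact h
    exact_mod_cast h'
  have hS : ¬ r ∣ ∑ j ∈ Finset.range k, (q ^ d) ^ j := by
    rw [← ZMod.natCast_eq_zero_iff]
    push_cast
    rw [show (q : ZMod r) ^ d = 1 from pow_orderOf_eq_one _]
    simp only [one_pow, Finset.sum_const, Finset.card_range, nsmul_eq_mul, mul_one]
    rw [ZMod.natCast_eq_zero_iff]
    exact hrk
  have hne : q ^ d - 1 ≠ 0 := Nat.sub_ne_zero_of_lt (Nat.one_lt_pow hd0.ne' (by omega))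
  rw [← h1, Nat.factorization_mul hne (fun h => hS (by rw [h]; exact dvd_zero r)),
    Finsupp.add_apply, Nat.factorization_eq_zero_of_not_dvd hS, add_zero, hd, factorization_pow_order hq hrq]

theorem factorization_pow_two_mul_sub_one {q i : ℕ} (hq : 2 ≤ q) (hr2 : r ≠ 2) (hrq : ¬ r ∣ q)
    (hi : 1 ≤ i) (hir : i < r) :
    (q ^ (2 * i) - 1).factorization r = if orderOf (q : ZMod r) ∣ 2 * i then expo r q else 0 := by
  split_ifs with h
  · obtain ⟨k, hk⟩ := h
    have hk0 : 1 ≤ k := Nat.one_le_iff_ne_zero.2 (by rintro rfl; omega)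
    have hrk : ¬ r ∣ k := by
      intro h
      have : r ∣ 2 * i := hk ▸ h.mul_left _
      rcases hr.out.dvd_mul.1 this with h2 | h2
      · exact hr2 ((Nat.prime_dvd_prime_iff_eq hr.out Nat.prime_two).1 h2)
      · exact absurd (Nat.le_of_dvd hi h2) (by omega)
    rw [hk, factorization_pow_mul_sub_one hq hrq hk0 hrk]
  · exact Nat.factorization_eq_zero_of_not_dvd fun h' => h ((dvd_pow_sub_one_iff (by omega) _).1 h')

theorem factorization_card_Sp {q n : ℕ} (hq : Fintype.card F = q) (hr2 : r ≠ 2) (hrn : n < r)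
    (hrq : ¬ r ∣ q) : (Nat.card (Matrix.symplecticGroup (Fin n) F)).factorization r =
      ((Finset.Icc 1 n).filter (fun i => orderOf (q : ZMod r) ∣ 2 * i)).card * expo r q := by
  classical
  have hq2 : 2 ≤ q := hq ▸ two_le_card F
  have hne : ∀ i ∈ Finset.range n, q ^ (2 * (i + 1)) - 1 ≠ 0 := fun i _ =>
    Nat.sub_ne_zero_of_lt (Nat.one_lt_pow (by omega) (by omega))
  rw [FormsLib.card_symplecticGroup, hq, Nat.factorization_mul (by positivity) (Finset.prod_ne_zero_iff.2 hne),
    Finsupp.add_apply, Nat.factorization_eq_zero_of_not_dvd (fun h => hrq (hr.out.dvd_of_dvd_pow h)), zero_add,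
    Nat.factorization_prod_apply hne]
  rw [Finset.sum_congr rfl (fun i hi => factorization_pow_two_mul_sub_one hq2 hr2 hrq
    (Nat.succ_pos i) (by have := Finset.mem_range.1 hi; omega)), ← Finset.sum_filter, Finset.sum_const,
    smul_eq_mul]
  congr 1
  refine Finset.card_nbij' (fun i => i + 1) (fun i => i - 1) ?_ ?_ ?_ ?_
  · intro i hi; simp at hi ⊢; exact ⟨by omega, hi.2⟩
  · intro i hi
    simp at hi ⊢
    exact ⟨by omega, by rw [Nat.sub_add_cancel hi.1.1]; exact hi.2⟩
  · intro i hi; simp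
  · intro i hi; simp at hi; show i - 1 + 1 = i; omega

theorem card_filter_dvd_Icc (n d : ℕ) : ((Finset.Icc 1 n).filter (d ∣ ·)).card = n / d := by
  rw [← Nat.Ioc_filter_dvd_card_eq_div]
  congr 1

/-- The index map regrouping `k` copies of `2e` coordinates and a remainder inside `2n` coordinates. -/
def regroup (e k l n : ℕ) (h : (Fin e × Fin k) ⊕ Fin l ≃ Fin n) :
    ((Fin e ⊕ Fin e) × Fin k) ⊕ (Fin l ⊕ Fin l) ≃ Fin n ⊕ Fin n :=
  ((Equiv.sumProdDistrib _ _ _).sumCongr (Equiv.refl _)).trans ((Equiv.sumSumSumComm _ _ _ _).trans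
    (h.sumCongr h))

theorem J_regroup (e k l n : ℕ) (h : (Fin e × Fin k) ⊕ Fin l ≃ Fin n) :
    (Matrix.J (Fin n) F).submatrix (regroup e k l n h) (regroup e k l n h) =
      Matrix.fromBlocks (Matrix.blockDiagonal fun _ : Fin k => Matrix.J (Fin e) F) 0 0
        (Matrix.J (Fin l) F) := by
  ext x y
  rcases x with ⟨a | a, i⟩ | (a | a) <;> rcases y with ⟨b | b, j⟩ | (b | b) <;>
    simp [regroup, Matrix.J, Matrix.blockDiagonal_apply, Matrix.one_apply, ← ite_and] <;>
    (split_ifs <;> simp_all)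

/-- `k` copies of `Sp_{2e}` inside `Sp_{2n}` for `e k ≤ n`. -/
theorem exists_multi_Sp {e k n : ℕ} (h : e * k ≤ n) :
    ∃ f : (Fin k → Matrix.symplecticGroup (Fin e) F) →* Matrix.symplecticGroup (Fin n) F,
      Function.Injective f := by
  let h₁ : (Fin e × Fin k) ⊕ Fin (n - e * k) ≃ Fin n :=
    ((finProdFinEquiv.sumCongr (Equiv.refl _)).trans finSumFinEquiv).trans
      (finCongr (by omega))
  set σ := regroup e k (n - e * k) n h₁ with hσ
  let R := Matrix.reindexAlgEquiv F F σ
  let ψ : (Fin k → Matrix.symplecticGroup (Fin e) F) →* Matrix (Fin n ⊕ Fin n) (Fin n ⊕ Fin n) F :=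
    { toFun := fun x => R (Matrix.fromBlocks (Matrix.blockDiagonal fun i => (x i).1) 0 0 1)
      map_one' := by
        show R (Matrix.fromBlocks (Matrix.blockDiagonal (1 : Fin k → Matrix (Fin e ⊕ Fin e) (Fin e ⊕ Fin e) F)) 0 0 1) = 1
        rw [Matrix.blockDiagonal_one, Matrix.fromBlocks_one, map_one]
      map_mul' := fun x y => by
        rw [← map_mul, Matrix.fromBlocks_multiply]
        simp [← Matrix.blockDiagonal_mul] }
  have hJ : R (Matrix.fromBlocks (Matrix.blockDiagonal fun _ : Fin k => Matrix.J (Fin e) F) 0 0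
      (Matrix.J (Fin (n - e * k)) F)) = Matrix.J (Fin n) F := by
    rw [← J_regroup e k (n - e * k) n h₁, ← hσ]
    show Matrix.reindex σ σ _ = _
    rw [Matrix.reindex_apply, Matrix.submatrix_submatrix]
    simp
  have hmem : ∀ x, ψ x ∈ Matrix.symplecticGroup (Fin n) F := by
    intro x
    rw [SymplecticGroup.mem_iff, ← hJ]
    show R _ * R _ * (R _)ᵀ = _
    have ht : ∀ M, (R M)ᵀ = R Mᵀ := fun M => by
      show (Matrix.reindex σ σ M)ᵀ = Matrix.reindex σ σ Mᵀ
      exact Matrix.transpose_reindex σ σ M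
    rw [ht, ← map_mul, ← map_mul, Matrix.fromBlocks_transpose, Matrix.blockDiagonal_transpose,
      Matrix.fromBlocks_multiply, Matrix.fromBlocks_multiply]
    have hx : ∀ i, (x i).1 * Matrix.J (Fin e) F * (x i).1ᵀ = Matrix.J (Fin e) F := fun i =>
      SymplecticGroup.mem_iff.1 (x i).2
    simp [← Matrix.blockDiagonal_mul, hx]
  refine ⟨ψ.codRestrict _ hmem, fun x y hxy => funext fun i => Subtype.ext ?_⟩
  have h1 := (Matrix.fromBlocks_inj.1 (R.injective (congrArg Subtype.val hxy))).1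
  exact congrFun (Matrix.blockDiagonal_injective h1) i

theorem exists_cyclic_Sp {q e : ℕ} (hq : Fintype.card F = q) (hr2 : r ≠ 2) (hrq : ¬ r ∣ q)
    (he : orderOf (q : ZMod r) = 2 * e) :
    ∃ f : Multiplicative (ZMod (r ^ expo r q)) →* Matrix.symplecticGroup (Fin e) F,
      Function.Injective f := by
  classical
  haveI : NeZero (r ^ expo r q) := ⟨pow_ne_zero _ hr.out.ne_zero⟩
  have he0 : 0 < e := by have := orderOf_pos' (r := r) hrq; omega
  have hdr : orderOf (q : ZMod r) < r := by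
    have h := orderOf_dvd_of_pow_eq_one (ZMod.pow_card_sub_one_eq_one (natCast_zmod_ne_zero hrq))
    have := Nat.le_of_dvd (by have := hr.out.two_le; omega) h
    have := hr.out.two_le
    omega
  have hSp : (Nat.card (Matrix.symplecticGroup (Fin e) F)).factorization r = expo r q := by
    rw [factorization_card_Sp hq hr2 (by omega) hrq, he]
    rw [Finset.filter_congr (q := fun i => e ∣ i) (fun i _ => Nat.mul_dvd_mul_iff_left two_pos),
      card_filter_dvd_Icc, Nat.div_self he0, one_mul]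
  let P : Sylow r (Matrix.symplecticGroup (Fin e) F) := default
  let ι₁ : Matrix.symplecticGroup (Fin e) F →* GL (Fin e ⊕ Fin e) F :=
    (Matrix.symplecticGroup (Fin e) F).subtype.toHomUnits
  let σ : Fin e ⊕ Fin e ≃ Fin (2 * e) := finSumFinEquiv.trans (finCongr (two_mul e).symm)
  let ι₂ : GL (Fin e ⊕ Fin e) F →* GL (Fin (2 * e)) F :=
    Units.map (Matrix.reindexAlgEquiv F F σ).toMulEquiv.toMonoidHom
  let j : ↥(P : Subgroup (Matrix.symplecticGroup (Fin e) F)) →* GL (Fin (2 * e)) F :=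
    (ι₂.comp ι₁).comp (P : Subgroup (Matrix.symplecticGroup (Fin e) F)).subtype
  have hj : Function.Injective j := by
    intro a b hab
    have h1 : Matrix.reindexAlgEquiv F F σ a.1.1 = Matrix.reindexAlgEquiv F F σ b.1.1 :=
      congrArg Units.val hab
    exact Subtype.ext (Subtype.ext ((Matrix.reindexAlgEquiv F F σ).injective h1))
  have hcard : Nat.card ↥(P : Subgroup (Matrix.symplecticGroup (Fin e) F)) = r ^ expo r q := by
    rw [P.card_eq_multiplicity, hSp]
  let Q : Sylow r (GL (Fin (2 * e)) F) := Sylow.ofCard j.range (by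
    rw [← Nat.card_congr (MonoidHom.ofInjective hj).toEquiv, hcard,
      factorization_card_GL hq (by omega) hrq, Nat.Ioc_filter_dvd_card_eq_div, he,
      Nat.div_self (by omega), one_mul])
  obtain ⟨E⟩ := sylow_GL_equiv hq (2 * e) (by omega) hrq Q
  let E' : ↥(P : Subgroup (Matrix.symplecticGroup (Fin e) F)) ≃*
      (Fin (2 * e / orderOf (q : ZMod r)) → Multiplicative (ZMod (r ^ expo r q))) :=
    (MonoidHom.ofInjective hj).trans E
  refine ⟨(P : Subgroup (Matrix.symplecticGroup (Fin e) F)).subtype.comp (E'.symm.toMonoidHom.comp (Pi.constMonoidHom _ _)),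
    Subtype.val_injective.comp (E'.symm.injective.comp fun a b hab => ?_)⟩
  have hne : 2 * e / orderOf (q : ZMod r) = 1 := by rw [he]; exact Nat.div_self (by omega)
  exact congrFun hab ⟨0, by omega⟩

theorem sylow_Sp_equiv {q : ℕ} (hq : Fintype.card F = q) (n : ℕ) (hr2 : r ≠ 2) (hrn : n < r)
    (hrq : ¬ r ∣ q) (P : Sylow r (Matrix.symplecticGroup (Fin n) F)) :
    Nonempty (↥(P : Subgroup (Matrix.symplecticGroup (Fin n) F)) ≃*
      (Fin ((Finset.Icc 1 n).filter (fun i => orderOf (q : ZMod r) ∣ 2 * i)).card →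
        Multiplicative (ZMod (r ^ expo r q)))) := by
  haveI : NeZero (r ^ expo r q) := ⟨pow_ne_zero _ hr.out.ne_zero⟩
  suffices h : ∃ f : (Fin ((Finset.Icc 1 n).filter (fun i => orderOf (q : ZMod r) ∣ 2 * i)).card →
      Multiplicative (ZMod (r ^ expo r q))) →* Matrix.symplecticGroup (Fin n) F, Function.Injective f by
    obtain ⟨f, hf⟩ := h
    refine sylow_equiv_of_injective f hf ?_ P
    rw [card_torus, factorization_card_Sp hq hr2 hrn hrq]
  rcases Nat.even_or_odd (orderOf (q : ZMod r)) with ⟨e, he⟩ | hodd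
  · have he' : orderOf (q : ZMod r) = 2 * e := by omega
    rw [Finset.filter_congr (q := fun i => e ∣ i)
      (fun i _ => by rw [he']; exact Nat.mul_dvd_mul_iff_left two_pos), card_filter_dvd_Icc]
    obtain ⟨g, hg⟩ := exists_cyclic_Sp hq hr2 hrq he'
    obtain ⟨f, hf⟩ := exists_multi_Sp (F := F) (e := e) (k := n / e) (n := n) (Nat.mul_div_le n e)
    exact ⟨f.comp (MonoidHom.piMap fun _ => g), hf.comp fun x y h => funext fun i => hg (congrFun h i)⟩
  · rw [Finset.filter_congr (q := fun i => orderOf (q : ZMod r) ∣ i)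
      (fun i _ => (Nat.coprime_two_right.2 hodd).dvd_mul_left), card_filter_dvd_Icc]
    obtain ⟨f, hf⟩ := exists_torus_GL (F := F) (n := n) hq hrq
    exact ⟨(WordLaws.leviSp n).comp f, (WordLaws.leviSp_injective n).comp hf⟩

end Cfsg.Agent.GLOrders
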