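import Cfsg.Agent.Lib.GLOrders.SympOrders
import Cfsg.Agent.Lib.FormTorus.Orders
import Cfsg.Agent.Lib.FormTorus.Realize
import Cfsg.Agent.Lib.Forms.SpOrder

/-!
Elements of `PSp_{2n}(q)` built from `SL₂` over extension fields, any characteristic.
-/

set_option autoImplicit false

namespace Cfsg.Agent.GLOrders

open Module FormsLib FormTorus Matrix
open scoped MatrixGroups

variable {F : Type*} [Field F] [Fintype F]

/-- A cyclic torus element of the quadratic extension inside `SL₂`. -/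
theorem exists_sl2_of_dvd_add (p : ℕ) [hp : Fact p.Prime] {K : Type*} [Field K] [Finite K] [CharP K p]
    {o : ℕ} (ho : o ∣ Nat.card K + 1) : ∃ M : SL(2, K), orderOf M = o := by
  classical
  haveI := Fintype.ofFinite K
  set L := FiniteField.Extension K p 2
  have hL : Nat.card L = Nat.card K ^ 2 := FiniteField.natCard_extension K p _
  haveI : Finite L := Nat.finite_of_card_ne_zero (by rw [hL]; exact pow_ne_zero _ Nat.card_pos.ne')
  haveI : Module.Finite K L := Module.Finite.of_finite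
  let b : Basis (Fin 2) K L := Module.finBasisOfFinrankEq K L (FiniteField.finrank_extension K p _)
  set Q := Nat.card K with hQ
  have hQ1 : 1 < Q := Finite.one_lt_card
  obtain ⟨w, hw⟩ := IsCyclic.exists_generator (α := Lˣ)
  have hwo : orderOf w = (Q - 1) * (Q + 1) := by
    rw [orderOf_eq_card_of_forall_mem_zpowers hw, Nat.card_units, hL, mul_comm, ← Nat.sq_sub_sq, one_pow]
  obtain ⟨c, hc⟩ := ho
  have hdet : ∀ j, Q - 1 ∣ j → (Algebra.leftMulMatrix b ((w : L) ^ j)).det = 1 := by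
    rintro j ⟨i, rfl⟩
    rw [map_pow, Matrix.det_pow, pow_mul]
    have hne : (Algebra.leftMulMatrix b (w : L)).det ≠ 0 := fun h0 => by
      have h1 : (Algebra.leftMulMatrix b (w : L)).det * (Algebra.leftMulMatrix b ((w⁻¹ : Lˣ) : L)).det = 1 := by
        rw [← Matrix.det_mul, ← map_mul, Units.mul_inv, map_one, Matrix.det_one]
      rw [h0, zero_mul] at h1
      exact zero_ne_one h1
    rw [hQ, Nat.card_eq_fintype_card, FiniteField.pow_card_sub_one_eq_one _ hne, one_pow]
  refine ⟨⟨Algebra.leftMulMatrix b ((w : L) ^ ((Q - 1) * c)), hdet _ (dvd_mul_right _ _)⟩, ?_⟩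
  set M : SL(2, K) := ⟨Algebra.leftMulMatrix b ((w : L) ^ ((Q - 1) * c)), hdet _ (dvd_mul_right _ _)⟩
  have hM : ∀ j : ℕ, M ^ j = 1 ↔ ((Q - 1) * (Q + 1)) ∣ (Q - 1) * c * j := by
    intro j
    rw [← hwo, orderOf_dvd_iff_pow_eq_one]
    constructor
    · intro h
      have h1 := congrArg Subtype.val h
      rw [Matrix.SpecialLinearGroup.coe_pow] at h1
      simp only [M] at h1
      rw [← map_pow, ← pow_mul] at h1
      refine Units.ext (Algebra.leftMulMatrix_injective b ?_)
      rw [Units.val_pow_eq_pow_val, h1, Units.val_one, map_one]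
      rfl
    · intro h
      refine Subtype.ext ?_
      rw [Matrix.SpecialLinearGroup.coe_pow]
      simp only [M]
      rw [← map_pow, ← pow_mul, ← Units.val_pow_eq_pow_val, h, Units.val_one, map_one]
      rfl
  have hopos : 0 < o := Nat.pos_of_ne_zero fun h0 => by rw [h0, zero_mul] at hc; omega
  have hcpos : 0 < c := Nat.pos_of_ne_zero fun h0 => by rw [h0, mul_zero] at hc; omega
  refine Nat.dvd_antisymm (orderOf_dvd_of_pow_eq_one ((hM o).mpr ?_)) ?_
  · rw [hc, mul_assoc, mul_comm c o]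
  · have h := (hM _).mp (pow_orderOf_eq_one M)
    rw [hc, mul_assoc, Nat.mul_dvd_mul_iff_left (by omega), mul_comm o c, Nat.mul_dvd_mul_iff_left hcpos] at h
    exact h

theorem exists_sl2_of_dvd_sub {K : Type*} [Field K] [Finite K]
    {o : ℕ} (ho : o ∣ Nat.card K - 1) : ∃ M : SL(2, K), orderOf M = o := by
  obtain ⟨g0, hg0⟩ := IsCyclic.exists_generator (α := Kˣ)
  obtain ⟨y, hy⟩ := FormTorus.exists_orderOf_eq g0 (d := o)
    (by rwa [orderOf_eq_card_of_forall_mem_zpowers hg0, Nat.card_units])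
  let φ : Kˣ →* SL(2, K) :=
    { toFun := fun u => ⟨Matrix.diagonal ![(u : K), ((u⁻¹ : Kˣ) : K)], by simp [Matrix.det_diagonal, Fin.prod_univ_two]⟩
      map_one' := Subtype.ext (by
        ext i j; fin_cases i <;> fin_cases j <;> simp)
      map_mul' := fun u v => Subtype.ext (by
        show Matrix.diagonal _ = Matrix.diagonal _ * Matrix.diagonal _
        rw [Matrix.diagonal_mul_diagonal]
        congr 1
        funext i; fin_cases i <;> simp [mul_comm]) }
  have hφ : Function.Injective φ := fun u v h => Units.ext (by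
    have := congrFun (congrFun (congrArg Subtype.val h) 0) 0
    exact this)
  exact ⟨φ y, by rw [orderOf_injective φ hφ, hy]⟩

theorem exists_sl2_char (p : ℕ) [hp : Fact p.Prime] {K : Type*} [Field K] [CharP K p] :
    ∃ M : SL(2, K), orderOf M = p := by
  refine ⟨Matrix.SpecialLinearGroup.transvection (show (0 : Fin 2) ≠ 1 by decide) (1 : K), ?_⟩
  have h : ∀ j : ℕ, ((Matrix.SpecialLinearGroup.transvection (show (0 : Fin 2) ≠ 1 by decide) (1 : K) ^ j :
      SL(2, K)) : Matrix (Fin 2) (Fin 2) K) = Matrix.transvection 0 1 (j : K) := by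
    intro j
    induction j with
    | zero => rw [pow_zero, Nat.cast_zero, Matrix.transvection_zero]; rfl
    | succ j ih =>
      rw [pow_succ, Matrix.SpecialLinearGroup.coe_mul, ih]
      show Matrix.transvection (0 : Fin 2) 1 (j : K) * Matrix.transvection 0 1 1 = _
      rw [Matrix.transvection_mul_transvection_same _ _ (show (0 : Fin 2) ≠ 1 by decide), Nat.cast_succ]
  refine orderOf_eq_prime (Subtype.ext ?_) fun h1 => ?_
  · rw [h, CharP.cast_eq_zero, Matrix.transvection_zero]; rfl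
  · have := congrArg Subtype.val h1
    rw [Matrix.SpecialLinearGroup.transvection_coe] at this
    simpa [Matrix.transvection, Matrix.single] using congrFun (congrFun this 0) 1

/-- An `SL₂` element over an extension of degree `e` as an isometry of the standard `2e`-space. -/
theorem exists_iso_of_sl2 {K : Type*} [Field K] [Finite K] [Algebra F K] {e : ℕ}
    (he : finrank F K = e) (M : SL(2, K)) :
    ∃ g : (Fin e ⊕ Fin e → F) ≃ₗ[F] (Fin e ⊕ Fin e → F), Preserves (spB e F) g ∧
      ∀ j, en g ^ j = 1 ↔ orderOf M ∣ j := by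
  classical
  haveI : Module.Finite F K := Module.Finite.of_finite
  let V := Fin 2 → K
  let B : LinearMap.BilinForm F V :=
    LinearMap.mk₂ F (fun u v => Algebra.trace F K (u 0 * v 1 - u 1 * v 0))
      (fun a a' b => by rw [← map_add]; congr 1; show (a 0 + a' 0) * b 1 - (a 1 + a' 1) * b 0 = _; ring)
      (fun c a b => by rw [← map_smul]; congr 1; show c • a 0 * b 1 - c • a 1 * b 0 = _; simp only [smul_mul_assoc, smul_sub])
      (fun a b b' => by rw [← map_add]; congr 1; show a 0 * (b 1 + b' 1) - a 1 * (b 0 + b' 0) = _; ring)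
      (fun c a b => by rw [← map_smul]; congr 1; show a 0 * c • b 1 - a 1 * c • b 0 = _; simp only [mul_smul_comm, smul_sub])
  have hB : ∀ u v, B u v = Algebra.trace F K (u 0 * v 1 - u 1 * v 0) := fun u v => rfl
  have hA : LinearMap.IsAlt B := fun u => by rw [hB, mul_comm, sub_self, map_zero]
  have hN1 : ∀ u, (∀ v, B u v = 0) → u = 0 := by
    intro u hu
    have h0 : u 0 = 0 := (traceForm_nondegenerate F K).1 _ fun z => by
      have := hu ![0, z]
      rw [hB] at this
      simpa [Algebra.traceForm_apply] using this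
    have h1 : u 1 = 0 := (traceForm_nondegenerate F K).1 _ fun z => by
      have := hu ![-z, 0]
      rw [hB] at this
      simpa [Algebra.traceForm_apply] using this
    funext i; fin_cases i <;> assumption
  have hN : LinearMap.Nondegenerate B :=
    ⟨hN1, fun v hv => hN1 v fun u => by rw [← hA.neg u v, hv u, neg_zero]⟩
  let g0 : V ≃ₗ[F] V := (Matrix.SpecialLinearGroup.toLin' M).restrictScalars F
  have hg0 : ∀ v, g0 v = (M : Matrix (Fin 2) (Fin 2) K) *ᵥ v := fun v => rfl
  have hpres : ∀ u v, B (g0 u) (g0 v) = B u v := by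
    intro u v
    rw [hB, hB, hg0, hg0]
    congr 1
    have hd : (M : Matrix (Fin 2) (Fin 2) K) 0 0 * (M : Matrix (Fin 2) (Fin 2) K) 1 1 -
        (M : Matrix (Fin 2) (Fin 2) K) 0 1 * (M : Matrix (Fin 2) (Fin 2) K) 1 0 = 1 := by
      rw [← Matrix.det_fin_two]; exact M.2
    simp only [Matrix.mulVec, dotProduct, Fin.sum_univ_two]
    linear_combination (u 0 * v 1 - u 1 * v 0) * hd
  have hdim : finrank F V = 2 * e := by
    rw [Module.finrank_pi_fintype]; simp [he]
  obtain ⟨Φ, hΦ⟩ := exists_sp_frame hA hN hdim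
  refine ⟨(Φ.symm.trans g0).trans Φ, fun u v => ?_, fun j => ?_⟩
  · show spB e F (Φ (g0 (Φ.symm u))) (Φ (g0 (Φ.symm v))) = _
    rw [← hΦ, hpres, hΦ, Φ.apply_symm_apply, Φ.apply_symm_apply]
  · have hpow : ∀ v, (en ((Φ.symm.trans g0).trans Φ) ^ j) v =
        Φ (((M ^ j : SL(2, K)) : Matrix (Fin 2) (Fin 2) K) *ᵥ Φ.symm v) := by
      induction j with
      | zero => intro v; simp
      | succ j ih =>
        intro v
        rw [pow_succ, Module.End.mul_apply, ih]
        show Φ (_ *ᵥ Φ.symm (Φ (g0 (Φ.symm v)))) = _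
        rw [Φ.symm_apply_apply, hg0, pow_succ, Matrix.SpecialLinearGroup.coe_mul, Matrix.mulVec_mulVec]
    rw [orderOf_dvd_iff_pow_eq_one]
    constructor
    · intro h
      refine Subtype.ext (Matrix.ext_of_mulVec_single fun i => Φ.injective ?_)
      have := hpow (Φ (Pi.single i 1))
      rw [h, Φ.symm_apply_apply] at this
      rw [← this, Matrix.SpecialLinearGroup.coe_one, Matrix.one_mulVec]
      rfl
    · intro h
      refine LinearMap.ext fun v => ?_
      rw [hpow, h, Matrix.SpecialLinearGroup.coe_one, Matrix.one_mulVec, Φ.apply_symm_apply]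
      rfl

omit [Fintype F] in
theorem end_neg_one_eq_one {V : Type*} [AddCommGroup V] [Module F V] (h : (-1 : F) = 1) :
    (-1 : Module.End F V) = 1 := LinearMap.ext fun v => by
  rw [LinearMap.neg_apply, Module.End.one_apply, ← neg_one_smul F v, h, one_smul]

theorem pos_orderOf_card {r : ℕ} (hr : r.Prime) (p : ℕ) [Fact p.Prime] [CharP F p] (hrp : r ≠ p) :
    0 < orderOf ((Fintype.card F : ℕ) : ZMod r) := by
  haveI := Fact.mk hr
  exact orderOf_pos_iff.mpr (isOfFinOrder_iff_pow_eq_one.mpr ⟨r - 1, by have := hr.two_le; omega,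
    ZMod.pow_card_sub_one_eq_one (card_ne_zero_zmod hr p hrp)⟩)

omit [Fintype F] in
/-- An isometry padded by the identity. -/
theorem extend_iso {e m o : ℕ} (hem : e ≤ m) {g : (Fin e ⊕ Fin e → F) ≃ₗ[F] (Fin e ⊕ Fin e → F)}
    (hg : Preserves (spB e F) g) (hgj : ∀ j, en g ^ j = 1 ↔ o ∣ j) :
    ∃ h : (Fin m ⊕ Fin m → F) ≃ₗ[F] (Fin m ⊕ Fin m → F), Preserves (spB m F) h ∧
      ∀ j, en h ^ j = 1 ↔ o ∣ j := by
  let B := prodB (RingHom.id F) (spB e F) (spB (m - e) F)
  have hA : LinearMap.IsAlt B := fun v => by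
    rw [prodB_apply, spB_alt, spB_alt, add_zero]
  have hN1 : ∀ u, (∀ v, B u v = 0) → u = 0 := fun u hu =>
    Prod.ext (spB_nondeg.1 _ fun w => by simpa [B, prodB_apply] using hu (w, 0))
      (spB_nondeg.1 _ fun w => by simpa [B, prodB_apply] using hu (0, w))
  have hN : LinearMap.Nondegenerate B :=
    ⟨hN1, fun v hv => hN1 v fun u => by rw [← hA.neg u v, hv u, neg_zero]⟩
  have hdim : finrank F ((Fin e ⊕ Fin e → F) × (Fin (m - e) ⊕ Fin (m - e) → F)) = 2 * m := by
    simp [Module.finrank_prod]; omega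
  obtain ⟨Φ, hΦ⟩ := exists_sp_frame hA hN hdim
  let g' := g.prodCongr (LinearEquiv.refl F (Fin (m - e) ⊕ Fin (m - e) → F))
  refine ⟨(Φ.symm.trans g').trans Φ, fun u v => ?_, fun j => ?_⟩
  · show spB m F (Φ (g' (Φ.symm u))) (Φ (g' (Φ.symm v))) = _
    rw [← hΦ, show B (g' (Φ.symm u)) (g' (Φ.symm v)) = B (Φ.symm u) (Φ.symm v) from
      preserves_prodCongr hg preserves_one _ _, hΦ, Φ.apply_symm_apply, Φ.apply_symm_apply]
  · have hpow : ∀ v, (en ((Φ.symm.trans g').trans Φ) ^ j) v =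
        Φ ((en g ^ j) (Φ.symm v).1, (Φ.symm v).2) := by
      induction j with
      | zero => intro v; simp
      | succ j ih =>
        intro v
        rw [pow_succ, Module.End.mul_apply, ih]
        show Φ ((en g ^ j) (Φ.symm (Φ (g' (Φ.symm v)))).1, (Φ.symm (Φ (g' (Φ.symm v)))).2) = _
        rw [Φ.symm_apply_apply]
        rfl
    rw [← hgj]
    constructor
    · intro h
      refine LinearMap.ext fun u => ?_
      have := hpow (Φ (u, 0))
      rw [h, Φ.symm_apply_apply] at this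
      exact (congrArg Prod.fst (Φ.injective this)).symm
    · intro h
      refine LinearMap.ext fun v => ?_
      rw [hpow, h]
      exact Φ.apply_symm_apply v

variable (p : ℕ) [Fact p.Prime] [CharP F p]
include p

/-- An isometry of the standard `2e`-space of order `o`, for `o = p` or `o ∣ q^e ± 1`. -/
theorem exists_sp_iso {e o : ℕ} (he : 1 ≤ e)
    (ho : o = p ∨ o ∣ Fintype.card F ^ e + 1 ∨ o ∣ Fintype.card F ^ e - 1) :
    ∃ g : (Fin e ⊕ Fin e → F) ≃ₗ[F] (Fin e ⊕ Fin e → F), Preserves (spB e F) g ∧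
      ∀ j, en g ^ j = 1 ↔ o ∣ j := by
  haveI : NeZero e := ⟨by omega⟩
  set K := FiniteField.Extension F p e
  have hK : Nat.card K = Fintype.card F ^ e := by
    rw [FiniteField.natCard_extension F p, Nat.card_eq_fintype_card]
  haveI : Finite K := Nat.finite_of_card_ne_zero (by rw [hK]; positivity)
  haveI : CharP K p := charP_of_injective_algebraMap (algebraMap F K).injective p
  obtain ⟨M, hM⟩ : ∃ M : SL(2, K), orderOf M = o := by
    rcases ho with rfl | ho | ho
    · exact exists_sl2_char o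
    · exact exists_sl2_of_dvd_add p (hK.symm ▸ ho)
    · exact exists_sl2_of_dvd_sub (hK.symm ▸ ho)
  obtain ⟨g, hg, hgj⟩ := exists_iso_of_sl2 (F := F) (FiniteField.finrank_extension F p e) M
  exact ⟨g, hg, fun j => hM ▸ hgj j⟩

/-- An element of `PSp_{2n}(q)` from two orthogonal blocks. -/
theorem exists_two_block {n e o₁ o₂ : ℕ} (hen : e ≤ n) (hco : Nat.Coprime o₁ o₂)
    (hodd : (Odd o₁ ∧ Odd o₂) ∨ (-1 : F) = 1)
    {g₁ : (Fin e ⊕ Fin e → F) ≃ₗ[F] (Fin e ⊕ Fin e → F)}
    {g₂ : (Fin (n - e) ⊕ Fin (n - e) → F) ≃ₗ[F] (Fin (n - e) ⊕ Fin (n - e) → F)}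
    (hg₁ : Preserves (spB e F) g₁) (hg₂ : Preserves (spB (n - e) F) g₂)
    (h₁ : ∀ j, en g₁ ^ j = 1 ↔ o₁ ∣ j) (h₂ : ∀ j, en g₂ ^ j = 1 ↔ o₂ ∣ j) :
    ∃ x : Cfsg.PSp n F, o₁ * o₂ ∣ orderOf x := by
  let B := prodB (RingHom.id F) (spB e F) (spB (n - e) F)
  have hA : LinearMap.IsAlt B := fun v => by
    rw [prodB_apply, spB_alt, spB_alt, add_zero]
  have hN1 : ∀ u, (∀ v, B u v = 0) → u = 0 := fun u hu =>
    Prod.ext (spB_nondeg.1 _ fun w => by simpa [B, prodB_apply] using hu (w, 0))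
      (spB_nondeg.1 _ fun w => by simpa [B, prodB_apply] using hu (0, w))
  have hN : LinearMap.Nondegenerate B :=
    ⟨hN1, fun v hv => hN1 v fun u => by rw [← hA.neg u v, hv u, neg_zero]⟩
  have hdim : finrank F ((Fin e ⊕ Fin e → F) × (Fin (n - e) ⊕ Fin (n - e) → F)) = 2 * n := by
    simp [Module.finrank_prod]; omega
  obtain ⟨x, hx⟩ := exists_psp hA hN hdim (g₁.prodCongr g₂) (preserves_prodCongr hg₁ hg₂)
  refine ⟨x, ?_⟩
  set j := orderOf x
  have hpow : ∀ (i : ℕ) v, (en (g₁.prodCongr g₂) ^ i) v = ((en g₁ ^ i) v.1, (en g₂ ^ i) v.2) := by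
    intro i
    induction i with
    | zero => intro v; simp
    | succ i ih => intro v; rw [pow_succ, Module.End.mul_apply, ih, pow_succ, pow_succ]; rfl
  have hsplit : ∀ i, en (g₁.prodCongr g₂) ^ i = 1 → o₁ ∣ i ∧ o₂ ∣ i := by
    intro i hi
    refine ⟨(h₁ i).1 (LinearMap.ext fun u => ?_), (h₂ i).1 (LinearMap.ext fun u => ?_)⟩
    · have h' := congrArg Prod.fst (hpow i (u, 0))
      rw [hi] at h'
      exact h'.symm
    · have h' := congrArg Prod.snd (hpow i (0, u))
      rw [hi] at h'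
      exact h'.symm
  have hj := (hx _).1 (pow_orderOf_eq_one x)
  have h2j : en (g₁.prodCongr g₂) ^ (2 * j) = 1 := by
    rw [mul_comm, pow_mul, pow_two]
    rcases hj with h | h <;> rw [h]
    · exact one_mul _
    · exact LinearMap.ext fun v => neg_neg v
  refine hco.mul_dvd_of_dvd_of_dvd ?_ ?_ <;> rcases hodd with ⟨ho1, ho2⟩ | h1
  · exact (Nat.coprime_two_right.2 ho1).dvd_of_dvd_mul_left (hsplit _ h2j).1
  · exact (hsplit j (by rcases hj with h | h <;> simpa [end_neg_one_eq_one h1] using h)).1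
  · exact (Nat.coprime_two_right.2 ho2).dvd_of_dvd_mul_left (hsplit _ h2j).2
  · exact (hsplit j (by rcases hj with h | h <;> simpa [end_neg_one_eq_one h1] using h)).2

omit [CharP F p] [Fact p.Prime] in
/-- Splitting an element of order `a * b`. -/
theorem split_of_order {n a b : ℕ} (x : Cfsg.PSp n F) (hx : orderOf x = a * b) (ha : 1 < a) (hb : 1 < b)
    (hodd : Odd (a * b) ∨ (-1 : F) = 1) :
    ∃ S T : Module.End F (Fin n ⊕ Fin n → F), Commute S T ∧ S ^ a = 1 ∧ T ^ b = 1 ∧ S ≠ 1 ∧ T ≠ 1 ∧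
      (∀ u v, spB n F (S u) (S v) = spB n F u v) ∧ (∀ u v, spB n F (T u) (T v) = spB n F u v) := by
  obtain ⟨g, hg, hgj⟩ := exists_iso_of_psp x
  have hm := (hgj _).1 (hx ▸ pow_orderOf_eq_one x)
  obtain ⟨h, hh, hhm, hhj⟩ : ∃ h : Module.End F (Fin n ⊕ Fin n → F),
      (∀ u v, spB n F (h u) (h v) = spB n F u v) ∧ h ^ (a * b) = 1 ∧ ∀ j, h ^ j = 1 → x ^ j = 1 := by
    rcases hm with hm | hm
    · exact ⟨en g, hg, hm, fun j h => (hgj j).2 (Or.inl h)⟩
    rcases hodd with hodd | h1
    · have hneg : ∀ T : Module.End F (Fin n ⊕ Fin n → F), (-1 : F) • T = -T := fun T =>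
        LinearMap.ext fun v => neg_one_smul F (T v)
      refine ⟨(-1 : F) • en g, fun u v => ?_, ?_, fun j h => (hgj j).2 ?_⟩
      · rw [hneg]; simpa using hg u v
      · rw [_root_.smul_pow, hodd.neg_one_pow, hneg, show en g ^ (a * b) = -1 from hm]
        exact LinearMap.ext fun v => neg_neg v
      rw [_root_.smul_pow] at h
      rcases Nat.even_or_odd j with he | he
      · rw [he.neg_one_pow, one_smul] at h; exact Or.inl h
      · rw [he.neg_one_pow, hneg] at h
        refine Or.inr (LinearMap.ext fun v => neg_injective ?_)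
        exact (LinearMap.congr_fun h v).trans (neg_neg v).symm
    · rw [end_neg_one_eq_one h1] at hm
      exact ⟨en g, hg, hm, fun j h => (hgj j).2 (Or.inl h)⟩
  refine ⟨h ^ b, h ^ a, (Commute.refl h).pow_pow b a, by rw [← pow_mul, mul_comm, hhm],
    by rw [← pow_mul, hhm], fun he => ?_, fun he => ?_, GLOrders.preserves_pow hh b, GLOrders.preserves_pow hh a⟩
  · have := Nat.le_of_dvd (by omega) (hx ▸ orderOf_dvd_of_pow_eq_one (hhj _ he))
    nlinarith
  · have := Nat.le_of_dvd (by omega) (hx ▸ orderOf_dvd_of_pow_eq_one (hhj _ he))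
    nlinarith

omit p in
theorem dvd_pow_eta {r k η : ℕ} [Fact r.Prime] (hk : k = orderOf ((Fintype.card F : ℕ) : ZMod r)) (hk0 : 0 < k)
    (hη : (Odd k ∧ η = k) ∨ (Even k ∧ 2 * η = k)) {t : ℕ} (ht : Odd t) :
    (Odd k → r ∣ Fintype.card F ^ (η * t) - 1) ∧ (Even k → r ∣ Fintype.card F ^ (η * t) + 1) := by
  rcases hη with ⟨ho, rfl⟩ | ⟨he, hη⟩
  · exact ⟨fun _ => (orderOf_card_dvd_iff _).1 (hk ▸ dvd_mul_right _ _),
      fun he => absurd ho (Nat.not_odd_iff_even.2 he)⟩
  · refine ⟨fun ho => absurd ho (Nat.not_odd_iff_even.2 he), fun _ => ?_⟩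
    have h2 : (((Fintype.card F : ℕ) : ZMod r) ^ η) ^ 2 = 1 := by
      rw [← pow_mul, mul_comm, hη, hk, pow_orderOf_eq_one]
    have h1 : ((Fintype.card F : ℕ) : ZMod r) ^ η = -1 := by
      refine (sq_eq_one_iff.mp h2).resolve_left fun h => ?_
      have := Nat.le_of_dvd (by omega) (hk ▸ orderOf_dvd_of_pow_eq_one h)
      omega
    rw [← ZMod.natCast_eq_zero_iff, Nat.cast_add, Nat.cast_pow, pow_mul, h1, ht.neg_one_pow, Nat.cast_one,
      neg_add_cancel]

omit [Fintype F] [Fact p.Prime] [CharP F p] p in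
theorem card_PSp_dvd {n : ℕ} : Nat.card (Cfsg.PSp n F) ∣ Nat.card (Matrix.symplecticGroup (Fin n) F) :=
  Subgroup.card_quotient_dvd_card _

/-- A prime dividing `|PSp_{2n}(q)|` has `η ≤ n`. -/
theorem eta_le {n r k η : ℕ} [hr : Fact r.Prime] (hrp : r ≠ p) (hrG : r ∣ Nat.card (Cfsg.PSp n F))
    (hk : k = orderOf ((Fintype.card F : ℕ) : ZMod r)) (hη : (Odd k ∧ η = k) ∨ (Even k ∧ 2 * η = k)) :
    η ≤ n := by
  have h := hrG.trans card_PSp_dvd
  rw [FormsLib.card_symplecticGroup] at h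
  rcases (hr.out.dvd_mul).1 h with h | h
  · exact absurd ((ZMod.natCast_eq_zero_iff _ r).2 (hr.out.dvd_of_dvd_pow h)) (card_ne_zero_zmod hr.out p hrp)
  · obtain ⟨i, hi, hd⟩ := (Prime.dvd_finset_prod_iff hr.out.prime _).1 h
    have hi' := Finset.mem_range.1 hi
    have h1 : k ∣ 2 * (i + 1) := hk ▸ (orderOf_card_dvd_iff _).2 hd
    rcases hη with ⟨ho, rfl⟩ | ⟨he, rfl⟩
    · have := Nat.le_of_dvd (by omega) ((Nat.coprime_two_right.mpr ho).dvd_of_dvd_mul_left h1)
      omega
    · have := Nat.le_of_dvd (by omega) (Nat.dvd_of_mul_dvd_mul_left two_pos h1)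
      omega

end Cfsg.Agent.GLOrders
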